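import Groth.Agent.IsoNatLib.TrivLocus
import Groth.Agent.S6404
import Groth.Agent.AlgStLib.TrivAut
import Groth.Agent.AlgStLib.OpenSub
import Groth.Agent.AlgStLib.QC2
import Groth.Agent.AlgStLib.Morphisms
import Groth.Agent.AlgStLib.LocQClasses
import Groth.Prelude.Def_W4c2isonaturalstkIso

/-!
# The clean locus of a stack with proper inertia
-/

set_option autoImplicit false
set_option backward.isDefEq.respectTransparency false
set_option backward.isDefEq.respectTransparency.types false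
set_option linter.style.haveILetI false
universe u

noncomputable section

namespace Groth.Agent.IsoNatLib

open CategoryTheory CategoryTheory.Limits AlgebraicGeometry Opposite Groth.Agent.FibCatRep
  Groth.Agent.FibCat2Misc Groth.Agent.AlgSpLib Groth.Agent.AlgStLib
open _root_.AlgSp _root_.AlgSt

variable {S : Scheme.{u}} {𝒳 : AlgSt.Cat S}

local notation "LFP" => (LocP (S := S) @LocallyOfFinitePresentation)
local notation "PR" => (AlgSp.IsProperMor (S := S))

theorem clean_of_hom {η η' : 𝒳.obj} (m : η' ⟶ η) (h : IsoNat.IsClean η) : IsoNat.IsClean η' :=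
  fun x n σ hσ => h x (n ≫ m) σ hσ

/-- the inertia of an object is a space with a section, whose triviality is cleanliness -/
theorem exists_cleanOpen (hg : FibCat.IsFibGrpd 𝒳.p)
    (hl : RepByAlgSpWith LFP (FibCat.inertiaToBase (FibCat.toSelf 𝒳)))
    (hp : RepByAlgSpWith PR (FibCat.inertiaToBase (FibCat.toSelf 𝒳))) (η : 𝒳.obj) :
    ∃ U : (𝒳.p.obj η).left.Opens,
      (∀ (η' : 𝒳.obj) (m : η' ⟶ η), IsoNat.IsClean η' ↔ Set.range (𝒳.p.map m).left ⊆ U) ∧
      (IsAffine (𝒳.p.obj η).left → IsCompact (U : Set (𝒳.p.obj η).left)) := by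
  let T := 𝒳.p.obj η
  let I := FibCat.inertia (FibCat.toSelf 𝒳)
  let q := FibCat.inertiaToBase (FibCat.toSelf 𝒳)
  have hI : FibCat.IsFibGrpd I.p := Groth.Agent.S6404.result hg
  obtain ⟨y, i, hi⟩ := exists_point hg η
  have hb : BCStable (LFP ⊓ PR) := fun _ _ _ _ hX₁ hY₁ hX₂ hY₂ a b a' b' sq h =>
    ⟨cls_lfp.bc hX₁ hY₁ hX₂ hY₂ a b a' b' sq h.1, cls_proper.bc hX₁ hY₁ hX₂ hY₂ a b a' b' sq h.2⟩
  have hq : RepByAlgSpWith (LFP ⊓ PR) q := by
    haveI := respectsIso_onSp (cls_lfp (S := S)).bc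
    haveI := respectsIso_onSp (cls_proper (S := S)).bc
    exact repWith_mono (repWith_and (repWith_onSp_iff.2 hl) (repWith_onSp_iff.2 hp)) fun F U _ hF ha =>
      ⟨ha.1 hF (IsAlgSpace.yon_obj _), ha.2 hF (IsAlgSpace.yon_obj _)⟩
  obtain ⟨V, a, e', he, ⟨jf⟩, ha⟩ :=
    exists_model_of_repWith hb (isLocalOnBase_and cls_lfp.loc cls_proper.loc) hI hg hq (spOf T) y
  obtain ⟨k, -, ⟨u₁⟩, ⟨u₂⟩⟩ := isEquivOver_symm he
  let π : V.obj ⟶ (yon S).obj T := a.hom
  let fst := FibCat.fpFst y q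
  let L := FibCat.fpLift (F := y) (G := q) (BasedFunctor.id _)
    (BasedFunctor.comp y (FibCat.inertiaNeutral (FibCat.toSelf 𝒳))) (Iso.refl _)
  let ε : (yon S).obj T ⟶ V.obj := ObjectProperty.homMk (mapOf (BasedFunctor.comp L k))
  let ik : BasedFunctor.comp k (Stk.ofPshMap π.hom) ≅ fst :=
    (Stk.restr k _).mapIso jf.symm ≪≫ (Groth.Agent.StkBasic.post _ fst).mapIso u₂
  have hεπ : ε ≫ π = 𝟙 _ := ObjectProperty.hom_ext _ (by
    show mapOf (BasedFunctor.comp L k) ≫ π.hom = 𝟙 _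
    rw [← mapOf_ofPshMap π.hom, ← mapOf_comp]
    exact (mapOf_congr ((Stk.restr L _).mapIso ik)).trans mapOf_id)
  have hbase : ∀ o, (fst.obj (e'.obj o)).base = (o : Stk.EltObj V.obj.obj).base := fun o => e'.w_obj o
  have hfst : ∀ o : (AlgSt.ofSp V.obj).obj,
      ((pyon S).obj T).map (eqToHom (hbase o).symm).op (fst.obj (e'.obj o)).sec = π.hom.app (op o.base) o.sec :=
    fun o => (secOf_congr jf o).trans (secOf_ofPshMap _ o)
  have hneutral : ∀ o : (AlgSt.ofSp V.obj).obj, (e'.obj o).obj.snd.aut.hom = 𝟙 _ →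
      o.sec = ε.hom.app (op o.base) (π.hom.app (op o.base) o.sec) := by
    intro o ho
    let ω := e'.obj o
    let j : y.obj ω.obj.fst ≅ ω.obj.snd.pt := ω.obj.iso
    let j' : (FibCat.inertiaNeutral (FibCat.toSelf 𝒳)).obj (y.obj ω.obj.fst) ≅ ω.obj.snd :=
      { hom := ⟨j.hom, by
          show 𝟙 (y.obj ω.obj.fst) ≫ j.hom = j.hom ≫ ω.obj.snd.aut.hom
          rw [ho, Category.id_comp, Category.comp_id]⟩
        inv := ⟨j.inv, by
          show ω.obj.snd.aut.hom ≫ j.inv = j.inv ≫ 𝟙 (y.obj ω.obj.fst)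
          rw [ho, Category.id_comp, Category.comp_id]⟩
        hom_inv_id := FibCat.InertiaObj.hom_ext j.hom_inv_id
        inv_hom_id := FibCat.InertiaObj.hom_ext j.inv_hom_id }
    let M : L.obj ω.obj.fst ≅ ω := ObjectProperty.isoMk _ (CategoricalPullback.mkIso (Iso.refl _) j' (by
      show y.map (𝟙 _) ≫ j.hom = 𝟙 _ ≫ j.hom
      rw [y.toFunctor.map_id]))
    have hM : (FibCat.fp y q).p.map M.hom = 𝟙 _ := (Stk.ofPsh ((pyon S).obj T)).p.map_id _
    have h₁' : secOf k ω = secOf k (L.obj ω.obj.fst) := by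
      refine Eq.trans ?_ (secOf_map k M.hom)
      exact (ConcreteCategory.congr_hom ((congrArg (fun g => V.obj.obj.map g.op) hM).trans (V.obj.obj.map_id _)) _).symm
    have h₂ : secOf (BasedFunctor.comp L k) ω.obj.fst = secOf k (L.obj ω.obj.fst) :=
      (secOf_comp L k _).trans (ConcreteCategory.congr_hom (V.obj.obj.map_id _) _)
    have h₄ : V.obj.obj.map (eqToHom (hbase o).symm).op (secOf k ω) = o.sec := by
      refine Eq.trans ?_ ((secOf_congr u₁ o).trans (secOf_id o))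
      exact (secOf_comp e' k o).symm
    have h₃ : secOf k ω = ε.hom.app (op ω.obj.fst.base) ω.obj.fst.sec := h₁'.trans h₂.symm
    refine h₄.symm.trans ((congrArg (V.obj.obj.map _) h₃).trans ?_)
    exact (NatTrans.naturality_apply ε.hom (eqToHom (hbase o).symm).op _).symm.trans (congrArg _ (hfst o))
  have haut : ∀ o : (AlgSt.ofSp V.obj).obj, o.sec = ε.hom.app (op o.base) (π.hom.app (op o.base) o.sec) →
      (e'.obj o).obj.snd.aut.hom = 𝟙 _ := by
    intro o ho
    let b : (Stk.ofPsh ((pyon S).obj T)).obj := ⟨o.base, π.hom.app (op o.base) o.sec⟩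
    have h₂ : secOf (BasedFunctor.comp L k) b = secOf k (L.obj b) :=
      (secOf_comp L k _).trans (ConcreteCategory.congr_hom (V.obj.obj.map_id _) _)
    let M₀ : o ≅ k.obj (L.obj b) := isoOfEq (base_eq k (L.obj b)).symm (by
      rw [sec_eq k, ← h₂, ← Functor.map_comp_apply, ← op_comp, eqToHom_trans, eqToHom_refl, op_id]
      exact (ConcreteCategory.congr_hom (V.obj.obj.map_id _) _).trans ho.symm)
    let M : e'.obj o ≅ L.obj b := e'.toFunctor.mapIso M₀ ≪≫ ((BasedNatTrans.forgetful _ _).mapIso u₂).app (L.obj b)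
    haveI : IsIso M.hom.hom.snd.hom := ⟨M.inv.hom.snd.hom,
      congrArg (fun t => t.hom.snd.hom) M.hom_inv_id, congrArg (fun t => t.hom.snd.hom) M.inv_hom_id⟩
    rw [← cancel_mono M.hom.hom.snd.hom, Category.id_comp, M.hom.hom.snd.comm]
    exact Category.comp_id _
  obtain ⟨U, hU, hUc⟩ := TrivLocus.exists_locus (π := π) (e := ε) V.property hεπ ha.1 ha.2.1
    (ha.2.2.2 (IsAlgSpace.yon_obj T) (𝟙 _) (𝟙 _) π (IsPullback.id_horiz π)) ha.2.2.1.2
  refine ⟨U, fun η' m => Iff.trans ?_ (hU (𝒳.p.map m)), hUc⟩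
  constructor
  · intro h W g' ξ hξ
    let o : (AlgSt.ofSp V.obj).obj := ⟨W, (J S).uliftYonedaEquiv ξ⟩
    have hπ : π.hom.app (op W) o.sec = ⟨g' ≫ 𝒳.p.map m⟩ := by
      show π.hom.app _ ((J S).uliftYonedaEquiv ξ) = _
      rw [← GrothendieckTopology.uliftYonedaEquiv_comp, hξ]
      exact GrothendieckTopology.uliftYonedaEquiv_uliftYoneda_map _ _
    suffices ho : (e'.obj o).obj.snd.aut.hom = 𝟙 _ by
      refine (J S).uliftYonedaEquiv.injective ((hneutral o ho).trans ?_)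
      rw [hπ, GrothendieckTopology.uliftYonedaEquiv_comp]
      exact congrArg _ (GrothendieckTopology.uliftYonedaEquiv_uliftYoneda_map _ _).symm
    let ω := e'.obj o
    let b := ω.obj.fst
    let j : y.obj b ≅ ω.obj.snd.pt := ω.obj.iso
    let mm : b ⟶ AlgStLib.pt T := ⟨b.sec.down, ULift.ext _ _ (show b.sec.down ≫ 𝟙 T = b.sec.down from Category.comp_id _)⟩
    let ψ : ω.obj.snd.pt ⟶ η := j.inv ≫ y.map mm ≫ i.hom
    obtain ⟨hj, hj'⟩ := map_iso_hom ω
    have hb' : eqToHom (hbase o).symm ≫ b.sec.down = g' ≫ 𝒳.p.map m := congrArg ULift.down ((hfst o).trans hπ)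
    have hji : 𝒳.p.map j.inv = eqToHom hj.symm := by
      have h₂ : 𝒳.p.map j.hom ≫ 𝒳.p.map j.inv = 𝟙 _ := by
        rw [← Functor.map_comp, Iso.hom_inv_id, CategoryTheory.Functor.map_id]
      rw [hj'] at h₂
      exact (cancel_epi (eqToHom hj)).1 (h₂.trans (eqToHom_trans hj hj.symm).symm)
    obtain ⟨χ, -, -⟩ := existsUnique_cart hg m ψ
      (eqToHom (hj.symm.trans ((y.w_obj b).trans (hbase o))) ≫ g') (by
        rw [Category.assoc, ← hb', eqToHom_trans_assoc]
        show _ = 𝒳.p.map (j.inv ≫ y.map mm ≫ i.hom)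
        rw [Functor.map_comp, Functor.map_comp, hji, map_map y, hi]
        simp
        rfl)
    exact h _ χ _ ω.obj.snd.map_aut
  · intro h x χ σ hσ
    obtain ⟨b, mm, j, hj, hj', hjc⟩ := exists_iso_pt hg i (χ ≫ m)
    haveI : IsIso (𝒳.p.map σ) := by rw [hσ]; infer_instance
    haveI := isIso_of_map hg σ
    let io : I.obj := ⟨x, asIso σ, hσ⟩
    let ω : (FibCat.fp y q).obj := ⟨⟨b, io, j⟩, fpProp_of_map y q _ hj hj'⟩
    obtain ⟨o, M, hM, hM'⟩ := (isEquivOver_data he).2 ω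
    suffices ho : (e'.obj o).obj.snd.aut.hom = 𝟙 _ by
      have hcomm := M.hom.hom.snd.comm
      rw [ho, Category.id_comp] at hcomm
      haveI : IsIso M.hom.hom.snd.hom := ⟨M.inv.hom.snd.hom,
        congrArg (fun t => t.hom.snd.hom) M.hom_inv_id, congrArg (fun t => t.hom.snd.hom) M.inv_hom_id⟩
      show io.aut.hom = _
      rw [← cancel_epi M.hom.hom.snd.hom, ← hcomm]
      exact (Category.comp_id _).symm
    refine haut o ?_
    have hob : o.base = 𝒳.p.obj x := (hbase o).symm.trans (hM.trans ((y.w_obj b).symm.trans hj))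
    have hπ : π.hom.app (op o.base) o.sec = ⟨(eqToHom hob ≫ 𝒳.p.map χ) ≫ 𝒳.p.map m⟩ := by
      have hs := M.hom.hom.fst.map_sec
      have hM'' : M.hom.hom.fst.hom = eqToHom hM := hM'
      rw [hM''] at hs
      have hm : mm.hom = b.sec.down := (Category.comp_id _).symm.trans (congrArg ULift.down mm.map_sec)
      have := congrArg 𝒳.p.map hjc
      rw [Functor.map_comp, Functor.map_comp, Functor.map_comp, hj', hi, map_map y] at this
      refine (hfst o).symm.trans ((congrArg (((pyon S).obj T).map (eqToHom (hbase o).symm).op) hs.symm).trans ?_)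
      refine ULift.ext _ _ ?_
      show eqToHom (hbase o).symm ≫ eqToHom hM ≫ b.sec.down = _
      have hmm : b.sec.down = eqToHom (y.w_obj b).symm ≫ eqToHom hj ≫ 𝒳.p.map χ ≫ 𝒳.p.map m := by
        rw [← hm, this]
        simp
      rw [hmm]
      show _ = (eqToHom hob ≫ 𝒳.p.map χ) ≫ 𝒳.p.map m
      erw [eqToHom_trans_assoc, eqToHom_trans_assoc, eqToHom_trans_assoc, Category.assoc]
    have hξ := h o.base (eqToHom hob ≫ 𝒳.p.map χ) ((J S).uliftYonedaEquiv.symm o.sec) (by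
      apply (J S).uliftYonedaEquiv.injective
      rw [GrothendieckTopology.uliftYonedaEquiv_comp, Equiv.apply_symm_apply, hπ]
      exact (GrothendieckTopology.uliftYonedaEquiv_uliftYoneda_map _ _).symm)
    have := congrArg (J S).uliftYonedaEquiv hξ
    rw [Equiv.apply_symm_apply, GrothendieckTopology.uliftYonedaEquiv_comp] at this
    refine this.trans (congrArg _ ?_)
    exact (GrothendieckTopology.uliftYonedaEquiv_uliftYoneda_map _ _).trans hπ.symm


/-- the points with clean representatives -/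
def cleanPts (𝒳 : AlgSt.Cat S) : Set (AlgSt.Points 𝒳) :=
  {x | ∀ p : AlgSt.FPt 𝒳, AlgSt.Points.mk p = x → IsoNat.IsClean p.obj}

section clean

variable (hg : FibCat.IsFibGrpd 𝒳.p)
  (hl : RepByAlgSpWith (LocP (S := S) @LocallyOfFinitePresentation) (FibCat.inertiaToBase (FibCat.toSelf 𝒳)))
  (hp : RepByAlgSpWith (AlgSp.IsProperMor (S := S)) (FibCat.inertiaToBase (FibCat.toSelf 𝒳)))
include hg hl hp

/-- cleanliness of a field object does not change along extensions -/
theorem clean_fpt_of_hom {p r : AlgSt.FPt 𝒳} (n : r.obj ⟶ p.obj) (h : IsoNat.IsClean r.obj) :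
    IsoNat.IsClean p.obj := by
  obtain ⟨U, hU, -⟩ := exists_cleanOpen hg hl hp p.obj
  refine (hU p.obj (𝟙 _)).2 ?_
  rintro t -
  haveI := subsingleton_pt p
  obtain ⟨s⟩ := nonempty_pt r
  exact Subsingleton.elim ((𝒳.p.map n).left s) t ▸ (hU r.obj n).1 h ⟨s, rfl⟩

theorem mk_mem_cleanPts_iff {p : AlgSt.FPt 𝒳} : AlgSt.Points.mk p ∈ cleanPts 𝒳 ↔ IsoNat.IsClean p.obj := by
  refine ⟨fun h => h p rfl, fun h q hq => ?_⟩
  obtain ⟨r, n, n', -⟩ := (mk_eq_iff hg).1 hq
  exact clean_fpt_of_hom hg hl hp n (clean_of_hom n' h)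

theorem ofChart_mem_cleanPts_iff {U : Over S} (x : FibCat.overCat U ⥤ᵇ 𝒳) {W : (𝒳.p.obj (x.obj (Over.mk (𝟙 U)))).left.Opens}
    (hW : ∀ (η' : 𝒳.obj) (m : η' ⟶ x.obj (Over.mk (𝟙 U))),
      IsoNat.IsClean η' ↔ Set.range (𝒳.p.map m).left ⊆ W) (t : ↥U.left) :
    AlgSt.Points.ofChart x t ∈ cleanPts 𝒳 ↔
      (eqToHom (x.w_obj (Over.mk (𝟙 U))).symm).left t ∈ W := by
  let ι : Over.mk (U.left.fromSpecResidueField t ≫ U.hom) ⟶ U := Over.homMk (U.left.fromSpecResidueField t) rfl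
  let m : x.obj (Over.mk ι) ⟶ x.obj (Over.mk (𝟙 U)) := x.map (Over.homMk ι (Category.comp_id ι))
  refine (mk_mem_cleanPts_iff hg hl hp).trans ((hW _ m).trans ?_)
  have hm : (𝒳.p.map m).left = (eqToHom (x.w_obj (Over.mk ι))).left ≫ U.left.fromSpecResidueField t ≫
      (eqToHom (x.w_obj (Over.mk (𝟙 U))).symm).left := by
    rw [map_map x]
    rfl
  constructor
  · intro h
    obtain ⟨s⟩ := nonempty_pt (⟨↥(U.left.residueField t), U.left.fromSpecResidueField t ≫ U.hom, x.obj (Over.mk ι),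
      x.w_obj _⟩ : AlgSt.FPt 𝒳)
    have := h ⟨s, rfl⟩
    rw [hm, Scheme.Hom.comp_apply, Scheme.Hom.comp_apply] at this
    erw [Scheme.fromSpecResidueField_apply] at this
    exact this
  · rintro h _ ⟨s, rfl⟩
    rw [hm, Scheme.Hom.comp_apply, Scheme.Hom.comp_apply]
    erw [Scheme.fromSpecResidueField_apply]
    exact h

theorem isOpen_cleanPts : IsOpen (cleanPts 𝒳) := by
  refine AlgSt.Points.isOpen_iff.2 fun U x _ => ?_
  obtain ⟨W, hW, -⟩ := exists_cleanOpen hg hl hp (x.obj (Over.mk (𝟙 U)))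
  have e : AlgSt.Points.ofChart x ⁻¹' cleanPts 𝒳 = (eqToHom (x.w_obj (Over.mk (𝟙 U))).symm).left ⁻¹' W :=
    Set.ext fun t => ofChart_mem_cleanPts_iff hg hl hp x hW t
  rw [e]
  exact W.isOpen.preimage (Scheme.Hom.continuous _)

theorem isClean_eq_inSet : (fun η : 𝒳.obj => IsoNat.IsClean η) = InSet (cleanPts 𝒳) := by
  funext η
  refine propext ⟨fun h p ⟨n⟩ => (mk_mem_cleanPts_iff hg hl hp).2 (clean_of_hom n h), fun h => ?_⟩
  obtain ⟨U, hU, -⟩ := exists_cleanOpen hg hl hp η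
  refine (hU η (𝟙 _)).2 ?_
  rintro t -
  let f : Over.mk ((𝒳.p.obj η).left.fromSpecResidueField t ≫ (𝒳.p.obj η).hom) ⟶ 𝒳.p.obj η :=
    Over.homMk ((𝒳.p.obj η).left.fromSpecResidueField t) rfl
  obtain ⟨η', φ, hη', hφ⟩ := exists_lift hg f
  let p : AlgSt.FPt 𝒳 := ⟨↥((𝒳.p.obj η).left.residueField t), _, η', hη'⟩
  obtain ⟨s⟩ := nonempty_pt p
  have := (hU η' φ).1 ((mk_mem_cleanPts_iff hg hl hp).1 (h p ⟨φ⟩)) ⟨s, rfl⟩
  rw [hφ, Over.comp_left, Scheme.Hom.comp_apply] at this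
  erw [Scheme.fromSpecResidueField_apply] at this
  exact this

theorem quasiCompact_cleanOpen {U : Over S} (x : FibCat.overCat U ⥤ᵇ 𝒳) (W : U.left.Opens)
    (hW : ∀ t : ↥U.left, t ∈ W ↔ AlgSt.Points.ofChart x t ∈ cleanPts 𝒳) : QuasiCompact W.ι := by
  rw [quasiCompact_iff_forall_isAffineOpen]
  intro A hA
  let UA : Over S := Over.mk (A.ι ≫ U.hom)
  let a : UA ⟶ U := Over.homMk A.ι rfl
  let xA := BasedFunctor.comp (AlgSt.overMap a) x
  obtain ⟨WA, hWA, hc⟩ := exists_cleanOpen hg hl hp (xA.obj (Over.mk (𝟙 UA)))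
  let E := (eqToHom (xA.w_obj (Over.mk (𝟙 UA)))).left
  let E' := (eqToHom (xA.w_obj (Over.mk (𝟙 UA))).symm).left
  haveI : IsIso E := inferInstanceAs (IsIso ((Over.forget S).map (eqToHom (xA.w_obj (Over.mk (𝟙 UA))))))
  haveI : IsAffine ((FibCat.overCat UA).p.obj (Over.mk (𝟙 UA))).left := hA
  have hAW : IsCompact ((A : Set U.left) ∩ W) := by
    have := ((hc (.of_isIso E)).image E.continuous).image A.ι.continuous
    convert this using 1
    ext t
    constructor
    · rintro ⟨htA, htW⟩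
      obtain ⟨s, rfl⟩ : t ∈ Set.range A.ι := by rw [Scheme.Opens.range_ι]; exact htA
      refine ⟨s, ⟨E' s, ?_, ?_⟩, rfl⟩
      · refine (ofChart_mem_cleanPts_iff hg hl hp xA hWA s).1 ?_
        rw [ofChart_overMap]
        exact (hW _).1 htW
      · rw [← Scheme.Hom.comp_apply, ← Over.comp_left, eqToHom_trans, eqToHom_refl]
        rfl
    · rintro ⟨_, ⟨s, hs, rfl⟩, rfl⟩
      refine ⟨(E s).2, (hW _).2 ?_⟩
      show AlgSt.Points.ofChart x (a.left (E s)) ∈ _
      rw [← ofChart_overMap]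
      refine (ofChart_mem_cleanPts_iff hg hl hp xA hWA (E s)).2 ?_
      show E' (E s) ∈ WA
      rw [← Scheme.Hom.comp_apply, ← Over.comp_left, eqToHom_trans, eqToHom_refl]
      exact hs
  refine W.ι.isOpenEmbedding.isEmbedding.isCompact_iff.2 ?_
  show IsCompact (W.ι '' (W.ι ⁻¹' (A : Set U.left)))
  rw [Set.image_preimage_eq_inter_range, Scheme.Opens.range_ι]
  exact hAW

end clean

/-- inclusions of substacks cut by open sets of points, with the property of the open immersions involved -/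
theorem repWith_inSet (h𝒳 : IsAlgStack Scheme.fppfPrecoverage 𝒳) {O : Set (AlgSt.Points 𝒳)} (hO : IsOpen O)
    (P : MorphismProperty (Sp S))
    (hP : ∀ (U : Over S) (y : FibCat.overCat U ⥤ᵇ 𝒳) (W : U.left.Opens),
      (∀ t, t ∈ W ↔ AlgSt.Points.ofChart y t ∈ O) →
      P ((yon S).map (Over.homMk W.ι rfl : Over.mk (W.ι ≫ U.hom) ⟶ U))) :
    RepByAlgSpWith P (AlgSt.subIncl 𝒳 (InSet O)) := by
  intro U y
  let W : U.left.Opens := ⟨AlgSt.Points.ofChart y ⁻¹' O, hO.preimage (continuous_ofChart h𝒳 y)⟩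
  let U' : Over S := Over.mk (W.ι ≫ U.hom)
  let j : U' ⟶ U := Over.homMk W.ι
  have hQ : ∀ o : (FibCat.overCat U').obj, InSet O ((BasedFunctor.comp (AlgSt.overMap j) y).obj o) := fun o => by
    refine (inSet_chart_iff h𝒳.isStack.1 O y ((AlgSt.overMap j).obj o)).2 fun t => ?_
    exact (o.hom.left t).2
  let L : FibCat.overCat U' ⥤ᵇ FibCat.fp y (AlgSt.subIncl 𝒳 (InSet O)) :=
    FibCat.fpLift (AlgSt.overMap j) (liftSub (InSet O) (BasedFunctor.comp (AlgSt.overMap j) y) hQ) (Iso.refl _)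
  haveI : L.toFunctor.Faithful := ⟨fun {a b} m m' h => by
    have := congrArg (fun t => t.hom.fst.left) h
    exact Over.OverMorphism.ext this⟩
  haveI : L.toFunctor.Full := ⟨fun {a b} n => by
    refine ⟨Over.homMk n.hom.fst.left ?_, ?_⟩
    · refine Over.OverMorphism.ext ((cancel_mono W.ι).1 ?_)
      have w := congrArg CommaMorphism.left (Over.w n.hom.fst)
      simpa [L, j, AlgSt.overMap, FibCat.fpLift] using w
    · refine ObjectProperty.hom_ext _ (CategoricalPullback.hom_ext (Over.OverMorphism.ext rfl) ?_)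
      refine ObjectProperty.hom_ext _ ?_
      have w : y.map n.hom.fst ≫ (L.obj b).obj.iso.hom = (L.obj a).obj.iso.hom ≫ n.hom.snd.hom := n.hom.w
      show y.map _ = n.hom.snd.hom
      simp [L, FibCat.fpLift] at w
      convert ((Category.comp_id _).symm.trans w).trans (Category.id_comp _) using 2
      exact Over.OverMorphism.ext rfl⟩
  have hL : FibCat.IsEquivOver L := by
    refine isEquivOver_of_fullyFaithful L fun η => ?_
    obtain ⟨h₁, h₂⟩ := map_iso_hom η
    have hin : InSet O (y.obj η.obj.fst) := η.obj.snd.property.of_hom η.obj.iso.hom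
    have hr : Set.range η.obj.fst.hom.left ⊆ Set.range W.ι := by
      rintro _ ⟨t, rfl⟩
      rw [Scheme.Opens.range_ι]
      exact (inSet_chart_iff h𝒳.isStack.1 O y η.obj.fst).1 hin t
    let g := IsOpenImmersion.lift W.ι η.obj.fst.hom.left hr
    have hg : g ≫ W.ι = η.obj.fst.hom.left := IsOpenImmersion.lift_fac _ _ _
    let ξ : (FibCat.overCat U').obj := Over.mk (Over.homMk g (by
      show g ≫ W.ι ≫ U.hom = η.obj.fst.left.hom
      rw [← Category.assoc, hg, Over.w η.obj.fst.hom]) : η.obj.fst.left ⟶ U')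
    let a : (AlgSt.overMap j).obj ξ ≅ η.obj.fst := Over.isoMk (Iso.refl _) (by
      refine Over.OverMorphism.ext ?_
      simpa [ξ, j, AlgSt.overMap] using hg.symm)
    let b : (liftSub (InSet O) (BasedFunctor.comp (AlgSt.overMap j) y) hQ).obj ξ ≅ η.obj.snd :=
      ObjectProperty.isoMk _ (y.toFunctor.mapIso a ≪≫ η.obj.iso)
    refine ⟨ξ, ObjectProperty.isoMk _ (CategoricalPullback.mkIso a b (by
      simp [L, b, liftSub, FibCat.fpLift, AlgSt.subIncl]
      exact (Category.id_comp _).symm)), rfl, ?_⟩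
    show (FibCat.overCat U).p.map a.hom = _
    rfl
  refine ⟨spOf U', BasedFunctor.comp (AlgSt.toOverCat U') L, isEquivOver_comp (isEquivOver_toOverCat U') hL, ?_⟩
  have hmap : AlgSt.spMapOfOver (BasedFunctor.comp (BasedFunctor.comp (AlgSt.toOverCat U') L)
      (FibCat.fpFst y (AlgSt.subIncl 𝒳 (InSet O)))) = (yon S).map j :=
    ObjectProperty.hom_ext _ (by ext T x; apply ULift.ext; rfl)
  rw [hmap]
  exact hP U y W fun t => Iff.rfl

/-- the clean locus is a retrocompact open substack -/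
theorem cleanLocus_open_qc (h𝒳 : IsAlgStack Scheme.fppfPrecoverage 𝒳)
    (hl : RepByAlgSpWith LFP (FibCat.inertiaToBase (FibCat.toSelf 𝒳)))
    (hp : RepByAlgSpWith PR (FibCat.inertiaToBase (FibCat.toSelf 𝒳))) :
    AlgSt.IsOpenSubstack 𝒳 (fun η => IsoNat.IsClean η) Scheme.fppfPrecoverage ∧
      AlgSt.RepByAlgSpWith AlgSp.IsQuasiCompactMor (AlgSt.subIncl 𝒳 (fun η => IsoNat.IsClean η)) := by
  have hg := h𝒳.isStack.1
  rw [isClean_eq_inSet hg hl hp]
  refine ⟨isOpenSubstack_inSet h𝒳 (isOpen_cleanPts hg hl hp),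
    repWith_inSet h𝒳 (isOpen_cleanPts hg hl hp) _ fun U y W hW => ?_⟩
  exact (isQuasiCompactMor_iff_repWith (IsAlgSpace.yon_obj _) (IsAlgSpace.yon_obj _) (representable_yon_map _)).2
    ((repWith_yon_iff _).2 (quasiCompact_cleanOpen hg hl hp y W hW))

end Groth.Agent.IsoNatLib

end
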