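import Groth.Agent.GerbBG.AxesNat
import Groth.Agent.IsoNatLib.CleanLocus
import Groth.Agent.AlgStLib.DiagProps
import Groth.Agent.AlgStLib.Misc1
import Groth.Agent.AlgStLib.SmLocallySp
import Groth.Agent.ValLib.NoethSep
import Groth.Agent.AlgStLib.IsoClassSp

/-!
# Properness of inertia is read from isomorphism classes on doubled discrete valuation rings
-/

set_option autoImplicit false
set_option backward.isDefEq.respectTransparency false
set_option backward.isDefEq.respectTransparency.types false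
set_option linter.style.haveILetI false
set_option maxHeartbeats 1000000
universe u

noncomputable section

namespace Groth.Agent.IsoNatLib.ExtDVR

open CategoryTheory CategoryTheory.Limits AlgebraicGeometry Opposite Groth.Agent.FibCatRep
  Groth.Agent.FibCat2Misc Groth.Agent.AlgSpLib Groth.Agent.AlgStLib Groth.Agent.GerbLib.Band
open Groth.Agent.GerbBG.AxesNat (conj conj_spec conj_bijective conj_eq)
open _root_.AlgSp _root_.AlgSt

variable {S : Scheme.{u}} {𝒳 𝒴 : AlgSt.Cat S} {T W : Over S}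

/-- the morphism of test objects of a morphism to the base -/
abbrev toId (j : W ⟶ T) : (Over.mk j : Over T) ⟶ Over.mk (𝟙 T) := Over.homMk j (Category.comp_id j)

/-- automorphisms over `W` extend to `T` -/
def ExtAut (x : FibCat.overCat T ⥤ᵇ 𝒳) (j : W ⟶ T) : Prop :=
  ∀ α : Gerb.AutO (x.obj (Over.mk j)), ∃ β : Gerb.AutO (x.obj (Over.mk (𝟙 T))),
    ah α ≫ x.map (toId j) = x.map (toId j) ≫ ah β

/-- triviality of objects on the doubling which are trivial on both copies -/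
def Crit (x : FibCat.overCat T ⥤ᵇ 𝒳) (V : T.left.Opens) : Prop :=
  ∀ c : FibCat.overCat (dbl V) ⥤ᵇ 𝒳, LT (𝟙 T) V x c → Nonempty (c ≅ trivialObj (𝟙 T) V x)

theorem crit_iff_surjective (hS : Stk.IsStack (Jf S) 𝒳) (x : FibCat.overCat T ⥤ᵇ 𝒳) (V : T.left.Opens) :
    Crit x V ↔ Function.Surjective (toV (x := x) (𝟙 T) V) := by
  obtain ⟨τ₀, hτ₀⟩ := exists_triv_trivialObj hS.1 (𝟙 T) V x
  refine ⟨fun h c₀ => ?_, fun h c hc => ?_⟩
  · obtain ⟨c, τ, hτ⟩ := exists_triv hS c₀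
    obtain ⟨i⟩ := h c (τ.nonempty_iso hS.1)
    obtain ⟨a, ha⟩ := exists_rel_of_iso hS.1 τ τ₀ i
    rw [hτ₀, hτ, one_mul] at ha
    exact ⟨(a true)⁻¹ * a false, by rw [map_mul, map_inv, ha, inv_mul_cancel_left]⟩
  · obtain ⟨τ⟩ := nonempty_triv hc
    obtain ⟨b, hb⟩ := h (τ.cocycle hS.1)
    refine nonempty_iso_of_rel hS τ τ₀ (fun s => if s then b⁻¹ else 1) ?_
    simp only [Bool.false_eq_true, if_false, if_true, map_one, mul_one, map_inv, hτ₀, ← hb, inv_mul_cancel]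

theorem Crit.transport (h𝒳 : FibCat.IsFibGrpd 𝒳.p) (h𝒴 : FibCat.IsFibGrpd 𝒴.p) {φ : IsoNat.FIso 𝒳 𝒴}
    {x : FibCat.overCat T ⥤ᵇ 𝒳} {y : FibCat.overCat T ⥤ᵇ 𝒴} (hxy : Rel φ x y) {V : T.left.Opens}
    (h : Crit x V) : Crit y V := fun d hd => by
  obtain ⟨c, hc⟩ := Rel.exists_left h𝒳 φ d
  exact Rel.nonempty_iso h𝒴 hc ((hxy.overMap h𝒴 _).overMap h𝒴 _)
    (h c ((Axes.LT.transport h𝒳 h𝒴 hxy hc).2 hd))

theorem extAut_iff_surjective (hg : FibCat.IsFibGrpd 𝒳.p) (x : FibCat.overCat T ⥤ᵇ 𝒳) (j : W ⟶ T)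
    [IsOpenImmersion j.left] :
    ExtAut x j ↔ Function.Surjective (toV (x := x) (𝟙 T) j.left.opensRange) := by
  let t₁ : Tst (𝟙 T) j.left.opensRange := ⟨Over.mk j, j, Category.comp_id j, fun _ h => h⟩
  have hl : ∀ t : Tst (𝟙 T) j.left.opensRange, ∃ n : t.o ⟶ t₁.o, n.left ≫ j = t.w := fun t => by
    have hr : Set.range t.w.left ⊆ Set.range j.left := t.hin
    let k : t.o.left ⟶ W := Over.homMk (IsOpenImmersion.lift j.left t.w.left hr) (by
      rw [← Over.w j, IsOpenImmersion.lift_fac_assoc, Over.w t.w])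
    have hk : k ≫ j = t.w := Over.OverMorphism.ext (IsOpenImmersion.lift_fac _ _ _)
    exact ⟨Over.homMk k (by
      show k ≫ j = t.o.hom
      rw [hk, ← t.hw, Category.comp_id]), hk⟩
  choose n hn using hl
  refine ⟨fun h c => ?_, fun h α => ?_⟩
  · obtain ⟨β, hβ⟩ := h (c.1 t₁)
    obtain ⟨b, hb⟩ := exists_globalSec hg β
    refine ⟨b, sec_ext fun t => ?_⟩
    refine cancel hg (x.map (n t)) (by rw [map_ah, map_ah]) ?_
    rw [toV_apply, b.2 t.toTop t₁.toTop (n t) (hn t), c.2 t t₁ (n t) (hn t)]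
    refine congrArg (x.map (n t) ≫ ·) ?_
    refine cancel hg (x.map (toId j)) (by rw [map_ah, map_ah]) ?_
    rw [b.2 t₁.toTop (Tst.id₀ T) (toId j) (Category.comp_id j)]
    exact (congrArg (fun k => x.map (toId j) ≫ ah k) hb).trans hβ.symm
  · choose c hc hcu using fun t : Tst (𝟙 T) j.left.opensRange => existsUnique_conj hg (x.map (n t)) α
    haveI : Mono j := (Over.forget S).mono_of_mono_map (inferInstanceAs (Mono j.left))
    have hmem : c ∈ sec x (𝟙 T) j.left.opensRange := fun t' t m e => by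
      refine cancel hg (x.map (n t)) (by simp [map_ah]) ?_
      have hmn : m ≫ n t = n t' := Over.OverMorphism.ext ((cancel_mono j).1 (by
        rw [Over.comp_left, Category.assoc, hn, e, hn]))
      rw [Category.assoc, Category.assoc, hc t, ← Functor.map_comp_assoc, ← Functor.map_comp, hmn]
      exact hc t'
    obtain ⟨b, hb⟩ := h ⟨c, hmem⟩
    have h₁ : n t₁ = 𝟙 _ := Over.OverMorphism.ext ((cancel_mono j).1 (by
      rw [hn]
      exact (Category.id_comp _).symm))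
    have hc₁ : c t₁ = α := autO_ext (by
      have := hc t₁
      rwa [h₁, x.toFunctor.map_id, Category.comp_id, Category.id_comp] at this)
    refine ⟨b.1 (Tst.id₀ T), ?_⟩
    have e₁ : b.1 t₁.toTop = α := by
      rw [← toV_apply (q := 𝟙 T) (V := j.left.opensRange) b t₁, hb]
      exact hc₁
    rw [← e₁]
    exact b.2 t₁.toTop (Tst.id₀ T) (toId j) (Category.comp_id j)

theorem extAut_transport (h𝒳 : Stk.IsStack (Jf S) 𝒳) (h𝒴 : Stk.IsStack (Jf S) 𝒴) {φ : IsoNat.FIso 𝒳 𝒴}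
    {x : FibCat.overCat T ⥤ᵇ 𝒳} {y : FibCat.overCat T ⥤ᵇ 𝒴} (hxy : Rel φ x y) (j : W ⟶ T)
    [IsOpenImmersion j.left] (h : ExtAut x j) : ExtAut y j :=
  (extAut_iff_surjective h𝒴.1 y j).2 ((crit_iff_surjective h𝒴 y _).1
    (((crit_iff_surjective h𝒳 x _).2 ((extAut_iff_surjective h𝒳.1 x j).1 h)).transport h𝒳.1 h𝒴.1 hxy))

/-- automorphisms of objects over discrete valuation rings extend from the generic point -/
def ExtDVR (𝒳 : AlgSt.Cat S) : Prop :=
  ∀ (A : Type u) [CommRing A] [IsDomain A] [IsDiscreteValuationRing A] (K : Type u) [Field K] [Algebra A K]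
    [IsFractionRing A K] (str : Spec (.of A) ⟶ S) (x : FibCat.overCat (Over.mk str) ⥤ᵇ 𝒳),
    ExtAut x (Over.homMk (Spec.map (CommRingCat.ofHom (algebraMap A K))) rfl :
      Over.mk (Spec.map (CommRingCat.ofHom (algebraMap A K)) ≫ str) ⟶ Over.mk str)

theorem isOpenImmersion_generic (A : Type u) [CommRing A] [IsDomain A] [IsDiscreteValuationRing A] (K : Type u)
    [Field K] [Algebra A K] [IsFractionRing A K] :
    IsOpenImmersion (Spec.map (CommRingCat.ofHom (algebraMap A K))) := by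
  obtain ⟨ϖ, hϖ⟩ := IsDiscreteValuationRing.exists_irreducible A
  have hinj : Function.Injective (algebraMap A K) := IsFractionRing.injective A K
  have hne : ∀ {a : A}, a ≠ 0 → algebraMap A K a ≠ 0 := fun ha h => ha (hinj (h.trans (map_zero _).symm))
  haveI : IsLocalization.Away ϖ K := by
    refine { map_units := ?_, surj := ?_, exists_of_eq := fun h => ⟨1, by simpa using hinj h⟩ }
    · rintro ⟨_, n, rfl⟩
      exact IsUnit.mk0 _ (hne (pow_ne_zero n hϖ.ne_zero))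
    · intro z
      obtain ⟨a, c, hc, rfl⟩ := IsFractionRing.div_surjective (A := A) z
      obtain ⟨n, v, rfl⟩ := IsDiscreteValuationRing.eq_unit_mul_pow_irreducible (nonZeroDivisors.ne_zero hc) hϖ
      refine ⟨⟨(↑v⁻¹ : A) * a, ⟨ϖ ^ n, n, rfl⟩⟩, ?_⟩
      show algebraMap A K a / algebraMap A K (↑v * ϖ ^ n) * algebraMap A K (ϖ ^ n) = algebraMap A K ((↑v⁻¹ : A) * a)
      have hv : algebraMap A K ((↑v⁻¹ : A)) * algebraMap A K (v : A) = 1 := by rw [← map_mul, Units.inv_mul, map_one]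
      rw [map_mul, map_mul, div_mul_eq_mul_div,
        div_eq_iff (mul_ne_zero (hne v.ne_zero) (hne (pow_ne_zero n hϖ.ne_zero)))]
      linear_combination (algebraMap A K a * algebraMap A K (ϖ ^ n)) * hv.symm
  exact IsOpenImmersion.of_isLocalization ϖ

theorem extDVR_transport (h𝒳 : Stk.IsStack (Jf S) 𝒳) (h𝒴 : Stk.IsStack (Jf S) 𝒴) (φ : IsoNat.FIso 𝒳 𝒴)
    (h : ExtDVR 𝒳) : ExtDVR 𝒴 := fun A _ _ _ K _ _ _ str y => by
  haveI : IsOpenImmersion (Over.homMk (Spec.map (CommRingCat.ofHom (algebraMap A K))) rfl :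
      Over.mk (Spec.map (CommRingCat.ofHom (algebraMap A K)) ≫ str) ⟶ Over.mk str).left :=
    isOpenImmersion_generic A K
  obtain ⟨x, hx⟩ := Rel.exists_left h𝒳.1 φ y
  exact extAut_transport h𝒳 h𝒴 hx _ (h A K str x)

/-! ### models of inertia -/

lemma map_eqToHom_eqToHom {Q : PSp S} {A B C : Over S} (h : A = B) (h' : B = C) (h'' : A = C) (s : Q.obj (op C)) :
    Q.map (eqToHom h).op (Q.map (eqToHom h').op s) = Q.map (eqToHom h'').op s := by
  subst h h'
  simp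

lemma map_eqToHom_cancel {Q : PSp S} {A B : Over S} (h : A = B) (h' : B = A) (s : Q.obj (op A)) :
    Q.map (eqToHom h).op (Q.map (eqToHom h').op s) = s := by
  subst h
  simp

section model

variable {Z : Sp S} {y₀ : AlgSt.ofSp Z ⥤ᵇ 𝒳} {V : Sp S} {a : V ⟶ Z}
  {e : AlgSt.ofSp V ⥤ᵇ FibCat.fp y₀ (FibCat.inertiaToBase (FibCat.toSelf 𝒳))}
  (jf : BasedFunctor.comp e (FibCat.fpFst y₀ _) ≅ AlgSt.ofSpMap a) (he : FibCat.IsEquivOver e)

include jf in
lemma fst_sec (o : (AlgSt.ofSp V).obj) :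
    Z.obj.map (eqToHom (e.w_obj o).symm).op (e.obj o).obj.fst.sec = a.hom.app (op o.base) o.sec :=
  (secOf_congr jf o).trans (secOf_ofPshMap _ o)

include he in
lemma exists_elt (ω : (FibCat.fp y₀ (FibCat.inertiaToBase (FibCat.toSelf 𝒳))).obj) {U : Over S}
    (hU : ω.obj.fst.base = U) :
    ∃ (s : V.obj.obj (op U)) (M : e.obj (⟨U, s⟩ : (AlgSt.ofSp V).obj) ≅ ω),
      (FibCat.fp y₀ _).p.map M.hom = eqToHom (show (FibCat.fp y₀ _).p.obj (e.obj (⟨U, s⟩ : (AlgSt.ofSp V).obj)) = (FibCat.fp y₀ _).p.obj ω from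
        (e.w_obj _).trans hU.symm) := by
  obtain ⟨⟨W', s⟩, M, hξ, hM⟩ := (isEquivOver_data he).2 ω
  have h₁ : W' = U := ((e.w_obj (⟨W', s⟩ : (AlgSt.ofSp V).obj)).symm.trans hξ).trans hU
  subst h₁
  exact ⟨s, M, hM⟩

include jf in
lemma app_elt {U : Over S} (s : V.obj.obj (op U))
    {ω : (FibCat.fp y₀ (FibCat.inertiaToBase (FibCat.toSelf 𝒳))).obj} (hU : ω.obj.fst.base = U)
    (M : e.obj (⟨U, s⟩ : (AlgSt.ofSp V).obj) ≅ ω)
    (hM : (FibCat.fp y₀ _).p.map M.hom = eqToHom (show (FibCat.fp y₀ _).p.obj (e.obj (⟨U, s⟩ : (AlgSt.ofSp V).obj)) =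
      (FibCat.fp y₀ _).p.obj ω from (e.w_obj _).trans hU.symm)) :
    a.hom.app (op U) s = Z.obj.map (eqToHom hU.symm).op ω.obj.fst.sec := by
  have h₁ := M.hom.hom.fst.map_sec
  have hM' : M.hom.hom.fst.hom = eqToHom (show (e.obj (⟨U, s⟩ : (AlgSt.ofSp V).obj)).obj.fst.base = ω.obj.fst.base from
    (e.w_obj (⟨U, s⟩ : (AlgSt.ofSp V).obj)).trans hU.symm) := hM
  rw [hM'] at h₁
  rw [← fst_sec jf (⟨U, s⟩ : (AlgSt.ofSp V).obj), ← h₁]
  exact map_eqToHom_eqToHom _ _ _ _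

/-- an automorphism as an object of inertia -/
abbrev inertiaObj {z : 𝒳.obj} (α : Gerb.AutO z) : (FibCat.inertia (FibCat.toSelf 𝒳)).obj :=
  ⟨z, { hom := ah α, inv := ah α⁻¹, hom_inv_id := ah_comp_inv α, inv_hom_id := ah_inv_comp α }, map_ah α⟩

include jf he in
/-- lifts in valuative squares come from extensions of automorphisms -/
theorem hasLift_of_extDVR (hg : FibCat.IsFibGrpd 𝒳.p) (h : ExtDVR 𝒳) (sq : ValSq a)
    [IsDiscreteValuationRing sq.A] : sq.HasLift := by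
  haveI := (isEquivOver_data he).1
  let x : FibCat.overCat sq.ptA ⥤ᵇ 𝒳 :=
    BasedFunctor.comp (BasedFunctor.comp (AlgSt.ofOverCat sq.ptA) (Stk.ofPshMap sq.bot.hom)) y₀
  let oK : (AlgSt.ofSp V).obj := ⟨sq.ptK, (J S).uliftYonedaEquiv sq.top⟩
  let ω := e.obj oK
  let bA : (AlgSt.ofSp Z).obj := ⟨sq.ptA, sq.bot.hom.app (op sq.ptA) ⟨𝟙 _⟩⟩
  let bK : (AlgSt.ofSp Z).obj := ⟨sq.ptK, sq.bot.hom.app (op sq.ptK) ⟨sq.j⟩⟩
  let n : bK ⟶ bA := (Stk.ofPshMap sq.bot.hom).map ((AlgSt.ofOverCat sq.ptA).map (toId sq.j))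
  have hsec : a.hom.app (op sq.ptK) oK.sec = bK.sec := by
    show a.hom.app _ ((J S).uliftYonedaEquiv sq.top) = _
    rw [← GrothendieckTopology.uliftYonedaEquiv_comp, sq.comm, GrothendieckTopology.uliftYonedaEquiv_comp]
    exact congrArg _ (GrothendieckTopology.uliftYonedaEquiv_uliftYoneda_map _ _)
  have hw : ω.obj.fst.base = sq.ptK := e.w_obj oK
  let δ : ω.obj.fst ⟶ bK := ⟨eqToHom hw, by
    rw [← hsec, ← fst_sec jf oK]
    exact map_eqToHom_cancel _ _ _⟩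
  let c : ω.obj.snd.pt ⟶ y₀.obj bK := ω.obj.iso.inv ≫ y₀.map δ
  haveI : IsIso (𝒳.p.map c) := by
    obtain ⟨hj, hj'⟩ := map_iso_hom ω
    haveI : IsIso (𝒳.p.map ω.obj.iso.inv) := inferInstance
    haveI : IsIso (𝒳.p.map (y₀.map δ)) := by
      rw [map_map]
      haveI : IsIso ((AlgSt.ofSp Z).p.map δ) := inferInstanceAs (IsIso (eqToHom hw))
      infer_instance
    rw [Functor.map_comp]
    infer_instance
  obtain ⟨σ, hσ⟩ := exists_autO hg ω.obj.snd.aut.hom ω.obj.snd.map_aut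
  obtain ⟨α, hα⟩ := (conj_bijective hg c).2 σ
  have hαc : ω.obj.snd.aut.hom ≫ c = c ≫ ah α := by
    rw [← hσ, ← hα]
    exact conj_spec hg c α
  obtain ⟨β, hβ⟩ := h sq.A sq.K sq.str x α
  let ωA : (FibCat.fp y₀ (FibCat.inertiaToBase (FibCat.toSelf 𝒳))).obj :=
    ⟨⟨bA, inertiaObj β, Iso.refl _⟩, fpProp_of_map y₀ _ _ rfl (𝒳.p.map_id _)⟩
  obtain ⟨s, M, hM⟩ := exists_elt he ωA (U := sq.ptA) rfl
  let N : ω ⟶ ωA := ObjectProperty.homMk ⟨δ ≫ n, ⟨c ≫ y₀.map n, by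
      show ω.obj.snd.aut.hom ≫ c ≫ y₀.map n = (c ≫ y₀.map n) ≫ ah β
      exact ((reassoc_of% hαc) _).trans ((congrArg (c ≫ ·) hβ).trans (Category.assoc _ _ _).symm)⟩, by
      show y₀.map (δ ≫ n) ≫ 𝟙 _ = ω.obj.iso.hom ≫ (ω.obj.iso.inv ≫ y₀.map δ) ≫ y₀.map n
      rw [Category.comp_id, Category.assoc, Iso.hom_inv_id_assoc, Functor.map_comp]⟩
  obtain ⟨N', hN'⟩ := e.toFunctor.map_surjective (N ≫ M.inv)
  have hNM : e.map N' ≫ M.hom = N := by rw [hN', Category.assoc, Iso.inv_hom_id, Category.comp_id]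
  have hN₂ : N'.hom = sq.j := by
    have e₁ := congrArg (FibCat.fp y₀ (FibCat.inertiaToBase (FibCat.toSelf 𝒳))).p.map hNM
    rw [Functor.map_comp, map_map e N', hM] at e₁
    have e₂ : (FibCat.fp y₀ (FibCat.inertiaToBase (FibCat.toSelf 𝒳))).p.map N = eqToHom hw ≫ sq.j := rfl
    rw [e₂] at e₁
    simp [ωA, bA] at e₁
    exact (cancel_epi (eqToHom hw)).1 e₁
  refine ⟨(J S).uliftYonedaEquiv.symm s, (J S).uliftYonedaEquiv.injective ?_, (J S).uliftYonedaEquiv.injective ?_⟩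
  · rw [← GrothendieckTopology.uliftYonedaEquiv_naturality, Equiv.apply_symm_apply, ← hN₂]
    exact N'.map_sec
  · rw [GrothendieckTopology.uliftYonedaEquiv_comp, Equiv.apply_symm_apply, app_elt jf s rfl M hM]
    exact (ConcreteCategory.congr_hom (Z.obj.map_id _) _).trans (congrArg _ rfl)

end model

/-- proper inertia gives extensions of automorphisms over discrete valuation rings -/
theorem extDVR_of_proper (hg : FibCat.IsFibGrpd 𝒳.p)
    (hp : RepByAlgSpWith (AlgSp.IsProperMor (S := S)) (FibCat.inertiaToBase (FibCat.toSelf 𝒳))) : ExtDVR 𝒳 :=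
  fun A _ _ _ K _ _ _ str x α => by
  let T : Over S := Over.mk str
  let jj : (Over.mk (Spec.map (CommRingCat.ofHom (algebraMap A K)) ≫ str) : Over S) ⟶ T :=
    Over.homMk (Spec.map (CommRingCat.ofHom (algebraMap A K))) rfl
  let y₀ : AlgSt.ofSp (spOf T).obj ⥤ᵇ 𝒳 := BasedFunctor.comp (AlgSt.toOverCat T) x
  have hI : FibCat.IsFibGrpd (FibCat.inertia (FibCat.toSelf 𝒳)).p := Groth.Agent.S6404.result hg
  obtain ⟨V, a, e, he, ⟨jf⟩, ha⟩ :=
    exists_model_of_repWith cls_proper.bc cls_proper.loc hI hg hp (spOf T) y₀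
  have hqs : IsQuasiSeparatedMor a.hom :=
    AlgSpLib.repWith_mono (fun _ _ r (hr : IsClosedImmersion r) => inferInstanceAs (QuasiCompact r)) ha.1
  have hN : IsLocNoethSp ((yon S).obj T) := by
    refine ⟨T, (yon S).map (𝟙 T), (repWith_yon_iff _).2 ?_, (repWith_yon_iff _).2 ?_,
      inferInstanceAs (IsLocallyNoetherian (Spec (.of A)))⟩
    · exact inferInstanceAs (Etale (𝟙 T.left))
    · exact inferInstanceAs (Surjective (𝟙 T.left))
  let ωK : (FibCat.fp y₀ (FibCat.inertiaToBase (FibCat.toSelf 𝒳))).obj :=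
    ⟨⟨⟨_, ⟨jj⟩⟩, inertiaObj α, Iso.refl _⟩, fpProp_of_map y₀ _ _ rfl (𝒳.p.map_id _)⟩
  obtain ⟨s, M, hM⟩ := exists_elt he ωK (U := Over.mk (Spec.map (CommRingCat.ofHom (algebraMap A K)) ≫ str)) rfl
  let sq : ValSq a.hom :=
    { A := A, K := K, str := str, top := (J S).uliftYonedaEquiv.symm s, bot := 𝟙 _
      comm := (J S).uliftYonedaEquiv.injective (by
        rw [GrothendieckTopology.uliftYonedaEquiv_comp, Equiv.apply_symm_apply, app_elt jf s rfl M hM,
          Category.comp_id]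
        exact (ConcreteCategory.congr_hom ((spOf T).obj.obj.map_id _) _).trans
          (GrothendieckTopology.uliftYonedaEquiv_uliftYoneda_map _ _).symm) }
  obtain ⟨l, hl₁, hl₂⟩ :=
    ((ValLib.isProperMor_iff_dvr V.property (spOf T).property a.hom hqs ha.2.1 hN).1 ha sq
      (inferInstanceAs (IsDiscreteValuationRing A))).1
  let oA : (AlgSt.ofSp V.obj).obj := ⟨T, (J S).uliftYonedaEquiv l⟩
  let P : (⟨_, s⟩ : (AlgSt.ofSp V.obj).obj) ⟶ oA := ⟨jj, by
    show V.obj.obj.map jj.op ((J S).uliftYonedaEquiv l) = s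
    rw [GrothendieckTopology.uliftYonedaEquiv_naturality]
    exact (congrArg (J S).uliftYonedaEquiv hl₁).trans (Equiv.apply_symm_apply _ _)⟩
  let ω := e.obj oA
  let N : ωK ⟶ ω := M.inv ≫ e.map P
  have hw : ω.obj.fst.base = T := e.w_obj oA
  let δ : ω.obj.fst ⟶ AlgStLib.pt T := ⟨eqToHom hw, by
    have h₁ : a.hom.hom.app (op T) oA.sec = (AlgStLib.pt T).sec := by
      show a.hom.hom.app _ ((J S).uliftYonedaEquiv l) = _
      rw [← GrothendieckTopology.uliftYonedaEquiv_comp, hl₂, show sq.bot = (yon S).map (𝟙 T) from ((yon S).map_id T).symm]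
      exact GrothendieckTopology.uliftYonedaEquiv_uliftYoneda_map _ _
    rw [← h₁, ← fst_sec jf oA]
    exact map_eqToHom_cancel _ _ _⟩
  let c : ω.obj.snd.pt ⟶ y₀.obj (AlgStLib.pt T) := ω.obj.iso.inv ≫ y₀.map δ
  haveI : IsIso (𝒳.p.map c) := by
    haveI : IsIso (𝒳.p.map (y₀.map δ)) := by
      rw [map_map]
      haveI : IsIso ((AlgSt.ofSp (spOf T).obj).p.map δ) := inferInstanceAs (IsIso (eqToHom hw))
      infer_instance
    rw [Functor.map_comp]
    infer_instance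
  obtain ⟨σ, hσ⟩ := exists_autO hg ω.obj.snd.aut.hom ω.obj.snd.map_aut
  obtain ⟨β, hβ⟩ := (conj_bijective hg c).2 σ
  have hβc : ω.obj.snd.aut.hom ≫ c = c ≫ ah β := by
    rw [← hσ, ← hβ]
    exact conj_spec hg c β
  refine ⟨β, ?_⟩
  have hs : ah α ≫ N.hom.snd.hom = N.hom.snd.hom ≫ ω.obj.snd.aut.hom := N.hom.snd.comm
  have hw' : y₀.map N.hom.fst ≫ ω.obj.iso.hom = 𝟙 _ ≫ N.hom.snd.hom := N.hom.w
  rw [Category.id_comp] at hw'
  have hm : N.hom.snd.hom ≫ c = x.map (toId jj) := by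
    rw [← hw', Category.assoc, show ω.obj.iso.hom ≫ c = y₀.map δ from Iso.hom_inv_id_assoc _ _, ← Functor.map_comp]
    show x.map ((AlgSt.toOverCat T).map _) = _
    congr 1
    refine Over.OverMorphism.ext ?_
    show (N.hom.fst ≫ δ).hom = jj
    have h₂ : (N.hom.fst ≫ δ).hom ≫ 𝟙 T = jj := congrArg ULift.down (N.hom.fst ≫ δ).map_sec
    rwa [Category.comp_id] at h₂
  show ah α ≫ x.map (toId jj) = x.map (toId jj) ≫ ah β
  rw [← hm, Category.assoc, ← hβc, reassoc_of% hs]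

/-- extensions of automorphisms over discrete valuation rings give proper inertia over a locally noetherian stack -/
theorem proper_of_extDVR (h𝒳 : IsAlgStack Scheme.fppfPrecoverage 𝒳)
    (hsep : RepByAlgSpWith (AlgSp.IsSeparatedMor (S := S)) (FibCat.diag (FibCat.toSelf 𝒳)))
    (hqc : RepByAlgSpWith (AlgSp.IsQuasiCompactMor (S := S)) (FibCat.diag (FibCat.toSelf 𝒳)))
    (hl : RepByAlgSpWith (LocP (S := S) @LocallyOfFinitePresentation) (FibCat.inertiaToBase (FibCat.toSelf 𝒳)))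
    (hN : AlgSt.SmoothLocally (fun X => IsLocallyNoetherian X) 𝒳) (h : ExtDVR 𝒳) :
    RepByAlgSpWith (AlgSp.IsProperMor (S := S)) (FibCat.inertiaToBase (FibCat.toSelf 𝒳)) := by
  have hg := h𝒳.isStack.1
  let q := FibCat.inertiaToBase (FibCat.toSelf 𝒳)
  have hI : FibCat.IsFibGrpd (FibCat.inertia (FibCat.toSelf 𝒳)).p := Groth.Agent.S6404.result hg
  let Q : MorphismProperty (Sp S) := LocP @LocallyOfFiniteType ⊓ (AlgSp.IsSeparatedMor ⊓ AlgSp.IsQuasiCompactMor)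
  have hb : BCStable Q := fun _ _ _ _ hX₁ hY₁ hX₂ hY₂ a b a' b' sq h =>
    ⟨cls_lft.bc hX₁ hY₁ hX₂ hY₂ a b a' b' sq h.1, cls_separated.bc hX₁ hY₁ hX₂ hY₂ a b a' b' sq h.2.1,
      cls_qc.bc hX₁ hY₁ hX₂ hY₂ a b a' b' sq h.2.2⟩
  have hloc : IsLocalOnBase (IsFppfCover (S := S)) Q :=
    isLocalOnBase_and cls_lft.loc (isLocalOnBase_and cls_separated.loc cls_qc.loc)
  have hlft : RepByAlgSpWith (LocP (S := S) @LocallyOfFiniteType) q :=
    AlgStLib.repWith_mono hl fun _ _ a _ ha => locP_mono (fun _ _ f (hf : LocallyOfFinitePresentation f) =>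
      haveI := hf; inferInstanceAs (LocallyOfFiniteType f)) a ha
  have hq : RepByAlgSpWith Q q := by
    haveI := respectsIso_onSp (cls_lft (S := S)).bc
    haveI := respectsIso_onSp (cls_separated (S := S)).bc
    haveI := respectsIso_onSp (cls_qc (S := S)).bc
    haveI := respectsIso_and (onSp (AlgSp.IsSeparatedMor (S := S))) (onSp (AlgSp.IsQuasiCompactMor (S := S)))
    exact AlgStLib.repWith_mono (repWith_and (repWith_onSp_iff.2 hlft)
      (repWith_and (repWith_onSp_iff.2 (repWith_inertia_of_diag hsep)) (repWith_onSp_iff.2 (repWith_inertia_of_diag hqc))))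
      fun F U _ hF ha => ⟨ha.1 hF (IsAlgSpace.yon_obj _), ha.2.1 hF (IsAlgSpace.yon_obj _),
        ha.2.2 hF (IsAlgSpace.yon_obj _)⟩
  obtain ⟨X, x, hx, hxs⟩ := exists_space_atlas h𝒳
  obtain ⟨V, a, e, he, ⟨jf⟩, hft, hsepa, hqca⟩ := exists_model_of_repWith hb hloc hI hg hq X x
  have hXN : IsLocNoethSp X.obj := etaleLocally_of_smoothLocally hg hN X x hx
  have hqs : IsQuasiSeparatedMor a.hom :=
    AlgSpLib.repWith_mono (fun _ _ r (hr : IsClosedImmersion r) => inferInstanceAs (QuasiCompact r)) hsepa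
  have hp : AlgSp.IsProperMor a.hom :=
    (ValLib.isProperMor_iff_dvr V.property X.property a.hom hqs ⟨hft, hqca⟩ hXN).2 fun sq hA => by
      haveI := hA
      exact ⟨hasLift_of_extDVR jf he hg h sq, ValLib.uniqVC_of_separated a.hom hsepa sq⟩
  have hw₁ := repWith_flat_of_smooth hx
  have hIs := IsoSh.isAlgStack_inertia h𝒳
  exact (repWith_iff_exists_model cls_proper.bc cls_proper.loc hIs h𝒳 q X x hw₁ (repWith_lfp_of_smooth hx) hxs).2
    ⟨V, a, e, he, ⟨jf⟩, hp⟩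

end Groth.Agent.IsoNatLib.ExtDVR

end
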