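import Groth.Agent.IsoNatLib.Glue
import Groth.Agent.GerbLib.Glue
import Groth.Agent.S12794

/-!
# Stacks with atlases having the same isomorphisms are equivalent
-/

set_option autoImplicit false
set_option backward.isDefEq.respectTransparency false
set_option backward.isDefEq.respectTransparency.types false
set_option linter.style.haveILetI false
set_option maxHeartbeats 1000000
universe u

noncomputable section

namespace Groth.Agent.IsoNatLib.AtlasTransfer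

open CategoryTheory AlgebraicGeometry Groth.Agent.FibCatRep

variable {S : Scheme.{u}} {U : Over S} {𝒳 𝒴 : AlgSt.Cat S}

/-- morphisms over a given base map glue -/
theorem existsUnique_glueOver (hS : Stk.IsStack (Jf S) 𝒳) {x x' : 𝒳.obj} (f : 𝒳.p.obj x ⟶ 𝒳.p.obj x')
    {R : Sieve (𝒳.p.obj x)} (hR : R ∈ Jf S (𝒳.p.obj x))
    (m : ∀ (y : 𝒳.obj) (φ : y ⟶ x), R (𝒳.p.map φ) → (y ⟶ x'))
    (hm : ∀ (y : 𝒳.obj) (φ : y ⟶ x) (h : R (𝒳.p.map φ)), 𝒳.p.map (m y φ h) = 𝒳.p.map φ ≫ f)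
    (compat : ∀ ⦃y' y : 𝒳.obj⦄ (ψ : y' ⟶ y) (φ : y ⟶ x) (h : R (𝒳.p.map φ)) (h' : R (𝒳.p.map (ψ ≫ φ))),
      m y' (ψ ≫ φ) h' = ψ ≫ m y φ h) :
    ∃! M : x ⟶ x', 𝒳.p.map M = f ∧ ∀ (y : 𝒳.obj) (φ : y ⟶ x) (h : R (𝒳.p.map φ)), φ ≫ M = m y φ h := by
  have hg := hS.1
  obtain ⟨z, ψ₀, hz, hψ₀⟩ := exists_lift hg f
  choose m₁ hm₁ using fun y φ h => (existsUnique_cart hg ψ₀ (m y φ h) (𝒳.p.map φ ≫ eqToHom hz.symm)
    (by rw [hm, hψ₀]; simp)).exists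
  obtain ⟨M, ⟨hM, hM'⟩, hu⟩ := GerbLib.existsUnique_glueHom hS hz.symm hR m₁ (fun y φ h => (hm₁ y φ h).1)
    (fun y' y ψ φ h h' => cancel hg ψ₀
      (by rw [(hm₁ _ _ h').1, Functor.map_comp, Functor.map_comp, (hm₁ _ _ h).1, Category.assoc])
      (by rw [(hm₁ _ _ h').2, Category.assoc, (hm₁ _ _ h).2, compat ψ φ h h']))
  refine ⟨M ≫ ψ₀, ⟨by rw [Functor.map_comp, hM, hψ₀]; simp, fun y φ h => by
    rw [← Category.assoc, hM' y φ h, (hm₁ y φ h).2]⟩, ?_⟩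
  rintro N ⟨hN, hN'⟩
  obtain ⟨N₁, ⟨hN₁, rfl⟩, -⟩ := existsUnique_cart hg ψ₀ N (eqToHom hz.symm) (by rw [hN, hψ₀]; simp)
  congr 1
  refine hu N₁ ⟨hN₁, fun y φ h => cancel hg ψ₀ ?_ ?_⟩
  · rw [Functor.map_comp, hN₁, (hm₁ y φ h).1]
  · rw [Category.assoc, hN' y φ h, (hm₁ y φ h).2]

/-- the value of a chart at a point -/
abbrev Xo (x : FibCat.overCat U ⥤ᵇ 𝒳) {W : Over S} (a : W ⟶ U) : 𝒳.obj := x.obj (Over.mk a)

variable (x : FibCat.overCat U ⥤ᵇ 𝒳) (y : FibCat.overCat U ⥤ᵇ 𝒴)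

lemma xw {W : Over S} (a : W ⟶ U) : 𝒳.p.obj (Xo x a) = W := x.w_obj (Over.mk a)

/-- the base of a morphism between values -/
def bh {W W' : Over S} {a : W ⟶ U} {b : W' ⟶ U} (M : Xo x a ⟶ Xo x b) : W ⟶ W' :=
  eqToHom (xw x a).symm ≫ 𝒳.p.map M ≫ eqToHom (xw x b)

/-- the base of a morphism out of a value -/
def bo {W : Over S} {a : W ⟶ U} {ξ : 𝒳.obj} (μ : Xo x a ⟶ ξ) : W ⟶ 𝒳.p.obj ξ :=
  eqToHom (xw x a).symm ≫ 𝒳.p.map μ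

lemma map_bh {W W' : Over S} {a : W ⟶ U} {b : W' ⟶ U} (M : Xo x a ⟶ Xo x b) :
    𝒳.p.map M = eqToHom (xw x a) ≫ bh x M ≫ eqToHom (xw x b).symm := by simp [bh]

lemma map_bo {W : Over S} {a : W ⟶ U} {ξ : 𝒳.obj} (μ : Xo x a ⟶ ξ) :
    𝒳.p.map μ = eqToHom (xw x a) ≫ bo x μ := by simp [bo]

lemma bh_id {W : Over S} (a : W ⟶ U) : bh x (𝟙 (Xo x a)) = 𝟙 W := by simp [bh]

lemma bh_comp {W W' W'' : Over S} {a : W ⟶ U} {b : W' ⟶ U} {c : W'' ⟶ U} (M : Xo x a ⟶ Xo x b)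
    (M' : Xo x b ⟶ Xo x c) : bh x (M ≫ M') = bh x M ≫ bh x M' := by simp [bh]

lemma bo_comp {W W' : Over S} {a : W ⟶ U} {b : W' ⟶ U} {ξ : 𝒳.obj} (M : Xo x a ⟶ Xo x b) (μ : Xo x b ⟶ ξ) :
    bo x (M ≫ μ) = bh x M ≫ bo x μ := by simp [bh, bo]

lemma bo_comp' {W : Over S} {a : W ⟶ U} {ξ ξ' : 𝒳.obj} (μ : Xo x a ⟶ ξ) (q : ξ ⟶ ξ') :
    bo x (μ ≫ q) = bo x μ ≫ 𝒳.p.map q := by simp [bo]

/-- restriction along a map to the source of a point -/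
abbrev Xm {W W' : Over S} (g : W' ⟶ W) (a : W ⟶ U) : Xo x (g ≫ a) ⟶ Xo x a :=
  x.map (Over.homMk g rfl : (Over.mk (g ≫ a) : Over U) ⟶ Over.mk a)

lemma bh_Xm {W W' : Over S} (g : W' ⟶ W) (a : W ⟶ U) : bh x (Xm x g a) = g := by
  rw [bh, map_map]
  simp
  rfl

lemma existsUnique_factor (hg : FibCat.IsFibGrpd 𝒳.p) {W W' : Over S} {a : W ⟶ U} {b : W' ⟶ U} {ξ : 𝒳.obj}
    (μ : Xo x a ⟶ ξ) (ν : Xo x b ⟶ ξ) (g : W ⟶ W') (h : g ≫ bo x ν = bo x μ) :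
    ∃! M : Xo x a ⟶ Xo x b, bh x M = g ∧ M ≫ ν = μ := by
  obtain ⟨M, ⟨hM, hM'⟩, hu⟩ := existsUnique_cart hg ν μ (eqToHom (xw x a) ≫ g ≫ eqToHom (xw x b).symm)
    (by rw [map_bo, map_bo, ← h]; simp)
  exact ⟨M, ⟨by simp [bh, hM], hM'⟩, fun N hN => hu N ⟨by rw [map_bh, hN.1], hN.2⟩⟩

/-- the same isomorphisms between values of two charts -/
structure Tr where
  /-- the transfer of morphisms -/
  E : ∀ {W W' : Over S} (a : W ⟶ U) (b : W' ⟶ U), (Xo x a ⟶ Xo x b) ≃ (Xo y a ⟶ Xo y b)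
  base : ∀ {W W' : Over S} {a : W ⟶ U} {b : W' ⟶ U} (M : Xo x a ⟶ Xo x b), bh y (E a b M) = bh x M
  comp : ∀ {W W' W'' : Over S} {a : W ⟶ U} {b : W' ⟶ U} {c : W'' ⟶ U} (M : Xo x a ⟶ Xo x b)
    (M' : Xo x b ⟶ Xo x c), E a c (M ≫ M') = E a b M ≫ E b c M'

variable {x y}

/-- the transfer applied to a morphism -/
abbrev Tr.Θ (tr : Tr x y) {W W' : Over S} {a : W ⟶ U} {b : W' ⟶ U} (M : Xo x a ⟶ Xo x b) :
    Xo y a ⟶ Xo y b := tr.E a b M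

lemma Tr.map_one (tr : Tr x y) {W : Over S} (a : W ⟶ U) (h𝒴 : FibCat.IsFibGrpd 𝒴.p) :
    tr.Θ (𝟙 (Xo x a)) = 𝟙 (Xo y a) := by
  haveI : IsIso (𝒴.p.map (tr.Θ (𝟙 (Xo x a)))) := by rw [map_bh, tr.base, bh_id]; infer_instance
  haveI := isIso_of_map h𝒴 (tr.Θ (𝟙 (Xo x a)))
  rw [← cancel_epi (tr.Θ (𝟙 (Xo x a))), Category.comp_id]
  exact (tr.comp _ _).symm.trans (congrArg tr.Θ (Category.id_comp _))

/-- the points of a chart over an object -/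
def cov (x : FibCat.overCat U ⥤ᵇ 𝒳) (ξ : 𝒳.obj) : Sieve (𝒳.p.obj ξ) where
  arrows W f := ∃ (a : W ⟶ U) (μ : Xo x a ⟶ ξ), bo x μ = f
  downward_closed := by
    rintro W W' f ⟨a, μ, rfl⟩ g
    exact ⟨g ≫ a, Xm x g a ≫ μ, by rw [bo_comp, bh_Xm]⟩

variable (tr : Tr x y)

/-- the object of `𝒴` with the same points -/
structure Datum (ξ : 𝒳.obj) where
  /-- the object -/
  ζ : 𝒴.obj
  hζ : 𝒴.p.obj ζ = 𝒳.p.obj ξ
  /-- its points -/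
  κ : ∀ {W : Over S} {a : W ⟶ U}, (Xo x a ⟶ ξ) → (Xo y a ⟶ ζ)
  base : ∀ {W : Over S} {a : W ⟶ U} (μ : Xo x a ⟶ ξ), bo y (κ μ) = bo x μ ≫ eqToHom hζ.symm
  compat : ∀ {W W' : Over S} {a : W ⟶ U} {b : W' ⟶ U} (M : Xo x a ⟶ Xo x b) (μ : Xo x b ⟶ ξ),
    κ (M ≫ μ) = tr.Θ M ≫ κ μ

variable (h𝒳 : Stk.IsStack (Jf S) 𝒳) (h𝒴 : Stk.IsStack (Jf S) 𝒴) (hx : ∀ ξ, cov x ξ ∈ Jf S (𝒳.p.obj ξ))

include h𝒳 h𝒴 hx in
theorem exists_datum (ξ : 𝒳.obj) : Nonempty (Datum tr ξ) := by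
  let R := cov x ξ
  choose a μ hμ using fun w : (Stk.sieveCat R).obj => (w.property : R w.obj.hom)
  choose N hN hNu using fun (w w' : (Stk.sieveCat R).obj) (n : w ⟶ w') =>
    existsUnique_factor x h𝒳.1 (μ w) (μ w') n.hom.left (by rw [hμ, hμ]; exact Over.w n.hom)
  let H : Stk.sieveCat R ⥤ᵇ 𝒴 :=
    { toFunctor :=
        { obj := fun w => Xo y (a w)
          map := fun {w w'} n => tr.Θ (N w w' n)
          map_id := fun w => by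
            rw [← hNu w w (𝟙 w) (𝟙 _) ⟨bh_id x _, Category.id_comp _⟩]
            exact tr.map_one _ h𝒴.1
          map_comp := fun {w w' w''} n n' => by
            rw [← hNu w w'' (n ≫ n') (N w w' n ≫ N w' w'' n')
              ⟨by rw [bh_comp, (hN w w' n).1, (hN w' w'' n').1]; rfl,
               by rw [Category.assoc, (hN w' w'' n').2, (hN w w' n).2]⟩]
            exact tr.comp _ _ }
      w := CategoryTheory.Functor.ext (fun w => xw y (a w)) (fun w w' n => by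
        show 𝒴.p.map (tr.Θ (N w w' n)) = _
        rw [map_bh, tr.base, (hN w w' n).1]
        rfl) }
  haveI : (Stk.resSieve R 𝒴).IsEquivalence := h𝒴.2 R (hx ξ)
  let Q := (Stk.resSieve R 𝒴).objPreimage H
  let gi : (Stk.resSieve R 𝒴).obj Q ≅ H := (Stk.resSieve R 𝒴).objObjPreimageIso H
  let top : Over (𝒳.p.obj ξ) := Over.mk (𝟙 _)
  let ζ := Q.obj top
  have hζ : 𝒴.p.obj ζ = 𝒳.p.obj ξ := Q.w_obj top
  let t : ∀ w : Over (𝒳.p.obj ξ), Q.obj w ⟶ ζ := fun w =>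
    Q.map (Over.homMk w.hom (Category.comp_id _) : w ⟶ top)
  have nat : ∀ {w w' : (Stk.sieveCat R).obj} (n : w ⟶ w'), Q.map n.hom ≫ t w'.obj = t w.obj :=
    fun {w w'} n => by
    show Q.map n.hom ≫ Q.map _ = Q.map _
    rw [← Functor.map_comp]
    congr 1
    exact Over.OverMorphism.ext (Over.w n.hom)
  let k : ∀ w : (Stk.sieveCat R).obj, Xo y (a w) ⟶ ζ := fun w => gi.inv.toNatTrans.app w ≫ t w.obj
  have hk : ∀ w, bo y (k w) = w.obj.hom ≫ eqToHom hζ.symm := fun w => by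
    show eqToHom _ ≫ 𝒴.p.map (_ ≫ Q.map _) = _
    rw [Functor.map_comp, map_app, map_map]
    simp
    rfl
  have knat : ∀ {w w' : (Stk.sieveCat R).obj} (n : w ⟶ w'), tr.Θ (N w w' n) ≫ k w' = k w := fun {w w'} n => by
    show H.map n ≫ gi.inv.toNatTrans.app w' ≫ t w'.obj = _
    rw [← Category.assoc, gi.inv.toNatTrans.naturality n, Category.assoc]
    exact congrArg (gi.inv.toNatTrans.app w ≫ ·) (nat n)
  let wOf : ∀ {W : Over S} {b : W ⟶ U}, (Xo x b ⟶ ξ) → (Stk.sieveCat R).obj := fun ν => ⟨Over.mk (bo x ν), _, ν, rfl⟩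
  choose χ hχ hχu using fun (W : Over S) (b : W ⟶ U) (ν : Xo x b ⟶ ξ) =>
    existsUnique_factor x h𝒳.1 ν (μ (wOf ν)) (𝟙 W) (by rw [hμ]; exact Category.id_comp _)
  refine ⟨⟨ζ, hζ, fun {W b} ν => tr.Θ (χ W b ν) ≫ k (wOf ν), fun {W b} ν => ?_, fun {W W' b b'} M ν => ?_⟩⟩
  · rw [bo_comp, tr.base, (hχ W b ν).1, hk]
    exact Category.id_comp _
  · let n : wOf (M ≫ ν) ⟶ wOf ν := ⟨Over.homMk (bh x M) (bo_comp x M ν).symm⟩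
    have e : χ W b (M ≫ ν) ≫ N _ _ n = M ≫ χ W' b' ν := by
      refine (existsUnique_factor x h𝒳.1 (M ≫ ν) (μ (wOf ν)) (bh x M) ?_).unique ⟨?_, ?_⟩ ⟨?_, ?_⟩
      · rw [hμ]; exact (bo_comp x M ν).symm
      · rw [bh_comp, (hχ W b (M ≫ ν)).1, (hN _ _ n).1]; exact Category.id_comp _
      · rw [Category.assoc, (hN _ _ n).2, (hχ W b (M ≫ ν)).2]
      · rw [bh_comp, (hχ W' b' ν).1, Category.comp_id]
      · rw [Category.assoc, (hχ W' b' ν).2]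
    show tr.Θ (χ W b (M ≫ ν)) ≫ k (wOf (M ≫ ν)) = tr.Θ M ≫ tr.Θ (χ W' b' ν) ≫ k (wOf ν)
    rw [← knat n]
    refine (Category.assoc _ _ _).symm.trans (Eq.trans ?_ (Category.assoc _ _ _))
    refine congrArg (· ≫ k (wOf ν)) ?_
    exact (tr.comp _ _).symm.trans ((congrArg tr.Θ e).trans (tr.comp _ _))

variable {tr}

include h𝒳 h𝒴 in
lemma Datum.κ_injective {ξ : 𝒳.obj} (D : Datum tr ξ) {W : Over S} {a : W ⟶ U} :
    Function.Injective (D.κ (a := a)) := by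
  intro μ ν e
  have hb : bo x μ = bo x ν := by
    rw [← cancel_mono (eqToHom D.hζ.symm), ← D.base, ← D.base, e]
  obtain ⟨M, ⟨hM, hM'⟩, -⟩ := existsUnique_factor x h𝒳.1 μ ν (𝟙 W) (by rw [Category.id_comp, hb])
  have h1 : tr.Θ M = 𝟙 _ := by
    refine (existsUnique_factor y h𝒴.1 (D.κ μ) (D.κ ν) (𝟙 W) (by rw [Category.id_comp, e])).unique ?_ ?_
    · exact ⟨by rw [tr.base, hM], by rw [← D.compat, hM']⟩
    · exact ⟨bh_id y a, by rw [Category.id_comp, e]⟩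
  have h2 : M = 𝟙 _ := (tr.E a a).injective (h1.trans (tr.map_one a h𝒴.1).symm)
  rw [← hM', h2, Category.id_comp]

include h𝒳 h𝒴 in
/-- values of a family on the points do not depend on the chosen point -/
lemma Datum.indep {ξ : 𝒳.obj} (D : Datum tr ξ) {z : 𝒴.obj}
    (ν : ∀ {W : Over S} {a : W ⟶ U}, (Xo x a ⟶ ξ) → (Xo y a ⟶ z))
    (hν : ∀ {W W' : Over S} {a : W ⟶ U} {b : W' ⟶ U} (M : Xo x a ⟶ Xo x b) (μ : Xo x b ⟶ ξ),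
      ν (M ≫ μ) = tr.Θ M ≫ ν μ)
    {o : 𝒴.obj} {W W' : Over S} {a : W ⟶ U} {b : W' ⟶ U} (χ : o ⟶ Xo y a) (μ : Xo x a ⟶ ξ) (χ' : o ⟶ Xo y b)
    (μ' : Xo x b ⟶ ξ) (h : χ ≫ D.κ μ = χ' ≫ D.κ μ') : χ ≫ ν μ = χ' ≫ ν μ' := by
  have hg := h𝒴.1
  let g := 𝒴.p.map χ ≫ eqToHom (xw y a)
  let g' := 𝒴.p.map χ' ≫ eqToHom (xw y b)
  obtain ⟨χ₀, ⟨hχ₀, e₀⟩, -⟩ := existsUnique_cart hg (tr.Θ (Xm x g a)) χ (eqToHom (xw y (g ≫ a)).symm)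
    (by rw [map_bh, tr.base, bh_Xm]; simp [g])
  obtain ⟨χ₀', ⟨hχ₀', e₀'⟩, -⟩ := existsUnique_cart hg (tr.Θ (Xm x g' b)) χ' (eqToHom (xw y (g' ≫ b)).symm)
    (by rw [map_bh, tr.base, bh_Xm]; simp [g'])
  have h1 : (χ₀ ≫ tr.Θ (Xm x g a)) ≫ D.κ μ = (χ₀' ≫ tr.Θ (Xm x g' b)) ≫ D.κ μ' :=
    ((congrArg (· ≫ D.κ μ) e₀).trans h).trans (congrArg (· ≫ D.κ μ') e₀').symm
  suffices e : (χ₀ ≫ tr.Θ (Xm x g a)) ≫ ν μ = (χ₀' ≫ tr.Θ (Xm x g' b)) ≫ ν μ' from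
    ((congrArg (· ≫ ν μ) e₀).symm.trans e).trans (congrArg (· ≫ ν μ') e₀')
  clear h
  have h : χ₀ ≫ D.κ (Xm x g a ≫ μ) = χ₀' ≫ D.κ (Xm x g' b ≫ μ') := by
    rw [D.compat, D.compat]
    exact (Category.assoc _ _ _).symm.trans (h1.trans (Category.assoc _ _ _))
  refine (Category.assoc _ _ _).trans (Eq.trans ?_ (Category.assoc _ _ _).symm)
  rw [← hν, ← hν]
  generalize Xm x g a ≫ μ = m₁ at h ⊢
  generalize Xm x g' b ≫ μ' = m₂ at h ⊢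
  have hb : bo x m₁ = bo x m₂ := by
    have h' := congrArg 𝒴.p.map h
    rw [Functor.map_comp, Functor.map_comp, hχ₀, hχ₀', map_bo, map_bo, D.base, D.base] at h'
    simpa [cancel_mono] using h'
  obtain ⟨M, ⟨hM, hM'⟩, -⟩ := existsUnique_factor x h𝒳.1 m₁ m₂ (𝟙 _) (by rw [Category.id_comp, hb])
  rw [← hM', D.compat] at h
  rw [← hM', hν, ← Category.assoc]
  refine congrArg (· ≫ ν m₂) (cancel hg (D.κ m₂) ?_ (by rw [Category.assoc, h]))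
  rw [Functor.map_comp, hχ₀, map_bh y (tr.Θ M), tr.base, hM, hχ₀']
  simp

include h𝒳 h𝒴 hx in
/-- morphisms out of a datum are given on points -/
theorem Datum.existsUnique_hom {ξ : 𝒳.obj} (D : Datum tr ξ) {z : 𝒴.obj} (f : 𝒳.p.obj ξ ⟶ 𝒴.p.obj z)
    (ν : ∀ {W : Over S} {a : W ⟶ U}, (Xo x a ⟶ ξ) → (Xo y a ⟶ z))
    (hνb : ∀ {W : Over S} {a : W ⟶ U} (μ : Xo x a ⟶ ξ), bo y (ν μ) = bo x μ ≫ f)
    (hν : ∀ {W W' : Over S} {a : W ⟶ U} {b : W' ⟶ U} (M : Xo x a ⟶ Xo x b) (μ : Xo x b ⟶ ξ),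
      ν (M ≫ μ) = tr.Θ M ≫ ν μ) :
    ∃! Q : D.ζ ⟶ z, 𝒴.p.map Q = eqToHom D.hζ ≫ f ∧
      ∀ {W : Over S} {a : W ⟶ U} (μ : Xo x a ⟶ ξ), D.κ μ ≫ Q = ν μ := by
  have hg := h𝒴.1
  let R : Sieve (𝒴.p.obj D.ζ) := (cov x ξ).pullback (eqToHom D.hζ)
  have hR : R ∈ Jf S _ := (Jf S).pullback_stable _ (hx ξ)
  choose a μ hμ using fun (o : 𝒴.obj) (φ : o ⟶ D.ζ) (h : R (𝒴.p.map φ)) =>
    (h : cov x ξ (𝒴.p.map φ ≫ eqToHom D.hζ))
  choose χ hχ using fun (o : 𝒴.obj) (φ : o ⟶ D.ζ) (h : R (𝒴.p.map φ)) =>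
    (existsUnique_cart hg (D.κ (μ o φ h)) φ (eqToHom (xw y (a o φ h)).symm) (by
      rw [map_bo, D.base, hμ]; simp)).exists
  obtain ⟨Q, ⟨hQ, hQ'⟩, hu⟩ := existsUnique_glueOver h𝒴 (eqToHom D.hζ ≫ f) hR
    (fun o φ h => χ o φ h ≫ ν (μ o φ h))
    (fun o φ h => by rw [Functor.map_comp, (hχ o φ h).1, map_bo, hνb, hμ]; simp)
    (fun o' o ψ φ h h' => by
      rw [← Category.assoc ψ]
      exact D.indep h𝒳 h𝒴 ν hν _ _ _ _ (by rw [(hχ o' (ψ ≫ φ) h').2, Category.assoc, (hχ o φ h).2]))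
  have hall : ∀ {W : Over S} {a' : W ⟶ U} (μ' : Xo x a' ⟶ ξ), D.κ μ' ≫ Q = ν μ' := by
    intro W a' μ'
    have hmem : R (𝒴.p.map (D.κ μ')) := by
      show cov x ξ (𝒴.p.map (D.κ μ') ≫ eqToHom D.hζ)
      rw [map_bo, D.base]
      simp only [Category.assoc, eqToHom_trans, eqToHom_refl, Category.comp_id]
      exact (cov x ξ).downward_closed ⟨a', μ', rfl⟩ _
    rw [hQ' _ _ hmem]
    exact (D.indep h𝒳 h𝒴 ν hν _ _ (𝟙 _) μ' (by rw [(hχ _ _ hmem).2, Category.id_comp])).trans (Category.id_comp _)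
  refine ⟨Q, ⟨hQ, hall⟩, fun Q' hQ'' => hu Q' ⟨hQ''.1, fun o φ h => ?_⟩⟩
  rw [← hQ''.2, ← Category.assoc, (hχ o φ h).2]

include h𝒳 h𝒴 hx in
/-- every point of a datum comes from a point -/
theorem Datum.κ_surjective {ξ : 𝒳.obj} (D : Datum tr ξ) {W : Over S} {a : W ⟶ U} :
    Function.Surjective (D.κ (a := a)) := by
  intro N
  let f : 𝒳.p.obj (Xo x a) ⟶ 𝒳.p.obj ξ := eqToHom (xw x a) ≫ bo y N ≫ eqToHom D.hζ
  let R : Sieve (𝒳.p.obj (Xo x a)) := (cov x ξ).pullback f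
  have hR : R ∈ Jf S _ := (Jf S).pullback_stable _ (hx ξ)
  have key : ∀ {W' : Over S} {b : W' ⟶ U} (χ : Xo x b ⟶ Xo x a),
      cov x ξ (bh x χ ≫ bo y N ≫ eqToHom D.hζ) → ∃ μ : Xo x b ⟶ ξ, D.κ μ = tr.Θ χ ≫ N := by
    rintro W' b χ ⟨c, μ, hμ⟩
    obtain ⟨C, ⟨hC, hC'⟩, -⟩ := existsUnique_factor y h𝒴.1 (tr.Θ χ ≫ N) (D.κ μ) (𝟙 W')
      (by rw [D.base, hμ, bo_comp, tr.base]; simp)
    refine ⟨(tr.E b c).symm C ≫ μ, ?_⟩
    rw [D.compat, ← hC']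
    exact congrArg (· ≫ D.κ μ) ((tr.E b c).apply_symm_apply C)
  choose χ hχ using fun (o : 𝒳.obj) (φ : o ⟶ Xo x a) =>
    (existsUnique_cart h𝒳.1 (Xm x (𝒳.p.map φ ≫ eqToHom (xw x a)) a) φ (eqToHom (xw x _).symm)
      (by rw [map_bh, bh_Xm]; simp)).exists
  choose μ hμ using fun (o : 𝒳.obj) (φ : o ⟶ Xo x a) (h : R (𝒳.p.map φ)) =>
    key (Xm x (𝒳.p.map φ ≫ eqToHom (xw x a)) a) (by
      rw [bh_Xm, Category.assoc]
      exact h)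
  have hμb : ∀ (o : 𝒳.obj) (φ : o ⟶ Xo x a) (h : R (𝒳.p.map φ)), bo x (μ o φ h) = 𝒳.p.map φ ≫ f := fun o φ h => by
    rw [← cancel_mono (eqToHom D.hζ.symm), ← D.base, hμ o φ h, bo_comp, tr.base, bh_Xm]
    simp [f]
  obtain ⟨M, ⟨hM, hM'⟩, -⟩ := existsUnique_glueOver h𝒳 f hR (fun o φ h => χ o φ ≫ μ o φ h)
    (fun o φ h => by rw [Functor.map_comp, (hχ o φ).1, map_bo, hμb]; simp)
    (fun o' o ψ φ h h' => by
      obtain ⟨L, ⟨hL, hL'⟩, -⟩ := existsUnique_factor x h𝒳.1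
        (Xm x (𝒳.p.map (ψ ≫ φ) ≫ eqToHom (xw x a)) a) (Xm x (𝒳.p.map φ ≫ eqToHom (xw x a)) a) (𝒳.p.map ψ)
        (by simp [bo, map_bh x (Xm x _ a), bh_Xm])
      have e : L ≫ μ o φ h = μ o' (ψ ≫ φ) h' := D.κ_injective h𝒳 h𝒴 (by
        rw [D.compat, hμ, hμ, ← Category.assoc]
        exact congrArg (· ≫ N) ((tr.comp _ _).symm.trans (congrArg tr.Θ hL')))
      have e' : χ o' (ψ ≫ φ) ≫ L = ψ ≫ χ o φ := by
        refine cancel h𝒳.1 (Xm x (𝒳.p.map φ ≫ eqToHom (xw x a)) a) ?_ ?_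
        · refine (Functor.map_comp _ _ _).trans (Eq.trans ?_ (Functor.map_comp _ _ _).symm)
          rw [(hχ o' (ψ ≫ φ)).1, (hχ o φ).1, map_bh x L, hL]
          simp
        · rw [Category.assoc, hL', (hχ o' (ψ ≫ φ)).2, Category.assoc, (hχ o φ).2]
      rw [← e, ← Category.assoc, e', Category.assoc])
  have hMb : bo x M ≫ eqToHom D.hζ.symm = bo y N := by simp [bo, hM, f]
  -- compare on the covering
  refine ⟨M, ?_⟩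
  obtain ⟨C, ⟨hC, hC'⟩, -⟩ := existsUnique_factor y h𝒴.1 (D.κ M) N (𝟙 W) (by rw [D.base, hMb, Category.id_comp])
  rw [← hC']
  suffices e : C = 𝟙 _ by rw [e, Category.id_comp]
  let R' : Sieve (𝒴.p.obj (Xo y a)) := R.pullback (eqToHom ((xw y a).trans (xw x a).symm))
  refine GerbLib.hom_ext_local h𝒴 (e := rfl) (by rw [map_bh, hC]; simp) (by simp) (R := R')
    ((Jf S).pullback_stable _ hR) (fun V g hg => ?_)
  let g₁ : V ⟶ W := g ≫ eqToHom (xw y a)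
  refine ⟨Xo y (g₁ ≫ a), tr.Θ (Xm x g₁ a), xw y _, by rw [map_bh, tr.base, bh_Xm]; simp [g₁], ?_⟩
  rw [Category.comp_id]
  refine cancel h𝒴.1 N (by simp [map_bh y C, hC]) ?_
  refine (Category.assoc _ _ _).trans ?_
  rw [hC', ← D.compat]
  have hmem : R (𝒳.p.map (Xm x g₁ a)) := by
    show cov x ξ (𝒳.p.map _ ≫ f)
    have hg' : cov x ξ ((g ≫ eqToHom _) ≫ f) := hg
    rw [map_bh, bh_Xm]
    simpa [f, g₁] using (cov x ξ).downward_closed hg' (eqToHom (xw x (g₁ ≫ a)))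
  rw [hM' _ _ hmem, D.compat, hμ _ _ hmem]
  exact (Category.assoc _ _ _).symm.trans
    (congrArg (· ≫ N) ((tr.comp _ _).symm.trans (congrArg tr.Θ (hχ _ (Xm x g₁ a)).2)))

include h𝒳 h𝒴 hx in
/-- stacks with atlases having the same isomorphisms are equivalent -/
theorem exists_equiv (tr : Tr x y) (hy : ∀ η, cov y η ∈ Jf S (𝒴.p.obj η)) :
    ∃ e : 𝒳 ⥤ᵇ 𝒴, FibCat.IsEquivOver e := by
  let D : ∀ ξ, Datum tr ξ := fun ξ => (exists_datum tr h𝒳 h𝒴 hx ξ).some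
  have hex : ∀ {ξ ξ' : 𝒳.obj} (q : ξ ⟶ ξ'), ∃! Q : (D ξ).ζ ⟶ (D ξ').ζ,
      𝒴.p.map Q = eqToHom (D ξ).hζ ≫ 𝒳.p.map q ≫ eqToHom (D ξ').hζ.symm ∧
      ∀ {W : Over S} {a : W ⟶ U} (μ : Xo x a ⟶ ξ), (D ξ).κ μ ≫ Q = (D ξ').κ (μ ≫ q) := fun {ξ ξ'} q =>
    (D ξ).existsUnique_hom h𝒳 h𝒴 hx _ (fun μ => (D ξ').κ (μ ≫ q))
      (fun μ => by rw [(D ξ').base, bo_comp']; simp)
      (fun M μ => by rw [Category.assoc, (D ξ').compat])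
  choose Q hQ hQu using fun (ξ ξ' : 𝒳.obj) (q : ξ ⟶ ξ') => hex q
  let F : 𝒳 ⥤ᵇ 𝒴 :=
    { toFunctor :=
        { obj := fun ξ => (D ξ).ζ
          map := fun {ξ ξ'} q => Q ξ ξ' q
          map_id := fun ξ => (hQu ξ ξ (𝟙 ξ) (𝟙 _) ⟨by simp, fun μ => by simp⟩).symm
          map_comp := fun {ξ ξ' ξ''} q q' => (hQu ξ ξ'' (q ≫ q') (Q ξ ξ' q ≫ Q ξ' ξ'' q')
            ⟨by rw [Functor.map_comp, (hQ ξ ξ' q).1, (hQ ξ' ξ'' q').1]; simp, fun μ => by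
              rw [← Category.assoc, (hQ ξ ξ' q).2, (hQ ξ' ξ'' q').2, Category.assoc]⟩).symm }
      w := CategoryTheory.Functor.ext (fun ξ => (D ξ).hζ) (fun ξ ξ' q => (hQ ξ ξ' q).1) }
  haveI : F.toFunctor.Faithful := ⟨fun {ξ ξ'} q q' e => by
    have e' : Q ξ ξ' q = Q ξ ξ' q' := e
    have hp : 𝒳.p.map q = 𝒳.p.map q' := by
      have h' := (hQ ξ ξ' q).1
      rw [e', (hQ ξ ξ' q').1] at h'
      simpa [cancel_epi, cancel_mono] using h'.symm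
    refine FibCat2Misc.eq_of_locally h𝒳.1 rfl _ (faithful_resSieve h𝒳 _ (hx ξ)) q q' hp ?_
    rintro V g ⟨a, μ, rfl⟩
    refine ⟨Xo x a, μ, xw x a, by rw [map_bo]; simp, (D ξ').κ_injective h𝒳 h𝒴 ?_⟩
    rw [← (hQ ξ ξ' q).2, ← (hQ ξ ξ' q').2, e']⟩
  haveI : F.toFunctor.Full := ⟨fun {ξ ξ'} Q' => by
    let P : (D ξ).ζ ⟶ (D ξ').ζ := Q'
    let f : 𝒳.p.obj ξ ⟶ 𝒳.p.obj ξ' := eqToHom (D ξ).hζ.symm ≫ 𝒴.p.map P ≫ eqToHom (D ξ').hζ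
    choose ν hν using fun (W : Over S) (a : W ⟶ U) (μ : Xo x a ⟶ ξ) =>
      (D ξ').κ_surjective h𝒳 h𝒴 hx ((D ξ).κ μ ≫ P)
    have hνb : ∀ {W : Over S} {a : W ⟶ U} (μ : Xo x a ⟶ ξ), bo x (ν W a μ) = bo x μ ≫ f := fun {W a} μ => by
      rw [← cancel_mono (eqToHom (D ξ').hζ.symm), ← (D ξ').base, hν, bo_comp', (D ξ).base]
      simp [f]
    choose a μ hμ using fun (o : 𝒳.obj) (φ : o ⟶ ξ) (h : cov x ξ (𝒳.p.map φ)) => (h : ∃ a μ, bo x μ = 𝒳.p.map φ)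
    choose χ hχ using fun (o : 𝒳.obj) (φ : o ⟶ ξ) (h : cov x ξ (𝒳.p.map φ)) =>
      (existsUnique_cart h𝒳.1 (μ o φ h) φ (eqToHom (xw x (a o φ h)).symm) (by
        rw [map_bo, hμ]; simp)).exists
    obtain ⟨q, ⟨hq, hq'⟩, -⟩ := existsUnique_glueOver h𝒳 f (hx ξ) (fun o φ h => χ o φ h ≫ ν _ _ (μ o φ h))
      (fun o φ h => by rw [Functor.map_comp, (hχ o φ h).1, map_bo, hνb, hμ]; simp)
      (fun o' o ψ φ h h' => by
        obtain ⟨L, ⟨hL, hL'⟩, -⟩ := existsUnique_factor x h𝒳.1 (μ o' (ψ ≫ φ) h') (μ o φ h) (𝒳.p.map ψ)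
          (by rw [hμ, hμ, Functor.map_comp])
        have e : L ≫ ν _ _ (μ o φ h) = ν _ _ (μ o' (ψ ≫ φ) h') := (D ξ').κ_injective h𝒳 h𝒴 (by
          rw [(D ξ').compat, hν, hν, ← Category.assoc, ← (D ξ).compat, hL'])
        have e' : χ o' (ψ ≫ φ) h' ≫ L = ψ ≫ χ o φ h := by
          refine cancel h𝒳.1 (μ o φ h) ?_ ?_
          · rw [Functor.map_comp, Functor.map_comp, (hχ o' (ψ ≫ φ) h').1, (hχ o φ h).1, map_bh x L, hL]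
            simp
          · rw [Category.assoc, hL', (hχ o' (ψ ≫ φ) h').2, Category.assoc, (hχ o φ h).2]
        rw [← e, ← Category.assoc, e', Category.assoc])
    refine ⟨q, (hQu ξ ξ' q P ⟨by rw [hq]; simp [f], fun {W b} m => ?_⟩).symm⟩
    rw [← hν]
    congr 1
    have hmem : cov x ξ (𝒳.p.map m) := by
      rw [map_bo]
      exact (cov x ξ).downward_closed ⟨b, m, rfl⟩ _
    rw [hq' _ m hmem]
    obtain ⟨L, ⟨hL, hL'⟩, -⟩ := existsUnique_factor x h𝒳.1 m (μ _ m hmem) (eqToHom (xw x b).symm)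
      (by rw [hμ]; rfl)
    have e : L = χ _ m hmem := cancel h𝒳.1 (μ _ m hmem) (by rw [(hχ _ m hmem).1, map_bh x L, hL]; simp)
      (by rw [hL', (hχ _ m hmem).2])
    refine (D ξ').κ_injective h𝒳 h𝒴 ?_
    rw [hν, ← e, (D ξ').compat, hν, ← Category.assoc, ← (D ξ).compat, hL']⟩
  refine ⟨F, (Groth.Agent.S12794.result (Jf S) h𝒳 h𝒴 F).2 fun η => ⟨cov y η, hy η, ?_⟩⟩
  rintro V g ⟨a, N, rfl⟩
  have hb : bo y (N) = bo y N := rfl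
  -- the value of a chart goes to the value of the other chart
  obtain ⟨P, ⟨hP, hP'⟩, -⟩ := (D (Xo x a)).existsUnique_hom h𝒳 h𝒴 hx (z := η) (eqToHom (xw x a) ≫ bo y N)
    (fun M => tr.Θ M ≫ N) (fun M => by rw [bo_comp, tr.base]; simp [bh, bo])
    (fun M M' => by rw [← Category.assoc]; exact congrArg (· ≫ N) (tr.comp _ _))
  exact ⟨Xo x a, P, IsHomLift.of_fac' 𝒴.p _ _ ((D (Xo x a)).hζ.trans (xw x a)) rfl (by
    show 𝒴.p.map P = _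
    rw [hP]
    simp)⟩

end Groth.Agent.IsoNatLib.AtlasTransfer

end
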