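import Groth.Agent.IsoNatLib.AxesCrit

/-!
# Commutativity of automorphism sheaves is detected by isomorphism classes
-/

set_option autoImplicit false
set_option backward.isDefEq.respectTransparency false
set_option backward.isDefEq.respectTransparency.types false
set_option linter.style.haveILetI false
universe u

noncomputable section

namespace Groth.Agent.IsoNatLib

open CategoryTheory CategoryTheory.Limits AlgebraicGeometry Groth.Agent.FibCatRep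

variable {S : Scheme.{u}} {𝒳 𝒴 : AlgSt.Cat S} {T : Over S} {x : FibCat.overCat T ⥤ᵇ 𝒳}

/-- the test object of the identity -/
abbrev Tst.id₀ (T : Over S) : Tst (𝟙 T) (⊤ : T.left.Opens) :=
  ⟨Over.mk (𝟙 T), 𝟙 T, Category.comp_id _, fun _ _ => trivial⟩

/-- automorphisms of the value at the identity extend to constant sections -/
theorem exists_globalSec (hg : FibCat.IsFibGrpd 𝒳.p) (a : Gerb.AutO (x.obj (Over.mk (𝟙 T)))) :
    ∃ s : sec x (𝟙 T) (⊤ : T.left.Opens), s.1 (Tst.id₀ T) = a := by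
  let toTop : ∀ t : Tst (𝟙 T) (⊤ : T.left.Opens), t.o ⟶ Over.mk (𝟙 T) := fun t => Over.homMk t.w t.hw
  choose b hb hbu using fun t : Tst (𝟙 T) (⊤ : T.left.Opens) =>
    GerbLib.Band.existsUnique_conj hg (x.map (toTop t)) a
  have hmem : b ∈ sec x (𝟙 T) (⊤ : T.left.Opens) := fun t' t m e => by
    refine cancel hg (x.map (toTop t)) (by simp [GerbLib.Band.map_ah]) ?_
    have hm : m ≫ toTop t = toTop t' := Over.OverMorphism.ext e
    rw [Category.assoc, Category.assoc, hb t, ← Functor.map_comp_assoc, ← Functor.map_comp, hm]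
    exact hb t'
  refine ⟨⟨b, hmem⟩, ((hbu (Tst.id₀ T) a ?_).symm : b (Tst.id₀ T) = a)⟩
  show GerbLib.Band.ah a ≫ x.map (toTop (Tst.id₀ T)) = x.map (toTop (Tst.id₀ T)) ≫ GerbLib.Band.ah a
  rw [show toTop (Tst.id₀ T) = 𝟙 _ from Over.OverMorphism.ext rfl, x.toFunctor.map_id, Category.comp_id,
    Category.id_comp]

namespace Axes

/-- the pair criterion makes the automorphisms at the identity commute -/
theorem comm_top (hS : Stk.IsStack (Jf S) 𝒳)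
    (hd : AlgSt.RepByAlgSpWith AlgSp.IsSeparatedMor (FibCat.diag (FibCat.toSelf 𝒳))) (hcrit : PairCrit x)
    (a b : Gerb.AutO (x.obj (Over.mk (𝟙 T)))) : a * b = b * a := by
  obtain ⟨s, rfl⟩ := exists_globalSec hS.1 a
  obtain ⟨t, rfl⟩ := exists_globalSec hS.1 b
  exact congrArg (fun k : sec x (𝟙 T) (⊤ : T.left.Opens) => k.1 (Tst.id₀ T)) (comm_of_pairCrit hS hd hcrit s t)

theorem LT.transport (h𝒳 : FibCat.IsFibGrpd 𝒳.p) (h𝒴 : FibCat.IsFibGrpd 𝒴.p) {φ : IsoNat.FIso 𝒳 𝒴}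
    {y : FibCat.overCat T ⥤ᵇ 𝒴} (hxy : Rel φ x y) {U : Over S} {q : U ⟶ T} {V : U.left.Opens}
    {c : FibCat.overCat (dbl V) ⥤ᵇ 𝒳} {d : FibCat.overCat (dbl V) ⥤ᵇ 𝒴} (hcd : Rel φ c d) :
    LT q V x c ↔ LT q V y d :=
  ⟨fun h b => Rel.nonempty_iso h𝒴 (hcd.overMap h𝒴 _) (hxy.overMap h𝒴 _) (h b),
    fun h b => Rel.nonempty_iso_symm h𝒳 h𝒴 (hcd.overMap h𝒴 _) (hxy.overMap h𝒴 _) (h b)⟩

theorem PairCrit.transport (h𝒳 : FibCat.IsFibGrpd 𝒳.p) (h𝒴 : FibCat.IsFibGrpd 𝒴.p) {φ : IsoNat.FIso 𝒳 𝒴}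
    {y : FibCat.overCat T ⥤ᵇ 𝒴} (hxy : Rel φ x y) : PairCrit x ↔ PairCrit y := by
  refine ⟨fun h d d' hl hl' h₁ h₂ => ?_, fun h c c' hl hl' h₁ h₂ => ?_⟩
  · obtain ⟨c, hc⟩ := Rel.exists_left h𝒳 φ d
    obtain ⟨c', hc'⟩ := Rel.exists_left h𝒳 φ d'
    exact Rel.nonempty_iso h𝒴 hc hc' (h c c' ((LT.transport h𝒳 h𝒴 hxy hc).2 hl)
      ((LT.transport h𝒳 h𝒴 hxy hc').2 hl')
      (Rel.nonempty_iso_symm h𝒳 h𝒴 (hc.overMap h𝒴 _) (hc'.overMap h𝒴 _) h₁)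
      (Rel.nonempty_iso_symm h𝒳 h𝒴 (hc.overMap h𝒴 _) (hc'.overMap h𝒴 _) h₂))
  · obtain ⟨d, hd⟩ := Rel.exists_right h𝒴 φ c
    obtain ⟨d', hd'⟩ := Rel.exists_right h𝒴 φ c'
    exact Rel.nonempty_iso_symm h𝒳 h𝒴 hd hd' (h d d' ((LT.transport h𝒳 h𝒴 hxy hd).1 hl)
      ((LT.transport h𝒳 h𝒴 hxy hd').1 hl') (Rel.nonempty_iso h𝒴 (hd.overMap h𝒴 _) (hd'.overMap h𝒴 _) h₁)
      (Rel.nonempty_iso h𝒴 (hd.overMap h𝒴 _) (hd'.overMap h𝒴 _) h₂))

/-- objects with abelian automorphism sheaves satisfy the pair criterion after every base change -/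
theorem pairCrit_of_isAutAbelian (hS : Stk.IsStack (Jf S) 𝒳)
    (hd : AlgSt.RepByAlgSpWith AlgSp.IsSeparatedMor (FibCat.diag (FibCat.toSelf 𝒳))) {η : 𝒳.p.Fiber T}
    (hx : IsoNat.objCls x = IsoNat.cls η) (hab : IsoNat.IsAutAbelian η) {W : Over S} (u : W ⟶ T) :
    PairCrit (BasedFunctor.comp (AlgSt.overMap u) x) := by
  obtain ⟨e⟩ := Quotient.exact hx
  let z : Over W → 𝒳.obj := fun o => x.obj ((AlgSt.overMap u).obj o)
  refine pairCrit_of_comm hS hd fun o a b => ?_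
  let w := (AlgSt.overMap u).obj o
  exact hab (𝒳.p.obj (z o)) (Gerb.fib (z o))
    (x.map (Over.homMk w.hom (Category.comp_id _) : w ⟶ Over.mk (𝟙 T)) ≫ e.hom.1) a b

/-- the pair criterion after every base change makes the automorphism sheaf abelian -/
theorem isAutAbelian_of_pairCrit (hS : Stk.IsStack (Jf S) 𝒳)
    (hd : AlgSt.RepByAlgSpWith AlgSp.IsSeparatedMor (FibCat.diag (FibCat.toSelf 𝒳))) {η : 𝒳.p.Fiber T}
    (hx : IsoNat.objCls x = IsoNat.cls η)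
    (hcrit : ∀ (W : Over S) (u : W ⟶ T), PairCrit (BasedFunctor.comp (AlgSt.overMap u) x)) :
    IsoNat.IsAutAbelian η := by
  intro W ξ f s t
  obtain ⟨e⟩ := Quotient.exact hx
  have hg := hS.1
  let u : W ⟶ T := eqToHom ξ.2.symm ≫ 𝒳.p.map f ≫ eqToHom η.2
  let xW := BasedFunctor.comp (AlgSt.overMap u) x
  let top : Over W := Over.mk (𝟙 W)
  let k : (AlgSt.overMap u).obj top ⟶ Over.mk (𝟙 T) :=
    Over.homMk u (show u ≫ 𝟙 T = 𝟙 W ≫ u by rw [Category.comp_id, Category.id_comp])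
  let g : xW.obj top ⟶ η.1 := x.map k ≫ e.hom.1
  have hgm : 𝒳.p.map g = eqToHom (xW.w_obj top) ≫ u ≫ eqToHom η.2.symm := by
    show 𝒳.p.map (x.map k ≫ e.hom.1) = _
    rw [𝒳.p.map_comp, FibCatRep.map_map, map_of_fiber e.hom]
    simp
    rfl
  obtain ⟨χ, ⟨hχ, hχf⟩, -⟩ := existsUnique_cart hg g f (eqToHom (ξ.2.trans (xW.w_obj top).symm)) (by
    rw [hgm]
    simp [u])
  haveI : IsIso (𝒳.p.map χ) := by rw [hχ]; infer_instance
  haveI := isIso_of_map hg χ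
  have hvert : ∀ (r : Aut ξ), 𝒳.p.map (inv χ ≫ r.hom.1 ≫ χ) = 𝟙 _ := fun r => by
    have h₁ : 𝒳.p.map r.hom.1 = 𝟙 _ := (map_of_fiber r.hom).trans (eqToHom_refl _ _)
    rw [𝒳.p.map_comp, 𝒳.p.map_comp, h₁, Category.id_comp, ← 𝒳.p.map_comp, IsIso.inv_hom_id, 𝒳.p.map_id]
  obtain ⟨a, ha⟩ := GerbLib.Band.exists_autO hg _ (hvert s)
  obtain ⟨b, hb⟩ := GerbLib.Band.exists_autO hg _ (hvert t)
  have hab := congrArg GerbLib.Band.ah (comm_top hS hd (hcrit W u) a b)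
  rw [GerbLib.Band.ah_mul, GerbLib.Band.ah_mul, ha, hb] at hab
  refine Aut.ext (Functor.Fiber.hom_ext ?_)
  show t.hom.1 ≫ s.hom.1 = s.hom.1 ≫ t.hom.1
  simp only [Category.assoc, IsIso.hom_inv_id_assoc] at hab
  rw [cancel_epi, ← Category.assoc, ← Category.assoc, cancel_mono] at hab
  exact hab

end Axes

/-- commutativity of automorphism sheaves is detected by isomorphism classes -/
theorem isAutAbelian_iff (h𝒳 : Stk.IsStack (Jf S) 𝒳)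
    (h𝒳d : AlgSt.RepByAlgSpWith AlgSp.IsSeparatedMor (FibCat.diag (FibCat.toSelf 𝒳)))
    (h𝒴 : Stk.IsStack (Jf S) 𝒴)
    (h𝒴d : AlgSt.RepByAlgSpWith AlgSp.IsSeparatedMor (FibCat.diag (FibCat.toSelf 𝒴)))
    (φ : IsoNat.FIso 𝒳 𝒴) (η : 𝒳.p.Fiber T) (η' : 𝒴.p.Fiber T)
    (hη : φ.toEquiv T (IsoNat.cls η) = IsoNat.cls η') : IsoNat.IsAutAbelian η ↔ IsoNat.IsAutAbelian η' := by
  obtain ⟨x, hx⟩ := exists_objCls h𝒳.1 (IsoNat.cls η)
  obtain ⟨y, hy⟩ := exists_objCls h𝒴.1 (IsoNat.cls η')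
  have hxy : Rel φ x y := by
    show φ.toEquiv T _ = _
    rw [hx, hy, hη]
  refine ⟨fun h => Axes.isAutAbelian_of_pairCrit h𝒴 h𝒴d hy fun W u => ?_,
    fun h => Axes.isAutAbelian_of_pairCrit h𝒳 h𝒳d hx fun W u => ?_⟩
  · exact (Axes.PairCrit.transport h𝒳.1 h𝒴.1 (hxy.overMap h𝒴.1 u)).1
      (Axes.pairCrit_of_isAutAbelian h𝒳 h𝒳d hx h u)
  · exact (Axes.PairCrit.transport h𝒳.1 h𝒴.1 (hxy.overMap h𝒴.1 u)).2
      (Axes.pairCrit_of_isAutAbelian h𝒴 h𝒴d hy h u)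

end Groth.Agent.IsoNatLib

end
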