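import Groth.Agent.IsoNatLib.AutAbelian

/-!
# Abelian automorphism groups are recovered from isomorphism classes

An automorphism `g` labels the object on two doubled axes twisted by `g` on the first axis; the product is read
off on three axes.
-/

set_option autoImplicit false
set_option backward.isDefEq.respectTransparency false
set_option backward.isDefEq.respectTransparency.types false
set_option linter.style.haveILetI false
universe u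

noncomputable section

namespace Groth.Agent.IsoNatLib

open CategoryTheory CategoryTheory.Limits AlgebraicGeometry Groth.Agent.FibCatRep

variable {S : Scheme.{u}} {𝒳 𝒴 : AlgSt.Cat S} {T : Over S}

/-- the untwisted object -/
abbrev trivialObj {U : Over S} (q : U ⟶ T) (V : U.left.Opens) (x : FibCat.overCat T ⥤ᵇ 𝒳) :
    FibCat.overCat (dbl V) ⥤ᵇ 𝒳 :=
  BasedFunctor.comp (AlgSt.overMap (dp V)) (BasedFunctor.comp (AlgSt.overMap q) x)

/-- the untwisted object has trivial cocycle -/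
theorem exists_triv_trivialObj (hg : FibCat.IsFibGrpd 𝒳.p) {U : Over S} (q : U ⟶ T) (V : U.left.Opens)
    (x : FibCat.overCat T ⥤ᵇ 𝒳) : ∃ τ : Triv q V x (trivialObj q V x), τ.cocycle hg = 1 := by
  let e : ∀ (b : Bool) (t : Tst q (⊤ : U.left.Opens)),
      t.o ≅ (AlgSt.overMap q).obj ((AlgSt.overMap (dp V)).obj (Over.mk (t.w ≫ dj V b))) := fun b t =>
    Over.isoMk (Iso.refl _) (by
      show 𝟙 _ ≫ ((t.w ≫ dj V b) ≫ dp V) ≫ q = t.o.hom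
      rw [Category.id_comp, Category.assoc t.w, dj_dp, Category.comp_id, t.hw])
  let τ : Triv q V x (trivialObj q V x) :=
    { θ := fun b t => x.toFunctor.mapIso (e b t)
      vert := fun b t => by
        show 𝒳.p.map (x.map (e b t).hom) = _
        rw [FibCatRep.map_map]
        show eqToHom _ ≫ 𝟙 _ ≫ eqToHom _ = _
        simp
      nat := fun b t' t m h => by
        show x.map m ≫ x.map (e b t).hom = x.map (e b t').hom ≫ x.map _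
        rw [← Functor.map_comp, ← Functor.map_comp]
        congr 1 }

  refine ⟨τ, sec_ext fun t => (cancel_mono (τ.θ true t.toTop).hom).1 ?_⟩
  rw [τ.cocycle_spec hg t]
  show x.map (e false t.toTop).hom ≫ x.map _ = 𝟙 _ ≫ x.map (e true t.toTop).hom
  rw [Category.id_comp, ← Functor.map_comp]
  congr 1

namespace Axes

variable {x : FibCat.overCat T ⥤ᵇ 𝒳} {n m : ℕ}

theorem Rel₁.refl (γ : SV T x n) : Rel₁ γ γ := ⟨fun _ => 1, by rw [map_one, mul_one, one_mul]⟩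

theorem Rel₁.symm {γ γ' : SV T x n} (h : Rel₁ γ γ') : Rel₁ γ' γ := by
  obtain ⟨a, ha⟩ := h
  refine ⟨fun b => (a b)⁻¹, ?_⟩
  rw [map_inv, map_inv, mul_inv_eq_iff_eq_mul, mul_assoc, ha, inv_mul_cancel_left]

theorem Rel₁.trans {γ γ' γ'' : SV T x n} (h : Rel₁ γ γ') (h' : Rel₁ γ' γ'') : Rel₁ γ γ'' := by
  obtain ⟨a, ha⟩ := h
  obtain ⟨a', ha'⟩ := h'
  refine ⟨fun b => a' b * a b, ?_⟩
  rw [map_mul, map_mul, ← mul_assoc, ha', mul_assoc, ha, ← mul_assoc]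

theorem Rel₁.map [NeZero m] {γ γ' : SV T x m} (h : Rel₁ γ γ') (f : Fin n → Option (Fin m))
    (hf : ∀ k, (f k).isSome) : Rel₁ (rV T x f hf γ) (rV T x f hf γ') := by
  obtain ⟨a, ha⟩ := h
  refine ⟨fun b => rU T x f (a b), ?_⟩
  rw [← rV_iV f hf, ← rV_iV f hf, ← map_mul, ← map_mul, ha]

/-- doubling of the map given by a partial map of index sets -/
abbrev dm (T : Over S) [NeZero m] (f : Fin n → Option (Fin m)) (hf : ∀ k, (f k).isSome) :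
    dbl (V T n) ⟶ dbl (V T m) :=
  dmap (um T f) (V_le_preimage T f hf)

/-- pullback of a trivialisation with its cocycle -/
theorem exists_pullback (hg : FibCat.IsFibGrpd 𝒳.p) [NeZero m] (f : Fin n → Option (Fin m)) (hf : ∀ k, (f k).isSome)
    {c : FibCat.overCat (dbl (V T m)) ⥤ᵇ 𝒳} (τ : Triv (uq T m) (V T m) x c) :
    ∃ τ' : Triv (uq T n) (V T n) x (BasedFunctor.comp (AlgSt.overMap (dm T f hf)) c),
      τ'.cocycle hg = rV T x f hf (τ.cocycle hg) :=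
  ⟨τ.comap (V_le_preimage T f hf) (um_q T f), Triv.cocycle_comap _ _ hg τ⟩

/-- objects trivial on both lines -/
def Ker (x : FibCat.overCat T ⥤ᵇ 𝒳) (c : FibCat.overCat (dbl (V T 2)) ⥤ᵇ 𝒳) : Prop :=
  LT (uq T 2) (V T 2) x c ∧ ∀ i : Fin 2, Nonempty (BasedFunctor.comp (AlgSt.overMap (dm T (line i) (isSome_line i))) c ≅
    trivialObj (uq T 1) (V T 1) x)

/-- the object is twisted by `g` on the first axis -/
def Lab (hg : FibCat.IsFibGrpd 𝒳.p) (g : G₀ T x) (c : FibCat.overCat (dbl (V T 2)) ⥤ᵇ 𝒳) : Prop :=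
  ∃ (τ : Triv (uq T 2) (V T 2) x c) (γ : SV T x 2), lV 0 γ = cV T x 1 g ∧ lV 1 γ = 1 ∧ Rel₁ γ (τ.cocycle hg)

variable (hS : Stk.IsStack (Jf S) 𝒳)
include hS

theorem exists_gamma₂ (g : G₀ T x) : ∃ γ : SV T x 2, lV 0 γ = cV T x 1 g ∧ lV 1 γ = 1 := by
  obtain ⟨γ, h, h'⟩ := exists_single (T := T) (x := x) (n := 2) hS 0 g
  exact ⟨γ, h, h' 1 (by decide)⟩

theorem exists_lab (g : G₀ T x) : ∃ c, Lab hS.1 g c := by
  obtain ⟨γ, h, h'⟩ := exists_gamma₂ hS g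
  obtain ⟨c, τ, hτ⟩ := exists_triv hS γ
  exact ⟨c, τ, γ, h, h', by rw [hτ]; exact Rel₁.refl γ⟩

theorem Lab.iso {g : G₀ T x} {c c' : FibCat.overCat (dbl (V T 2)) ⥤ᵇ 𝒳} (h : Lab hS.1 g c) (h' : Lab hS.1 g c') :
    Nonempty (c ≅ c') := by
  obtain ⟨τ, γ, h0, h1, hr⟩ := h
  obtain ⟨τ', γ', h0', h1', hr'⟩ := h'
  have e : γ = γ' := ext_lines hS γ γ' fun i => by
    fin_cases i
    · exact h0.trans h0'.symm
    · exact h1.trans h1'.symm
  subst e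
  exact iso_of_rel hS τ τ' (hr.symm.trans hr')

theorem Lab.of_iso {g : G₀ T x} {c c' : FibCat.overCat (dbl (V T 2)) ⥤ᵇ 𝒳} (h : Lab hS.1 g c) (i : Nonempty (c ≅ c')) :
    Lab hS.1 g c' := by
  obtain ⟨τ, γ, h0, h1, hr⟩ := h
  obtain ⟨τ'⟩ : Nonempty (Triv (uq T 2) (V T 2) x c') := nonempty_triv fun b => by
    obtain ⟨j⟩ := τ.nonempty_iso hS.1 b
    obtain ⟨i⟩ := i
    exact ⟨((Stk.restr (AlgSt.overMap (dj (V T 2) b)) 𝒳).mapIso i).symm ≪≫ j⟩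
  exact ⟨τ', γ, h0, h1, hr.trans (rel_of_iso hS.1 τ τ' i)⟩

variable (hd : AlgSt.RepByAlgSpWith AlgSp.IsSeparatedMor (FibCat.diag (FibCat.toSelf 𝒳)))

include hd in
theorem Lab.unique (hc : ∀ a b : G₀ T x, a * b = b * a) {g g' : G₀ T x} {c : FibCat.overCat (dbl (V T 2)) ⥤ᵇ 𝒳}
    (h : Lab hS.1 g c) (h' : Lab hS.1 g' c) : g = g' := by
  obtain ⟨τ, γ, h0, h1, hr⟩ := h
  obtain ⟨τ', γ', h0', h1', hr'⟩ := h'
  obtain ⟨a, ha⟩ := (hr.trans (rel_of_iso hS.1 τ τ' ⟨Iso.refl c⟩)).trans hr'.symm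
  have org : ∀ (i : Fin 2) (u v : G₀ T x), lV i γ = cV T x 1 u → lV i γ' = cV T x 1 v →
      v * ev T x (lU 0 (a false)) = ev T x (lU 0 (a true)) * u := fun i u v hu hv => by
    have := congrArg (lV i) ha
    rw [map_mul, map_mul, rV_iV, rV_iV, hu, hv, ← iV_cU, ← iV_cU, ← map_mul, ← map_mul] at this
    have := congrArg (ev T x) (injective_iV_one hS hd this)
    rw [map_mul, map_mul, ev_cU, ev_cU] at this
    rw [ev_lU 0 i, ev_lU 0 i]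
    exact this
  have o1 := org 1 1 1 (h1.trans (map_one _).symm) (h1'.trans (map_one _).symm)
  rw [one_mul, mul_one] at o1
  have o0 := org 0 g g' h0 h0'
  rw [o1, hc g', mul_left_cancel_iff] at o0
  exact o0.symm

theorem Lab.ker {g : G₀ T x} {c : FibCat.overCat (dbl (V T 2)) ⥤ᵇ 𝒳} (h : Lab hS.1 g c) : Ker x c := by
  obtain ⟨τ, γ, h0, h1, hr⟩ := h
  refine ⟨τ.nonempty_iso hS.1, fun i => ?_⟩
  obtain ⟨τ', hτ'⟩ := exists_pullback hS.1 (line i) (isSome_line i) τ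
  obtain ⟨τ₀, hτ₀⟩ := exists_triv_trivialObj hS.1 (uq T 1) (V T 1) x
  refine iso_of_rel hS τ' τ₀ ?_
  rw [hτ', hτ₀]
  refine Rel₁.trans ((hr.symm).map (line i) (isSome_line i)) ?_
  fin_cases i
  · show Rel₁ (lV 0 γ) 1
    rw [h0]
    exact ⟨fun b => if b then 1 else cU T x 1 g, by simp only [Bool.false_eq_true, if_false, if_true, map_one, iV_cU, one_mul]⟩
  · show Rel₁ (lV 1 γ) 1
    rw [h1]
    exact Rel₁.refl 1

set_option maxHeartbeats 800000 in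
include hd in
theorem exists_lab_of_ker (hc : ∀ (o : Over T) (a b : Gerb.AutO (x.obj o)), a * b = b * a)
    {c : FibCat.overCat (dbl (V T 2)) ⥤ᵇ 𝒳} (h : Ker x c) : ∃ g : G₀ T x, Lab hS.1 g c := by
  have comm : ∀ {Z : Over S} {q : Z ⟶ T} {W : Z.left.Opens} (a b : sec x q W), a * b = b * a :=
    fun a b => Subtype.ext (funext fun t => hc _ _ _)
  obtain ⟨τ⟩ := nonempty_triv h.1
  let δ := τ.cocycle hS.1
  have hb : ∀ i : Fin 2, ∃ b : SU T x 1, lV i δ = iV T x 1 b := fun i => by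
    obtain ⟨τ', hτ'⟩ := exists_pullback hS.1 (line i) (isSome_line i) τ
    obtain ⟨τ₀, hτ₀⟩ := exists_triv_trivialObj hS.1 (uq T 1) (V T 1) x
    obtain ⟨a, ha⟩ := (rel_of_iso hS.1 τ' τ₀ (h.2 i)).symm
    rw [hτ', hτ₀, mul_one] at ha
    refine ⟨a true * (a false)⁻¹, ?_⟩
    rw [map_mul, map_inv]
    exact eq_mul_inv_iff_mul_eq.2 ha
  choose b hb using hb
  let u := ev T x (b 0)
  let v := ev T x (b 1)
  obtain ⟨γ, hγ0, hγ1⟩ := exists_gamma₂ hS (u * v⁻¹)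
  let e : SU T x 2 := rU T x (retr (0 : Fin 2)) (b 0) * rU T x (retr (1 : Fin 2)) (b 1) * (cU T x 2 u)⁻¹
  refine ⟨u * v⁻¹, τ, γ, hγ0, hγ1, fun s => if s then e else 1, ?_⟩
  simp only [Bool.false_eq_true, if_false, if_true, map_one, mul_one]
  show δ = iV T x 2 e * γ
  have hcU : ∀ i : Fin 2, lU i (cU T x 2 u) = cU T x 1 u := fun i => res_res _ _ _ _ _ _ _ (um_q T _) _ _ u
  have hid : ∀ s : SU T x 1, rU T x (line (0 : Fin 1)) s = s := fun s => res_self _ (um_id T 1 _ (by decide)) _ _ _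
  refine ext_lines hS _ _ fun i => ?_
  rw [map_mul, rV_iV, hb i]
  fin_cases i
  · show iV T x 1 (b 0) = iV T x 1 (rU T x (line (0 : Fin 2)) e) * lV 0 γ
    rw [hγ0, ← iV_cU, ← map_mul]
    congr 1
    show b 0 = rU T x (line (0 : Fin 2)) (_ * _ * _) * _
    rw [map_mul, map_mul, map_inv, rU_rU (line 0) (retr (0 : Fin 2)) (line 0) (by decide), hid,
      rU_rU (line 0) (retr (1 : Fin 2)) (fun _ => none) (by decide), rU_none _ (fun _ => rfl), hcU, mul_assoc,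
      mul_assoc, ← map_inv, ← map_mul, ← map_mul]
    have : v * (u⁻¹ * (u * v⁻¹)) = 1 := by rw [inv_mul_cancel_left, mul_inv_cancel]
    show b 0 = b 0 * cU T x 1 (v * (u⁻¹ * (u * v⁻¹)))
    rw [this, map_one, mul_one]
  · show iV T x 1 (b 1) = iV T x 1 (rU T x (line (1 : Fin 2)) e) * lV 1 γ
    rw [hγ1, mul_one]
    congr 1
    show b 1 = rU T x (line (1 : Fin 2)) (_ * _ * _)
    rw [map_mul, map_mul, map_inv, rU_rU (line 1) (retr (1 : Fin 2)) (line 0) (by decide), hid,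
      rU_rU (line 1) (retr (0 : Fin 2)) (fun _ => none) (by decide), rU_none _ (fun _ => rfl),
      show rU T x (line (1 : Fin 2)) (cU T x 2 u) = cU T x 1 u from hcU 1,
      comm (cU T x 1 (ev T x (b 0))) (b 1), mul_inv_cancel_right]

/-- the pair of axes `0`, `2` among three -/
abbrev p02 : Fin 2 → Option (Fin 3) := fun k => if k = 0 then some 0 else some 2

omit hS in
lemma isSome_p02 : ∀ k, (p02 k).isSome := by decide

include hd in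
/-- the product is read off on three axes -/
theorem exists_triple (hc : ∀ (o : Over T) (a b : Gerb.AutO (x.obj o)), a * b = b * a) (g h : G₀ T x) :
    ∃ C, LT (uq T 3) (V T 3) x C ∧ Lab hS.1 g (BasedFunctor.comp (AlgSt.overMap (dm T p01 isSome_p01)) C) ∧
      Lab hS.1 h (BasedFunctor.comp (AlgSt.overMap (dm T p12 isSome_p12)) C) ∧
      Lab hS.1 (g * h) (BasedFunctor.comp (AlgSt.overMap (dm T p02 isSome_p02)) C) := by
  choose s hs hs' using exists_single (T := T) (x := x) (n := 3) hS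
  obtain ⟨γ, v0, v1, v2⟩ : ∃ γ : SV T x 3, lV 0 γ = cV T x 1 g ∧ lV 1 γ = 1 ∧ lV 2 γ = cV T x 1 h⁻¹ := by
    refine ⟨s 0 g * s 2 h⁻¹, ?_, ?_, ?_⟩
    · rw [map_mul, hs, hs' 2 h⁻¹ 0 (by decide), mul_one]
    · rw [map_mul, hs' 0 g 1 (by decide), hs' 2 h⁻¹ 1 (by decide), mul_one]
    · rw [map_mul, hs, hs' 0 g 2 (by decide), one_mul]
  obtain ⟨C, τ, hτ⟩ := exists_triv hS γ
  have key : ∀ (f : Fin 2 → Option (Fin 3)) (hf : ∀ k, (f k).isSome) (r k : G₀ T x) (u v : SV T x 1),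
      lV 0 (rV T x f hf γ) = u → lV 1 (rV T x f hf γ) = v → cV T x 1 k * u = cV T x 1 r → cV T x 1 k * v = 1 →
      Lab hS.1 r (BasedFunctor.comp (AlgSt.overMap (dm T f hf)) C) := fun f hf r k u v hu hv h0 h1 => by
    obtain ⟨τ', hτ'⟩ := exists_pullback hS.1 f hf τ
    refine ⟨τ', cV T x 2 k * rV T x f hf γ, by rw [map_mul, hu, rV_cV, h0], by rw [map_mul, hv, rV_cV, h1],
      fun b => if b then cU T x 2 k⁻¹ else 1, ?_⟩
    rw [hτ', hτ]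
    simp only [Bool.false_eq_true, if_false, if_true, map_one, mul_one, iV_cU, map_inv, inv_mul_cancel_left]
  refine ⟨C, τ.nonempty_iso hS.1, ?_, ?_, ?_⟩
  · exact key p01 isSome_p01 g 1 _ _ ((rV_rV _ _ (line 0) (by decide) _ _ (isSome_line _) _).trans v0)
      ((rV_rV _ _ (line 1) (by decide) _ _ (isSome_line _) _).trans v1) (by rw [map_one, one_mul]) (by rw [map_one, one_mul])
  · exact key p12 isSome_p12 h h _ _ ((rV_rV _ _ (line 1) (by decide) _ _ (isSome_line _) _).trans v1)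
      ((rV_rV _ _ (line 2) (by decide) _ _ (isSome_line _) _).trans v2) (by rw [mul_one])
      (by rw [← map_mul, mul_inv_cancel, map_one])
  · exact key p02 isSome_p02 (g * h) h _ _ ((rV_rV _ _ (line 0) (by decide) _ _ (isSome_line _) _).trans v0)
      ((rV_rV _ _ (line 2) (by decide) _ _ (isSome_line _) _).trans v2)
      (by rw [← map_mul, show h * g = g * h from Subtype.ext (funext fun t => hc _ _ _)])
      (by rw [← map_mul, mul_inv_cancel, map_one])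

omit hS in
theorem Ker.transport (h𝒳 : FibCat.IsFibGrpd 𝒳.p) (h𝒴 : FibCat.IsFibGrpd 𝒴.p) {φ : IsoNat.FIso 𝒳 𝒴}
    {y : FibCat.overCat T ⥤ᵇ 𝒴} (hxy : Rel φ x y) {c : FibCat.overCat (dbl (V T 2)) ⥤ᵇ 𝒳}
    {d : FibCat.overCat (dbl (V T 2)) ⥤ᵇ 𝒴} (hcd : Rel φ c d) : Ker x c ↔ Ker y d :=
  and_congr (LT.transport h𝒳 h𝒴 hxy hcd) (forall_congr' fun i =>
    ⟨Rel.nonempty_iso h𝒴 (hcd.overMap h𝒴 _) ((hxy.overMap h𝒴 _).overMap h𝒴 _),
      Rel.nonempty_iso_symm h𝒳 h𝒴 (hcd.overMap h𝒴 _) ((hxy.overMap h𝒴 _).overMap h𝒴 _)⟩)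

include hd in
/-- the groups of global automorphisms correspond -/
theorem nonempty_mulEquiv (h𝒴 : Stk.IsStack (Jf S) 𝒴)
    (h𝒴d : AlgSt.RepByAlgSpWith AlgSp.IsSeparatedMor (FibCat.diag (FibCat.toSelf 𝒴))) {φ : IsoNat.FIso 𝒳 𝒴}
    {y : FibCat.overCat T ⥤ᵇ 𝒴} (hxy : Rel φ x y) (hcx : ∀ (o : Over T) (a b : Gerb.AutO (x.obj o)), a * b = b * a)
    (hcy : ∀ (o : Over T) (a b : Gerb.AutO (y.obj o)), a * b = b * a) : Nonempty (G₀ T x ≃* G₀ T y) := by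
  classical
  have cx : ∀ a b : G₀ T x, a * b = b * a := fun a b => Subtype.ext (funext fun t => hcx _ _ _)
  have cy : ∀ a b : G₀ T y, a * b = b * a := fun a b => Subtype.ext (funext fun t => hcy _ _ _)
  let R : G₀ T x → G₀ T y → Prop := fun g g' => ∃ c d, Lab hS.1 g c ∧ Rel φ c d ∧ Lab h𝒴.1 g' d
  have ex : ∀ g, ∃ g', R g g' := fun g => by
    obtain ⟨c, hcl⟩ := exists_lab hS g
    obtain ⟨d, hd'⟩ := Rel.exists_right h𝒴.1 φ c
    obtain ⟨g', hg'⟩ := exists_lab_of_ker h𝒴 h𝒴d hcy ((Ker.transport hS.1 h𝒴.1 hxy hd').1 (hcl.ker hS))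
    exact ⟨g', c, d, hcl, hd', hg'⟩
  have uR : ∀ {g g₁ g₂}, R g g₁ → R g g₂ → g₁ = g₂ := by
    rintro g g₁ g₂ ⟨c, d, hc, hcd, hd₁⟩ ⟨c', d', hc', hcd', hd₂⟩
    exact Lab.unique h𝒴 h𝒴d cy (hd₁.of_iso h𝒴 (Rel.nonempty_iso h𝒴.1 hcd hcd' (hc.iso hS hc'))) hd₂
  have uL : ∀ {g₁ g₂ g'}, R g₁ g' → R g₂ g' → g₁ = g₂ := by
    rintro g₁ g₂ g' ⟨c, d, hc, hcd, hd₁⟩ ⟨c', d', hc', hcd', hd₂⟩
    exact Lab.unique hS hd cx (hc.of_iso hS (Rel.nonempty_iso_symm hS.1 h𝒴.1 hcd hcd' (hd₁.iso h𝒴 hd₂))) hc'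
  choose ψ hψ using ex
  have hmul : ∀ g h, ψ (g * h) = ψ g * ψ h := fun g h => by
    obtain ⟨C, hC, C01, C12, C02⟩ := exists_triple hS hd hcx g h
    obtain ⟨C', hC', D01, D12, D02⟩ := exists_triple h𝒴 h𝒴d hcy (ψ g) (ψ h)
    obtain ⟨D, hD⟩ := Rel.exists_right h𝒴.1 φ C
    obtain ⟨cg, dg, hcg, hrg, hdg⟩ := hψ g
    obtain ⟨ch, dh, hch, hrh, hdh⟩ := hψ h
    obtain ⟨k₁⟩ := Rel.nonempty_iso h𝒴.1 (hD.overMap h𝒴.1 _) hrg (C01.iso hS hcg)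
    obtain ⟨l₁⟩ := hdg.iso h𝒴 D01
    obtain ⟨k₂⟩ := Rel.nonempty_iso h𝒴.1 (hD.overMap h𝒴.1 _) hrh (C12.iso hS hch)
    obtain ⟨l₂⟩ := hdh.iso h𝒴 D12
    obtain ⟨i⟩ := pairCrit_of_comm h𝒴 h𝒴d hcy D C' ((LT.transport hS.1 h𝒴.1 hxy hD).1 hC) hC'
      ⟨k₁ ≪≫ l₁⟩ ⟨k₂ ≪≫ l₂⟩
    exact uR (hψ (g * h)) ⟨_, _, C02, hD.overMap h𝒴.1 _, D02.of_iso h𝒴 ⟨((Stk.restr _ 𝒴).mapIso i).symm⟩⟩
  refine ⟨MulEquiv.ofBijective (MonoidHom.mk' ψ hmul) ⟨fun g₁ g₂ e => uL (hψ g₁) ?_, fun g' => ?_⟩⟩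
  · rw [show ψ g₁ = ψ g₂ from e]
    exact hψ g₂
  · obtain ⟨d, hdl⟩ := exists_lab h𝒴 g'
    obtain ⟨c, hc'⟩ := Rel.exists_left hS.1 φ d
    obtain ⟨g, hgl⟩ := exists_lab_of_ker hS hd hcx ((Ker.transport hS.1 h𝒴.1 hxy hc').2 (hdl.ker h𝒴))
    exact ⟨g, uR (hψ g) ⟨c, d, hgl, hc', hdl⟩⟩

omit hS in
/-- global sections are the automorphisms at the identity -/
theorem nonempty_globalSecEquiv (hg : FibCat.IsFibGrpd 𝒳.p) :
    Nonempty (G₀ T x ≃* Gerb.AutO (x.obj (Over.mk (𝟙 T)))) := by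
  refine ⟨MulEquiv.ofBijective (MonoidHom.mk' (fun s : G₀ T x => s.1 (Tst.id₀ T)) fun _ _ => rfl)
    ⟨fun a b e => sec_ext fun t => ?_, fun a => exists_globalSec (x := x) hg a⟩⟩
  let m : t.o ⟶ (Tst.id₀ T).o := Over.homMk t.w t.hw
  refine cancel hg (x.map m) (by rw [GerbLib.Band.map_ah, GerbLib.Band.map_ah]) ?_
  rw [a.2 t (Tst.id₀ T) m (Category.comp_id _), b.2 t (Tst.id₀ T) m (Category.comp_id _)]
  exact congrArg (fun z => x.map m ≫ GerbLib.Band.ah z) e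

omit hS in
/-- automorphisms of a vertically isomorphic object -/
theorem nonempty_autEquiv (hg : FibCat.IsFibGrpd 𝒳.p) {η : 𝒳.p.Fiber T} (hx : IsoNat.objCls x = IsoNat.cls η) :
    Nonempty (Gerb.AutO (x.obj (Over.mk (𝟙 T))) ≃* Aut η) := by
  obtain ⟨e⟩ := Quotient.exact hx
  let z : 𝒳.p.Fiber T := ⟨x.obj (Over.mk (𝟙 T)), x.w_obj (Over.mk (𝟙 T))⟩
  have aux : ∀ {o : 𝒳.obj} {W : Over S} (h : 𝒳.p.obj o = W),
      Nonempty (Gerb.AutO o ≃* Aut (show 𝒳.p.Fiber W from ⟨o, h⟩)) := by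
    intro o W h
    subst h
    exact ⟨MulEquiv.refl _⟩
  obtain ⟨E₁⟩ := aux (x.w_obj (Over.mk (𝟙 T)))
  exact ⟨E₁.trans (Aut.autMulEquivOfIso e)⟩

end Axes

/-- abelian automorphism groups are recovered from isomorphism classes -/
theorem nonempty_aut_mulEquiv (h𝒳 : Stk.IsStack (Jf S) 𝒳)
    (h𝒳d : AlgSt.RepByAlgSpWith AlgSp.IsSeparatedMor (FibCat.diag (FibCat.toSelf 𝒳)))
    (h𝒴 : Stk.IsStack (Jf S) 𝒴)
    (h𝒴d : AlgSt.RepByAlgSpWith AlgSp.IsSeparatedMor (FibCat.diag (FibCat.toSelf 𝒴)))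
    (φ : IsoNat.FIso 𝒳 𝒴) (η : 𝒳.p.Fiber T) (η' : 𝒴.p.Fiber T)
    (hη : φ.toEquiv T (IsoNat.cls η) = IsoNat.cls η') (hab : IsoNat.IsAutAbelian η) :
    Nonempty (Aut η ≃* Aut η') := by
  have hab' := (isAutAbelian_iff h𝒳 h𝒳d h𝒴 h𝒴d φ η η' hη).1 hab
  obtain ⟨x, hx⟩ := exists_objCls h𝒳.1 (IsoNat.cls η)
  obtain ⟨y, hy⟩ := exists_objCls h𝒴.1 (IsoNat.cls η')
  have hxy : Rel φ x y := by
    show φ.toEquiv T _ = _
    rw [hx, hy, hη]
  have comm : ∀ {𝒵 : AlgSt.Cat S} {z : FibCat.overCat T ⥤ᵇ 𝒵} {ζ : 𝒵.p.Fiber T},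
      IsoNat.objCls z = IsoNat.cls ζ → IsoNat.IsAutAbelian ζ →
      ∀ (o : Over T) (a b : Gerb.AutO (z.obj o)), a * b = b * a := by
    intro 𝒵 z ζ hz habz o a b
    obtain ⟨e⟩ := Quotient.exact hz
    exact habz (𝒵.p.obj (z.obj o)) (Gerb.fib (z.obj o))
      (z.map (Over.homMk o.hom (Category.comp_id _) : o ⟶ Over.mk (𝟙 T)) ≫ e.hom.1) a b
  obtain ⟨E⟩ := Axes.nonempty_mulEquiv h𝒳 h𝒳d h𝒴 h𝒴d hxy (comm hx hab) (comm hy hab')
  obtain ⟨A₁⟩ := Axes.nonempty_globalSecEquiv (x := x) h𝒳.1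
  obtain ⟨A₂⟩ := Axes.nonempty_globalSecEquiv (x := y) h𝒴.1
  obtain ⟨B₁⟩ := Axes.nonempty_autEquiv h𝒳.1 hx
  obtain ⟨B₂⟩ := Axes.nonempty_autEquiv h𝒴.1 hy
  exact ⟨B₁.symm.trans (A₁.symm.trans (E.trans (A₂.trans B₂)))⟩

end Groth.Agent.IsoNatLib

end
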