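import Groth.Agent.IsoNatLib.AutGroup

/-!
# Automorphisms trivial after base change

For `j : T₀ ⟶ T`, triviality of the automorphisms which are trivial over `T₀` is read on isomorphism classes.
-/

set_option autoImplicit false
set_option backward.isDefEq.respectTransparency false
set_option backward.isDefEq.respectTransparency.types false
set_option linter.style.haveILetI false
set_option maxHeartbeats 1000000
universe u

noncomputable section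

namespace Groth.Agent.IsoNatLib

open CategoryTheory CategoryTheory.Limits AlgebraicGeometry Groth.Agent.FibCatRep

variable {S : Scheme.{u}} {𝒳 𝒴 : AlgSt.Cat S} {T T₀ : Over S} {j : T₀ ⟶ T} {x : FibCat.overCat T ⥤ᵇ 𝒳}

/-- values of sections only depend on the test morphism -/
theorem sec_val_congr {Z : Over S} {q : Z ⟶ T} {W : Z.left.Opens} (a : sec x q W) {o : Over T}
    {w w' : o.left ⟶ Z} (hw : w ≫ q = o.hom) (hw' : w' ≫ q = o.hom)
    (hin : Set.range w.left ⊆ (W : Set Z.left)) (hin' : Set.range w'.left ⊆ (W : Set Z.left)) (e : w = w') :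
    a.1 ⟨o, w, hw, hin⟩ = a.1 ⟨o, w', hw', hin'⟩ := by subst e; rfl

section bc

variable {Z Z₀ : Over S} {q : Z ⟶ T} {q₀ : Z₀ ⟶ T₀} {W : Z.left.Opens} {W₀ : Z₀.left.Opens}

/-- the test object over `T` of a test object over `T₀` -/
abbrev Tst.down (h : Z₀ ⟶ Z) (e : h ≫ q = q₀ ≫ j) (hW : W₀ ≤ h.left ⁻¹ᵁ W) (t : Tst q₀ W₀) : Tst q W where
  o := (AlgSt.overMap j).obj t.o
  w := t.w ≫ h
  hw := by
    refine (Category.assoc t.w h q).trans ?_
    rw [e, ← Category.assoc, t.hw]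
    rfl
  hin := by
    rintro _ ⟨p, rfl⟩
    exact hW (t.hin ⟨p, rfl⟩)

/-- base change of sections -/
def bc (h : Z₀ ⟶ Z) (e : h ≫ q = q₀ ≫ j) (hW : W₀ ≤ h.left ⁻¹ᵁ W) :
    sec x q W →* sec (BasedFunctor.comp (AlgSt.overMap j) x) q₀ W₀ where
  toFun a := ⟨fun t => a.1 (t.down h e hW), fun t' t m hm => a.2 (t'.down h e hW) (t.down h e hW)
    ((AlgSt.overMap j).map m) (by
      show m.left ≫ t.w ≫ h = t'.w ≫ h
      rw [← Category.assoc, hm])⟩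
  map_one' := rfl
  map_mul' _ _ := rfl

theorem bc_res {Z' Z₀' : Over S} {q' : Z' ⟶ T} {q₀' : Z₀' ⟶ T₀} {W' : Z'.left.Opens} {W₀' : Z₀'.left.Opens}
    (h : Z₀ ⟶ Z) (e : h ≫ q = q₀ ≫ j) (hW : W₀ ≤ h.left ⁻¹ᵁ W) (h' : Z₀' ⟶ Z') (e' : h' ≫ q' = q₀' ≫ j)
    (hW' : W₀' ≤ h'.left ⁻¹ᵁ W') (k₀ : Z₀' ⟶ Z₀) (ek₀ : k₀ ≫ q₀ = q₀') (hk₀ : W₀' ≤ k₀.left ⁻¹ᵁ W₀)
    (k : Z' ⟶ Z) (ek : k ≫ q = q') (hk : W' ≤ k.left ⁻¹ᵁ W) (sq : k₀ ≫ h = h' ≫ k) (a : sec x q W) :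
    res k₀ ek₀ hk₀ (bc h e hW a) = bc h' e' hW' (res k ek hk a) := by
  refine Subtype.ext (funext fun t => ?_)
  show a.1 ((t.map k₀ ek₀ hk₀).down h e hW) = a.1 ((t.down h' e' hW').map k ek hk)
  exact sec_val_congr a _ _ _ _ (show (t.w ≫ k₀) ≫ h = (t.w ≫ h') ≫ k by
    rw [Category.assoc, Category.assoc, sq])

variable {U₀ U : Over S} {V₀ : U₀.left.Opens} {V : U.left.Opens} {p₀ : U₀ ⟶ T₀} {p : U ⟶ T}
  {h : U₀ ⟶ U} {hV : V₀ ≤ h.left ⁻¹ᵁ V} {c : FibCat.overCat (dbl V₀) ⥤ᵇ 𝒳}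

/-- trivialisations seen over `T₀` -/
def Triv.down {p' : U₀ ⟶ T} (e : p₀ ≫ j = p') (τ : Triv p' V₀ x c) :
    Triv p₀ V₀ (BasedFunctor.comp (AlgSt.overMap j) x) c where
  θ b t := τ.θ b ⟨(AlgSt.overMap j).obj t.o, t.w, by rw [← e, ← Category.assoc, t.hw]; rfl, t.hin⟩
  vert b t := τ.vert b ⟨(AlgSt.overMap j).obj t.o, t.w, by rw [← e, ← Category.assoc, t.hw]; rfl, t.hin⟩
  nat b t' t m hm := τ.nat b ⟨(AlgSt.overMap j).obj t'.o, t'.w, by rw [← e, ← Category.assoc, t'.hw]; rfl, t'.hin⟩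
    ⟨(AlgSt.overMap j).obj t.o, t.w, by rw [← e, ← Category.assoc, t.hw]; rfl, t.hin⟩ ((AlgSt.overMap j).map m) hm

theorem exists_triv_bc (hg : FibCat.IsFibGrpd 𝒳.p) (e : h ≫ p = p₀ ≫ j) {d : FibCat.overCat (dbl V) ⥤ᵇ 𝒳}
    (τ : Triv p V x d) :
    ∃ τ₀ : Triv p₀ V₀ (BasedFunctor.comp (AlgSt.overMap j) x) (BasedFunctor.comp (AlgSt.overMap (dmap h hV)) d),
      τ₀.cocycle hg = bc h e hV (τ.cocycle hg) := by
  refine ⟨(τ.comap (q' := h ≫ p) hV rfl).down e.symm, sec_ext fun t => ?_⟩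
  let t' : Tst (h ≫ p) V₀ := ⟨(AlgSt.overMap j).obj t.o, t.w, by rw [e, ← Category.assoc, t.hw]; rfl, t.hin⟩
  have e₁ : GerbLib.Band.ah (((τ.comap (q' := h ≫ p) hV rfl).cocycle hg).1 t') =
      GerbLib.Band.ah ((bc h e hV (τ.cocycle hg)).1 t) := by
    rw [Triv.cocycle_comap]
    rfl
  refine (cancel_mono (((τ.comap (q' := h ≫ p) hV rfl).θ true t'.toTop)).hom).1 ?_
  rw [← e₁, Triv.cocycle_spec hg _ t']
  exact Triv.cocycle_spec hg ((τ.comap (q' := h ≫ p) hV rfl).down e.symm) t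

end bc

/-- automorphisms trivial over `T₀` are trivial -/
def InjSec (j : T₀ ⟶ T) (x : FibCat.overCat T ⥤ᵇ 𝒳) : Prop :=
  ∀ g : Axes.G₀ T x, bc (q₀ := 𝟙 T₀) (W := (⊤ : T.left.Opens)) (W₀ := (⊤ : T₀.left.Opens)) j
    (by rw [Category.comp_id, Category.id_comp]) (fun _ _ => trivial) g = 1 → g = 1

namespace Axes

variable (j) in
/-- the base change of the axes -/
def ub (n : ℕ) : U T₀ n ⟶ U T n :=
  Over.homMk (pullback.lift (pullback.fst (toZ T₀.left) (toZ (Spec (A.{u} n))) ≫ j.left)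
    (pullback.snd (toZ T₀.left) (toZ (Spec (A.{u} n)))) (specULiftZIsTerminal.hom_ext _ _) :
      pullback (toZ T₀.left) (toZ (Spec (A.{u} n))) ⟶ pullback (toZ T.left) (toZ (Spec (A.{u} n)))) (by
    show _ ≫ pullback.fst _ _ ≫ T.hom = pullback.fst _ _ ≫ T₀.hom
    rw [pullback.lift_fst_assoc, Category.assoc, Over.w j])

lemma ub_q (n : ℕ) : ub j n ≫ uq T n = uq T₀ n ≫ j := Over.OverMorphism.ext (pullback.lift_fst _ _ _)

lemma ub_snd (n : ℕ) : (ub j n).left ≫ usnd T n = usnd T₀ n := pullback.lift_snd _ _ _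

lemma ub_um {n m : ℕ} [NeZero m] (f : Fin n → Option (Fin m)) : um T₀ f ≫ ub j m = ub j n ≫ um T f := by
  refine hom_ext_U T ?_ ?_
  · rw [Category.assoc, ub_q, ← Category.assoc, um_q, Category.assoc, um_q, ub_q]
  · rw [Over.comp_left, Category.assoc, ub_snd, um_snd, Over.comp_left, Category.assoc, um_snd, ← Category.assoc,
      ub_snd]

lemma ub_origin : origin T₀ ≫ ub j 1 = j ≫ origin T := by
  refine hom_ext_U T ?_ ?_
  · rw [Category.assoc, ub_q, ← Category.assoc, origin_q, Category.assoc, origin_q, Category.comp_id, Category.id_comp]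
  · rw [Over.comp_left, Category.assoc, ub_snd, Over.comp_left, Category.assoc]
    show pullback.lift _ _ _ ≫ pullback.snd _ _ = j.left ≫ pullback.lift _ _ _ ≫ pullback.snd _ _
    rw [pullback.lift_snd, pullback.lift_snd, ← Category.assoc]
    congr 1
    exact specULiftZIsTerminal.hom_ext _ _

lemma V_le_ub (n : ℕ) : V T₀ n ≤ (ub j n).left ⁻¹ᵁ V T n := iSup_le fun i t ht => by
  refine D_le_V T i ?_
  show ((ub j n).left ≫ usnd T n) t ∈ PrimeSpectrum.basicOpen (aX.{u} i)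
  rw [ub_snd]
  exact ht

variable (j x)

/-- base change of sections on the axes -/
def bU (n : ℕ) : SU T x n →* SU T₀ (BasedFunctor.comp (AlgSt.overMap j) x) n :=
  bc (ub j n) (ub_q n) fun _ _ => trivial

/-- base change of sections off the common point -/
def bV (n : ℕ) : SV T x n →* SV T₀ (BasedFunctor.comp (AlgSt.overMap j) x) n :=
  bc (ub j n) (ub_q n) (V_le_ub n)

/-- base change of constants -/
abbrev bG : G₀ T x →* G₀ T₀ (BasedFunctor.comp (AlgSt.overMap j) x) :=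
  bc (q₀ := 𝟙 T₀) (W₀ := (⊤ : T₀.left.Opens)) j (by rw [Category.comp_id, Category.id_comp]) fun _ _ => trivial

variable {j x} {n m : ℕ}

lemma rV_bV [NeZero m] (f : Fin n → Option (Fin m)) (h : ∀ k, (f k).isSome) (a : SV T x m) :
    rV T₀ _ f h (bV j x m a) = bV j x n (rV T x f h a) := bc_res _ _ _ _ _ _ _ _ _ _ _ _ (ub_um f) a

lemma rU_bU [NeZero m] (f : Fin n → Option (Fin m)) (a : SU T x m) :
    rU T₀ _ f (bU j x m a) = bU j x n (rU T x f a) := bc_res _ _ _ _ _ _ _ _ _ _ _ _ (ub_um f) a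

lemma iV_bU (a : SU T x n) : iV T₀ _ n (bU j x n a) = bV j x n (iV T x n a) :=
  bc_res _ _ _ _ _ _ _ _ _ _ _ _ ((Category.id_comp _).trans (Category.comp_id _).symm) a

lemma bV_cV (g : G₀ T x) : bV j x n (cV T x n g) = cV T₀ _ n (bG j x g) :=
  (bc_res _ _ _ _ _ _ _ _ _ _ _ _ (ub_q n).symm g).symm

lemma ev_bU (a : SU T x 1) : ev T₀ _ (bU j x 1 a) = bG j x (ev T x a) :=
  bc_res _ _ _ _ _ _ _ _ _ _ _ _ ub_origin a

variable (j x) in
/-- the criterion on isomorphism classes -/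
def CritBC : Prop :=
  ∀ c : FibCat.overCat (dbl (V T 2)) ⥤ᵇ 𝒳, Ker x c →
    Nonempty (BasedFunctor.comp (AlgSt.overMap (dmap (ub j 2) (V_le_ub 2))) c ≅
      trivialObj (uq T₀ 2) (V T₀ 2) (BasedFunctor.comp (AlgSt.overMap j) x)) →
    Nonempty (c ≅ trivialObj (uq T 2) (V T 2) x)

variable (hS : Stk.IsStack (Jf S) 𝒳) (hd : AlgSt.RepByAlgSpWith AlgSp.IsSeparatedMor (FibCat.diag (FibCat.toSelf 𝒳)))
include hS hd

theorem injSec_of_crit (hcrit : CritBC j x) : InjSec j x := fun g hg => by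
  change bG j x g = 1 at hg
  obtain ⟨c, hlab⟩ := exists_lab hS g
  obtain ⟨τ, γ, h0, h1, hr⟩ := id hlab
  have hk : bV j x 2 γ = 1 := ext_lines hS _ _ fun i => by
    rw [show lV i (bV j x 2 γ) = bV j x 1 (lV i γ) from rV_bV _ _ _, map_one]
    fin_cases i
    · show bV j x 1 (lV 0 γ) = 1
      rw [h0, bV_cV, hg, map_one]
    · show bV j x 1 (lV 1 γ) = 1
      rw [h1, map_one]
  obtain ⟨τ₀, hτ₀⟩ := exists_triv_bc (hV := V_le_ub 2) hS.1 (ub_q (j := j) 2) τ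
  obtain ⟨σ₀, hσ₀⟩ := exists_triv_trivialObj hS.1 (uq T₀ 2) (V T₀ 2) (BasedFunctor.comp (AlgSt.overMap j) x)
  have i₀ := iso_of_rel hS τ₀ σ₀ (by
    obtain ⟨a, ha⟩ := hr
    refine Rel₁.symm ⟨fun b => bU j x 2 (a b), ?_⟩
    rw [hτ₀, hσ₀, iV_bU, iV_bU, ← hk]
    show bV j x 2 _ * _ = _
    rw [← map_mul, ← map_mul, ha])
  obtain ⟨σ, hσ⟩ := exists_triv_trivialObj hS.1 (uq T 2) (V T 2) x
  have hr' := hr.trans (rel_of_iso hS.1 τ σ (hcrit c (hlab.ker hS) i₀))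
  rw [hσ] at hr'
  obtain ⟨a, ha⟩ := hr'
  have org : ∀ (i : Fin 2) (u : G₀ T x), lV i γ = cV T x 1 u →
      ev T x (lU 0 (a false)) = ev T x (lU 0 (a true)) * u := fun i u hu => by
    have := congrArg (lV i) ha
    rw [one_mul, map_mul, rV_iV, rV_iV, hu, ← iV_cU, ← map_mul] at this
    have := congrArg (ev T x) (injective_iV_one hS hd this)
    rw [map_mul, ev_cU] at this
    rw [ev_lU 0 i, ev_lU 0 i]
    exact this
  have o1 := org 1 1 (h1.trans (map_one _).symm)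
  have o0 := org 0 g h0
  rw [mul_one] at o1
  rw [o1] at o0
  exact mul_left_cancel (o0.symm.trans (mul_one _).symm)

theorem crit_of_injSec (hinj : InjSec j x) : CritBC j x := fun c hc i₀ => by
  obtain ⟨τ⟩ := nonempty_triv hc.1
  let δ := τ.cocycle hS.1
  have hb : ∀ i : Fin 2, ∃ b : SU T x 1, lV i δ = iV T x 1 b := fun i => by
    obtain ⟨τ', hτ'⟩ := exists_pullback hS.1 (line i) (isSome_line i) τ
    obtain ⟨τ₀, hτ₀⟩ := exists_triv_trivialObj hS.1 (uq T 1) (V T 1) x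
    obtain ⟨a, ha⟩ := (rel_of_iso hS.1 τ' τ₀ (hc.2 i)).symm
    rw [hτ', hτ₀, mul_one] at ha
    refine ⟨a true * (a false)⁻¹, ?_⟩
    rw [map_mul, map_inv]
    exact eq_mul_inv_iff_mul_eq.2 ha
  choose b hb using hb
  obtain ⟨τb, hτb⟩ := exists_triv_bc (hV := V_le_ub 2) hS.1 (ub_q (j := j) 2) τ
  obtain ⟨σb, hσb⟩ := exists_triv_trivialObj hS.1 (uq T₀ 2) (V T₀ 2) (BasedFunctor.comp (AlgSt.overMap j) x)
  obtain ⟨a, ha⟩ := (rel_of_iso hS.1 τb σb i₀).symm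
  rw [hτb, hσb, mul_one] at ha
  let e₀ := a true * (a false)⁻¹
  have he₀ : bV j x 2 δ = iV T₀ _ 2 e₀ := by
    rw [map_mul, map_inv]
    exact eq_mul_inv_iff_mul_eq.2 ha
  have hbe : ∀ i, bU j x 1 (b i) = lU i e₀ := fun i => injective_iV_one hS hd (by
    rw [iV_bU, ← hb i, ← rV_iV _ (isSome_line i), ← he₀]
    exact (rV_bV _ _ _).symm)
  have key : ev T x (b 0) = ev T x (b 1) := by
    refine mul_inv_eq_one.1 (hinj _ ?_)
    show bG j x _ = 1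
    rw [map_mul, map_inv, ← ev_bU, ← ev_bU, hbe, hbe, ev_lU 0 1, mul_inv_cancel]
  let u := ev T x (b 0)
  let e : SU T x 2 := rU T x (retr (0 : Fin 2)) (b 0) * (cU T x 2 u)⁻¹ * rU T x (retr (1 : Fin 2)) (b 1)
  have hcU : ∀ i : Fin 2, lU i (cU T x 2 u) = cU T x 1 u := fun i => res_res _ _ _ _ _ _ _ (um_q T _) _ _ u
  have hid : ∀ s : SU T x 1, rU T x (line (0 : Fin 1)) s = s := fun s => res_self _ (um_id T 1 _ (by decide)) _ _ _
  have hδ : δ = iV T x 2 e := ext_lines hS _ _ fun i => by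
    rw [rV_iV, hb i]
    congr 1
    fin_cases i
    · show b 0 = rU T x (line (0 : Fin 2)) (_ * _ * _)
      rw [map_mul, map_mul, map_inv, rU_rU (line 0) (retr (0 : Fin 2)) (line 0) (by decide), hid,
        rU_rU (line 0) (retr (1 : Fin 2)) (fun _ => none) (by decide), rU_none _ (fun _ => rfl), ← key,
        show rU T x (line (0 : Fin 2)) (cU T x 2 u) = cU T x 1 u from hcU 0, inv_mul_cancel_right]
    · show b 1 = rU T x (line (1 : Fin 2)) (_ * _ * _)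
      rw [map_mul, map_mul, map_inv, rU_rU (line 1) (retr (1 : Fin 2)) (line 0) (by decide), hid,
        rU_rU (line 1) (retr (0 : Fin 2)) (fun _ => none) (by decide), rU_none _ (fun _ => rfl),
        show rU T x (line (1 : Fin 2)) (cU T x 2 u) = cU T x 1 u from hcU 1, mul_inv_cancel, one_mul]
  obtain ⟨σ, hσ⟩ := exists_triv_trivialObj hS.1 (uq T 2) (V T 2) x
  refine iso_of_rel hS τ σ (Rel₁.symm ⟨fun s => if s then e else 1, ?_⟩)
  simp only [Bool.false_eq_true, if_false, if_true, map_one, mul_one, hσ]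
  exact hδ

omit hS hd in
theorem CritBC.transport (h𝒳 : FibCat.IsFibGrpd 𝒳.p) (h𝒴 : FibCat.IsFibGrpd 𝒴.p) {φ : IsoNat.FIso 𝒳 𝒴}
    {y : FibCat.overCat T ⥤ᵇ 𝒴} (hxy : Rel φ x y) (h : CritBC j x) : CritBC j y := fun d hd i => by
  obtain ⟨c, hcd⟩ := Rel.exists_left h𝒳 φ d
  exact Rel.nonempty_iso h𝒴 hcd ((hxy.overMap h𝒴 _).overMap h𝒴 _)
    (h c ((Ker.transport h𝒳 h𝒴 hxy hcd).2 hd)
      (Rel.nonempty_iso_symm h𝒳 h𝒴 (hcd.overMap h𝒴 _) (((hxy.overMap h𝒴 _).overMap h𝒴 _).overMap h𝒴 _) i))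

end Axes

/-- triviality of automorphisms trivial over `T₀` is read on isomorphism classes -/
theorem InjSec.transport (h𝒳 : Stk.IsStack (Jf S) 𝒳)
    (h𝒳d : AlgSt.RepByAlgSpWith AlgSp.IsSeparatedMor (FibCat.diag (FibCat.toSelf 𝒳)))
    (h𝒴 : Stk.IsStack (Jf S) 𝒴)
    (h𝒴d : AlgSt.RepByAlgSpWith AlgSp.IsSeparatedMor (FibCat.diag (FibCat.toSelf 𝒴))) {φ : IsoNat.FIso 𝒳 𝒴}
    {y : FibCat.overCat T ⥤ᵇ 𝒴} (hxy : Rel φ x y) (h : InjSec j x) : InjSec j y :=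
  Axes.injSec_of_crit h𝒴 h𝒴d ((Axes.crit_of_injSec h𝒳 h𝒳d h).transport h𝒳.1 h𝒴.1 hxy)

end Groth.Agent.IsoNatLib

end
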