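import Groth.Agent.IsoNatLib.AxesSec

/-!
# Commutativity of automorphism groups from isomorphism classes
-/

set_option autoImplicit false
set_option backward.isDefEq.respectTransparency false
set_option backward.isDefEq.respectTransparency.types false
set_option linter.style.haveILetI false
set_option maxHeartbeats 2000000
universe u

noncomputable section

namespace Groth.Agent.IsoNatLib

open CategoryTheory CategoryTheory.Limits AlgebraicGeometry Groth.Agent.FibCatRep

variable {S : Scheme.{u}} {𝒳 𝒴 : AlgSt.Cat S} {T : Over S}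

section doublings

/-- locally trivial objects over a doubling -/
def LT {U : Over S} (q : U ⟶ T) (V : U.left.Opens) (x : FibCat.overCat T ⥤ᵇ 𝒳)
    (c : FibCat.overCat (dbl V) ⥤ᵇ 𝒳) : Prop :=
  ∀ b, Nonempty (BasedFunctor.comp (AlgSt.overMap (dj V b)) c ≅ BasedFunctor.comp (AlgSt.overMap q) x)

variable {U' U : Over S} {V' : U'.left.Opens} {V : U.left.Opens} (h : U' ⟶ U) (hV : V' ≤ h.left ⁻¹ᵁ V)

/-- map of doublings -/
def dmap : dbl V' ⟶ dbl V :=
  Over.homMk (pushout.desc (h.left ≫ (dj V true).left) (h.left ≫ (dj V false).left) (by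
    have key : (Over.homMk V'.ι rfl : Over.mk (V'.ι ≫ U'.hom) ⟶ U') ≫ h ≫ dj V true =
        (Over.homMk V'.ι rfl : Over.mk (V'.ι ≫ U'.hom) ⟶ U') ≫ h ≫ dj V false := by
      rw [← Category.assoc, ← Category.assoc]
      exact dj_eq_of_mem V _ (by
        rintro _ ⟨p, rfl⟩
        exact hV p.2) true false
    exact congrArg CommaMorphism.left key)) (pushout.hom_ext
    (by rw [pushout.inl_desc_assoc, Category.assoc]; exact (congrArg (h.left ≫ ·) (Over.w (dj V true))).trans ((Over.w h).trans (pushout.inl_desc _ _ _).symm))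
    (by rw [pushout.inr_desc_assoc, Category.assoc]; exact (congrArg (h.left ≫ ·) (Over.w (dj V false))).trans ((Over.w h).trans (pushout.inr_desc _ _ _).symm)))

lemma dj_dmap (b : Bool) : dj V' b ≫ dmap h hV = h ≫ dj V b := by
  cases b
  · ext1; exact pushout.inr_desc _ _ _
  · ext1; exact pushout.inl_desc _ _ _

variable {h} {q' : U' ⟶ T} {q : U ⟶ T} {x : FibCat.overCat T ⥤ᵇ 𝒳}
  {c : FibCat.overCat (dbl V) ⥤ᵇ 𝒳}

/-- the pullback of a test object -/
abbrev Tst.push (t : Tst q' (⊤ : U'.left.Opens)) (hq : h ≫ q = q') : Tst q (⊤ : U.left.Opens) := t.map h hq fun _ _ => trivial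

/-- the comparison of the indices -/
def pushIso (hq : h ≫ q = q') (b : Bool) (t : Tst q' (⊤ : U'.left.Opens)) :
    Over.mk ((t.push hq).w ≫ dj V b) ≅ (AlgSt.overMap (dmap h hV)).obj (Over.mk (t.w ≫ dj V' b)) :=
  Over.isoMk (Iso.refl _) (by
    show 𝟙 _ ≫ (t.w ≫ dj V' b) ≫ dmap h hV = (t.w ≫ h) ≫ dj V b
    rw [Category.id_comp, Category.assoc, dj_dmap, Category.assoc])

/-- pullback of trivialisations -/
def Triv.comap (hq : h ≫ q = q') (τ : Triv q V x c) : Triv q' V' x (BasedFunctor.comp (AlgSt.overMap (dmap h hV)) c) where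
  θ b t := τ.θ b (t.push hq) ≪≫ c.toFunctor.mapIso (pushIso hV hq b t)
  vert b t := by
    show 𝒳.p.map ((τ.θ b (t.push hq)).hom ≫ c.map (pushIso hV hq b t).hom) = _
    rw [𝒳.p.map_comp, τ.vert, FibCatRep.map_map]
    show eqToHom _ ≫ eqToHom _ ≫ 𝟙 _ ≫ eqToHom _ = _
    simp
  nat b t' t m e := by
    show x.map m ≫ (τ.θ b (t.push hq)).hom ≫ c.map (pushIso hV hq b t).hom =
      ((τ.θ b (t'.push hq)).hom ≫ c.map (pushIso hV hq b t').hom) ≫ _
    refine ((reassoc_of% (τ.nat b (t'.push hq) (t.push hq) m (by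
      show m.left ≫ t.w ≫ h = t'.w ≫ h
      rw [← Category.assoc, e]))) (c.map (pushIso hV hq b t).hom)).trans ?_
    refine Eq.trans ?_ (Category.assoc _ _ _).symm
    congr 1
    show c.map _ ≫ c.map _ = c.map _ ≫ c.map _
    rw [← Functor.map_comp, ← Functor.map_comp]
    congr 1

theorem Triv.cocycle_comap (hq : h ≫ q = q') (hg : FibCat.IsFibGrpd 𝒳.p) (τ : Triv q V x c) :
    (τ.comap hV hq).cocycle hg = res h hq hV (τ.cocycle hg) := by
  refine sec_ext fun t => ?_
  refine (cancel_mono ((τ.comap hV hq).θ true t.toTop).hom).1 ?_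
  rw [Triv.cocycle_spec]
  show _ = GerbLib.Band.ah ((τ.cocycle hg).1 (t.map h hq hV)) ≫ (τ.θ true (t.map h hq hV).toTop).hom ≫ _
  rw [reassoc_of% (τ.cocycle_spec hg (t.map h hq hV))]
  show ((τ.θ false _).hom ≫ c.map _) ≫ c.map _ = (τ.θ false _).hom ≫ c.map _ ≫ c.map _
  rw [Category.assoc, ← Functor.map_comp, ← Functor.map_comp]
  congr 2

end doublings

namespace Axes

/-- the pair of axes `0`, `1` among three -/
abbrev p01 : Fin 2 → Option (Fin 3) := fun k => if k = 0 then some 0 else some 1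

/-- the pair of axes `1`, `2` among three -/
abbrev p12 : Fin 2 → Option (Fin 3) := fun k => if k = 0 then some 1 else some 2

lemma isSome_p01 : ∀ k, (p01 k).isSome := by decide

lemma isSome_p12 : ∀ k, (p12 k).isSome := by decide

/-- doubled pair into doubled triple -/
abbrev dp01 (T : Over S) : dbl (V T 2) ⟶ dbl (V T 3) := dmap (um T p01) (V_le_preimage T _ isSome_p01)

/-- doubled pair into doubled triple -/
abbrev dp12 (T : Over S) : dbl (V T 2) ⟶ dbl (V T 3) := dmap (um T p12) (V_le_preimage T _ isSome_p12)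

/-- objects on the doubled triple of axes are determined by two pairs -/
def PairCrit (x : FibCat.overCat T ⥤ᵇ 𝒳) : Prop :=
  ∀ c c' : FibCat.overCat (dbl (V T 3)) ⥤ᵇ 𝒳, LT (uq T 3) (V T 3) x c → LT (uq T 3) (V T 3) x c' →
    Nonempty (BasedFunctor.comp (AlgSt.overMap (dp01 T)) c ≅ BasedFunctor.comp (AlgSt.overMap (dp01 T)) c') →
    Nonempty (BasedFunctor.comp (AlgSt.overMap (dp12 T)) c ≅ BasedFunctor.comp (AlgSt.overMap (dp12 T)) c') →
    Nonempty (c ≅ c')

variable {n m : ℕ} {x : FibCat.overCat T ⥤ᵇ 𝒳}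

/-- the cohomology relation of cocycles -/
def Rel₁ (γ γ' : SV T x n) : Prop :=
  ∃ a : Bool → SU T x n, γ' * iV T x n (a false) = iV T x n (a true) * γ

theorem rel_of_iso (hg : FibCat.IsFibGrpd 𝒳.p) {c c' : FibCat.overCat (dbl (V T n)) ⥤ᵇ 𝒳}
    (τ : Triv (uq T n) (V T n) x c) (τ' : Triv (uq T n) (V T n) x c') (i : Nonempty (c ≅ c')) :
    Rel₁ (τ.cocycle hg) (τ'.cocycle hg) :=
  i.elim fun i => exists_rel_of_iso hg τ τ' i

theorem iso_of_rel (hS : Stk.IsStack (Jf S) 𝒳) {c c' : FibCat.overCat (dbl (V T n)) ⥤ᵇ 𝒳}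
    (τ : Triv (uq T n) (V T n) x c) (τ' : Triv (uq T n) (V T n) x c')
    (h : Rel₁ (τ.cocycle hS.1) (τ'.cocycle hS.1)) : Nonempty (c ≅ c') :=
  h.elim fun a ha => nonempty_iso_of_rel hS τ τ' a ha

/-- sections on two pairs agreeing on the common line extend to the triple -/
theorem exists_extension (b c : SU T x 2) (hmid : lU 1 b = lU 0 c) :
    ∃ e : SU T x 3, lU 0 e = lU 0 b ∧ lU 1 e = lU 1 b ∧ lU 2 e = lU 1 c := by
  let r01 : Fin 3 → Option (Fin 2) := fun k => if k = 0 then some 0 else if k = 1 then some 1 else none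
  let r12 : Fin 3 → Option (Fin 2) := fun k => if k = 1 then some 0 else if k = 2 then some 1 else none
  let q : SU T x 1 := lU 1 b
  have hn : ∀ (i : Fin 2) (a : SU T x 2),
      rU T x (fun _ : Fin 1 => (none : Option (Fin 2))) a = cU T x 1 (ev T x (lU i a)) := fun i a => by
    rw [← rU_none (fun _ : Fin 1 => (none : Option (Fin 1))) (fun _ => rfl),
      rU_rU (fun _ : Fin 1 => (none : Option (Fin 1))) (line i) (fun _ => none) rfl]
  refine ⟨rU T x r01 b * (rU T x (retr (1 : Fin 3)) q)⁻¹ * rU T x r12 c, ?_, ?_, ?_⟩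
  · show rU T x _ (_ * _ * _) = _
    rw [map_mul, map_mul, map_inv, rU_rU (line 0) r01 (line 0) (by decide),
      rU_rU (line 0) (retr (1 : Fin 3)) (fun _ => none) (by decide), rU_none _ (fun _ => rfl),
      rU_rU (line 0) r12 (fun _ => none) (by decide), hn 0 c, ← hmid, inv_mul_cancel_right]
  · show rU T x _ (_ * _ * _) = _
    rw [map_mul, map_mul, map_inv, rU_rU (line 1) r01 (line 1) (by decide), rU_rU (line 1) r12 (line 0) (by decide),
      rU_rU (line 1) (retr (1 : Fin 3)) (line 0) (by decide)]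
    have : rU T x (line (0 : Fin 1)) q = q := res_self _ (um_id T 1 _ (by decide)) _ _ _
    rw [this, mul_inv_cancel, one_mul]
    exact hmid.symm
  · show rU T x _ (_ * _ * _) = _
    rw [map_mul, map_mul, map_inv, rU_rU (line 2) r12 (line 1) (by decide), rU_rU (line 2) r01 (fun _ => none) (by decide),
      rU_rU (line 2) (retr (1 : Fin 3)) (fun _ => none) (by decide), rU_none _ (fun _ => rfl), hn 1 b, mul_inv_cancel, one_mul]

/-- two cocycles with the same restrictions to two pairs -/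
theorem rel_of_pairs (hS : Stk.IsStack (Jf S) 𝒳)
    (hd : AlgSt.RepByAlgSpWith AlgSp.IsSeparatedMor (FibCat.diag (FibCat.toSelf 𝒳)))
    (hc : ∀ (o : Over T) (a b : Gerb.AutO (x.obj o)), a * b = b * a) (γ γ' : SV T x 3)
    (h₁ : Rel₁ (rV T x p01 isSome_p01 γ) (rV T x p01 isSome_p01 γ'))
    (h₂ : Rel₁ (rV T x p12 isSome_p12 γ) (rV T x p12 isSome_p12 γ')) : Rel₁ γ γ' := by
  have comm : ∀ {Z : Over S} {q : Z ⟶ T} {W : Z.left.Opens} (a b : sec x q W), a * b = b * a :=
    fun a b => Subtype.ext (funext fun t => hc _ _ _)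
  obtain ⟨a₁, ha₁⟩ := h₁
  obtain ⟨a₂, ha₂⟩ := h₂
  let δ := γ' * γ⁻¹
  have hδ : ∀ (f : Fin 2 → Option (Fin 3)) (hf : ∀ k, (f k).isSome) (a : Bool → SU T x 2),
      rV T x f hf γ' * iV T x 2 (a false) = iV T x 2 (a true) * rV T x f hf γ →
      rV T x f hf δ = iV T x 2 (a true * (a false)⁻¹) := fun f hf a e => by
    rw [map_mul, map_inv, map_mul, map_inv, mul_inv_eq_iff_eq_mul, mul_assoc,
      comm ((iV T x 2 (a false))⁻¹), ← mul_assoc, ← e, mul_inv_cancel_right]
  let b := a₁ true * (a₁ false)⁻¹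
  let c := a₂ true * (a₂ false)⁻¹
  have hb : rV T x p01 isSome_p01 δ = iV T x 2 b := hδ _ _ a₁ ha₁
  have hc' : rV T x p12 isSome_p12 δ = iV T x 2 c := hδ _ _ a₂ ha₂
  have hb0 : lV 0 δ = iV T x 1 (lU 0 b) := by
    rw [← rV_iV _ (isSome_line (0 : Fin 2)), ← hb]
    exact (rV_rV _ _ _ (by decide) _ _ _ _).symm
  have hb1 : lV 1 δ = iV T x 1 (lU 1 b) := by
    rw [← rV_iV _ (isSome_line (1 : Fin 2)), ← hb]
    exact (rV_rV _ _ _ (by decide) _ _ _ _).symm
  have hc1 : lV 1 δ = iV T x 1 (lU 0 c) := by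
    rw [← rV_iV _ (isSome_line (0 : Fin 2)), ← hc']
    exact (rV_rV _ _ _ (by decide) _ _ _ _).symm
  have hc2 : lV 2 δ = iV T x 1 (lU 1 c) := by
    rw [← rV_iV _ (isSome_line (1 : Fin 2)), ← hc']
    exact (rV_rV _ _ _ (by decide) _ _ _ _).symm
  obtain ⟨e, e0, e1, e2⟩ := exists_extension b c (injective_iV_one hS hd (hb1.symm.trans hc1))
  have hδe : δ = iV T x 3 e := by
    refine ext_lines hS _ _ fun i => ?_
    rw [rV_iV]
    fin_cases i
    · exact hb0.trans (congrArg _ e0.symm)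
    · exact hb1.trans (congrArg _ e1.symm)
    · exact hc2.trans (congrArg _ e2.symm)
  refine ⟨fun b => if b then e else 1, ?_⟩
  simp only [Bool.false_eq_true, if_false, map_one, mul_one, if_true]
  rw [← hδe, inv_mul_cancel_right]

theorem pairCrit_of_comm (hS : Stk.IsStack (Jf S) 𝒳)
    (hd : AlgSt.RepByAlgSpWith AlgSp.IsSeparatedMor (FibCat.diag (FibCat.toSelf 𝒳)))
    (hc : ∀ (o : Over T) (a b : Gerb.AutO (x.obj o)), a * b = b * a) : PairCrit x := by
  intro c c' hl hl' h₁ h₂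
  obtain ⟨τ⟩ := nonempty_triv hl
  obtain ⟨τ'⟩ := nonempty_triv hl'
  refine iso_of_rel hS τ τ' (rel_of_pairs hS hd hc _ _ ?_ ?_)
  · have := rel_of_iso hS.1 (τ.comap (V_le_preimage T _ isSome_p01) (um_q T p01))
      (τ'.comap (V_le_preimage T _ isSome_p01) (um_q T p01)) h₁
    rwa [Triv.cocycle_comap, Triv.cocycle_comap] at this
  · have := rel_of_iso hS.1 (τ.comap (V_le_preimage T _ isSome_p12) (um_q T p12))
      (τ'.comap (V_le_preimage T _ isSome_p12) (um_q T p12)) h₂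
    rwa [Triv.cocycle_comap, Triv.cocycle_comap] at this

/-- the pair criterion forces the automorphisms to commute -/
theorem comm_of_pairCrit (hS : Stk.IsStack (Jf S) 𝒳)
    (hd : AlgSt.RepByAlgSpWith AlgSp.IsSeparatedMor (FibCat.diag (FibCat.toSelf 𝒳)))
    (hcrit : PairCrit x) (g k : G₀ T x) : g * k = k * g := by
  let h := k * g * k⁻¹
  choose s hs hs' using exists_single (T := T) (x := x) (n := 3) hS
  have v : ∀ g' : G₀ T x, ∃ γ : SV T x 3, lV 0 γ = cV T x 1 g ∧ lV 1 γ = 1 ∧ lV 2 γ = cV T x 1 g' := fun g' => by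
    refine ⟨s 0 g * s 2 g', ?_, ?_, ?_⟩
    · rw [map_mul, hs, hs' 2 g' 0 (by decide), mul_one]
    · rw [map_mul, hs' 0 g 1 (by decide), hs' 2 g' 1 (by decide), mul_one]
    · rw [map_mul, hs, hs' 0 g 2 (by decide), one_mul]
  obtain ⟨γ, vg0, vg1, vg2⟩ := v g
  obtain ⟨γ', vh0, vh1, vh2⟩ := v h
  obtain ⟨c, τ, hτ⟩ := exists_triv hS γ
  obtain ⟨c', τ', hτ'⟩ := exists_triv hS γ'
  have h₁ : Rel₁ (rV T x p01 isSome_p01 γ) (rV T x p01 isSome_p01 γ') := by
    refine ⟨fun _ => 1, ?_⟩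
    rw [map_one, mul_one, one_mul]
    refine ext_lines hS _ _ fun i => ?_
    fin_cases i
    · exact (rV_rV _ _ (line (0 : Fin 3)) (by decide) _ _ (isSome_line _) _).trans (vh0.trans vg0.symm) |>.trans
        (rV_rV _ _ (line (0 : Fin 3)) (by decide) _ _ (isSome_line _) _).symm
    · exact (rV_rV _ _ (line (1 : Fin 3)) (by decide) _ _ (isSome_line _) _).trans (vh1.trans vg1.symm) |>.trans
        (rV_rV _ _ (line (1 : Fin 3)) (by decide) _ _ (isSome_line _) _).symm
  have h₂ : Rel₁ (rV T x p12 isSome_p12 γ) (rV T x p12 isSome_p12 γ') := by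
    refine ⟨fun _ => cU T x 2 k, ?_⟩
    rw [iV_cU]
    refine ext_lines hS _ _ fun i => ?_
    fin_cases i
    · show lV 0 _ = lV 0 _
      rw [map_mul, map_mul, rV_cV, show lV 0 (rV T x p12 isSome_p12 γ) = lV (1 : Fin 3) γ from
        rV_rV _ _ _ (by decide) _ _ _ _, show lV 0 (rV T x p12 isSome_p12 γ') = lV (1 : Fin 3) γ' from
        rV_rV _ _ _ (by decide) _ _ _ _, vg1, vh1, one_mul, mul_one]
    · show lV 1 _ = lV 1 _
      rw [map_mul, map_mul, rV_cV, show lV 1 (rV T x p12 isSome_p12 γ) = lV (2 : Fin 3) γ from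
        rV_rV _ _ _ (by decide) _ _ _ _, show lV 1 (rV T x p12 isSome_p12 γ') = lV (2 : Fin 3) γ' from
        rV_rV _ _ _ (by decide) _ _ _ _, vg2, vh2, ← map_mul, ← map_mul]
      congr 1
      exact inv_mul_cancel_right _ _
  have j₁ : Nonempty _ := iso_of_rel hS (τ.comap (V_le_preimage T _ isSome_p01) (um_q T p01))
    (τ'.comap (V_le_preimage T _ isSome_p01) (um_q T p01)) (by rw [Triv.cocycle_comap, Triv.cocycle_comap, hτ, hτ']; exact h₁)
  have j₂ : Nonempty _ := iso_of_rel hS (τ.comap (V_le_preimage T _ isSome_p12) (um_q T p12))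
    (τ'.comap (V_le_preimage T _ isSome_p12) (um_q T p12)) (by rw [Triv.cocycle_comap, Triv.cocycle_comap, hτ, hτ']; exact h₂)
  obtain ⟨a, ha⟩ := rel_of_iso hS.1 τ τ'
    (hcrit c c' (τ.nonempty_iso hS.1) (τ'.nonempty_iso hS.1) j₁ j₂)
  rw [hτ, hτ'] at ha
  have org : ∀ (i : Fin 3) (u v : G₀ T x), lV i γ = cV T x 1 u → lV i γ' = cV T x 1 v →
      v * ev T x (lU 0 (a false)) = ev T x (lU 0 (a true)) * u := fun i u v hu hv => by
    have := congrArg (lV i) ha
    rw [map_mul, map_mul, rV_iV, rV_iV, hu, hv, ← iV_cU, ← iV_cU, ← map_mul, ← map_mul] at this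
    have := congrArg (ev T x) (injective_iV_one hS hd this)
    rw [map_mul, map_mul, ev_cU, ev_cU] at this
    rw [ev_lU 0 i, ev_lU 0 i]
    exact this
  have o1 := org 1 1 1 (vg1.trans (map_one _).symm) (vh1.trans (map_one _).symm)
  rw [one_mul, mul_one] at o1
  have o0 := org 0 g g vg0 vh0
  have o2 := org 2 g h vg2 vh2
  rw [o1] at o0 o2
  have hh : h = g := mul_right_cancel (o2.trans o0.symm)
  exact (mul_inv_eq_iff_eq_mul.1 hh).symm

end Axes

end Groth.Agent.IsoNatLib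

end
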