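import Groth.Agent.IsoNatLib.Sections
import Mathlib.RingTheory.PolynomialAlgebra
import Mathlib.AlgebraicGeometry.AffineSpace

/-!
# Unions of coordinate axes over a base

`U T n` is the union of `n` lines over `T` meeting in a common section; `V T n` is the complement of that section.
The maps `um f` are given by partial maps of index sets.
-/

set_option autoImplicit false
set_option backward.isDefEq.respectTransparency false
set_option backward.isDefEq.respectTransparency.types false
set_option linter.style.haveILetI false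
universe u

noncomputable section

namespace Groth.Agent.IsoNatLib.Axes

open CategoryTheory CategoryTheory.Limits AlgebraicGeometry Polynomial

attribute [local instance] Polynomial.algebra

/-- integers in the universe -/
def Zu : Type u := ULift.{u} ℤ

instance : CommRing Zu.{u} := inferInstanceAs (CommRing (ULift.{u} ℤ))

/-- tuples of polynomials with the same constant term -/
def ring (n : ℕ) : Subring (Fin n → (Zu.{u})[X]) where
  carrier := {p | ∀ i k, (p i).eval 0 = (p k).eval 0}
  mul_mem' {p q} hp hq i k := by simp [hp i k, hq i k]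
  one_mem' i k := by simp
  add_mem' {p q} hp hq i k := by simp [hp i k, hq i k]
  zero_mem' i k := by simp
  neg_mem' {p} hp i k := by simp [hp i k]

lemma ext_ring {n : ℕ} {p q : ring.{u} n} (h : ∀ k, p.1 k = q.1 k) : p = q := Subtype.ext (funext h)

/-- the bundled ring -/
abbrev A (n : ℕ) : CommRingCat.{u} := CommRingCat.of (ring.{u} n)

/-- coordinates -/
def aX {n : ℕ} (i : Fin n) : ring.{u} n :=
  ⟨Function.update 0 i X, fun a b => by
    rcases eq_or_ne a i with rfl | ha <;> rcases eq_or_ne b a with rfl | hb <;>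
      simp_all [Function.update_apply] <;> split_ifs <;> simp⟩

lemma aX_apply {n : ℕ} (i k : Fin n) : (aX.{u} i).1 k = if k = i then X else 0 := by
  simp [aX, Function.update_apply]

/-- coordinates of `sel` -/
def selFun {n m : ℕ} [NeZero m] (f : Fin n → Option (Fin m)) (k : Fin n) : ring.{u} m →+* (Zu.{u})[X] :=
  match f k with
  | some i => (Pi.evalRingHom _ i).comp (ring.{u} m).subtype
  | none => (C.comp (evalRingHom 0)).comp ((Pi.evalRingHom _ (0 : Fin m)).comp (ring.{u} m).subtype)

lemma selFun_some {n m : ℕ} [NeZero m] (f : Fin n → Option (Fin m)) (p : ring.{u} m) {k : Fin n} {i : Fin m}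
    (h : f k = some i) : selFun f k p = p.1 i := by
  unfold selFun
  rw [h]
  rfl

lemma selFun_none {n m : ℕ} [NeZero m] (f : Fin n → Option (Fin m)) (p : ring.{u} m) {k : Fin n}
    (h : f k = none) : selFun f k p = C ((p.1 0).eval 0) := by
  unfold selFun
  rw [h]
  rfl

lemma selFun_eval {n m : ℕ} [NeZero m] (f : Fin n → Option (Fin m)) (p : ring.{u} m) (k : Fin n) :
    (selFun f k p).eval 0 = (p.1 0).eval 0 := by
  cases hk : f k with
  | none => rw [selFun_none f p hk, eval_C]
  | some i => rw [selFun_some f p hk, p.2 i 0]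

/-- the map given by a partial map of index sets -/
def sel {n m : ℕ} [NeZero m] (f : Fin n → Option (Fin m)) : ring.{u} m →+* ring.{u} n :=
  RingHom.codRestrict (RingHom.pi (selFun f)) _ fun p i k => by
    show (selFun f i p).eval 0 = (selFun f k p).eval 0
    rw [selFun_eval, selFun_eval]

lemma sel_some {n m : ℕ} [NeZero m] (f : Fin n → Option (Fin m)) (p : ring.{u} m) {k : Fin n} {i : Fin m}
    (h : f k = some i) : (sel f p).1 k = p.1 i :=
  selFun_some f p h

lemma sel_none {n m : ℕ} [NeZero m] (f : Fin n → Option (Fin m)) (p : ring.{u} m) {k : Fin n}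
    (h : f k = none) : (sel f p).1 k = C ((p.1 0).eval 0) :=
  selFun_none f p h

/-- the map of spectra -/
def sSel {n m : ℕ} [NeZero m] (f : Fin n → Option (Fin m)) : Spec (A.{u} n) ⟶ Spec (A.{u} m) :=
  Spec.map (CommRingCat.ofHom (sel f))

/-- the point at the origin -/
def sOrigin : Spec (CommRingCat.of (Zu.{u})) ⟶ Spec (A.{u} 1) :=
  Spec.map (CommRingCat.ofHom (((evalRingHom (0 : Zu.{u})).comp (Pi.evalRingHom _ (0 : Fin 1))).comp (ring.{u} 1).subtype))

lemma sel_comp {n m l : ℕ} [NeZero m] [NeZero l] (f : Fin n → Option (Fin m)) (g : Fin m → Option (Fin l)) :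
    (sel.{u} f).comp (sel g) = sel fun k => (f k).bind g := by
  refine RingHom.ext fun p => ext_ring fun k => ?_
  rw [RingHom.comp_apply]
  cases hk : f k with
  | none =>
    rw [sel_none f _ hk, sel_none (fun k => (f k).bind g) p (show (f k).bind g = none by rw [hk]; rfl)]
    exact congrArg C (selFun_eval g p 0)
  | some i =>
    rw [sel_some f _ hk]
    cases hg : g i with
    | none => rw [sel_none g p hg, sel_none (fun k => (f k).bind g) p (show (f k).bind g = none by rw [hk]; exact hg)]
    | some j => rw [sel_some g p hg, sel_some (fun k => (f k).bind g) p (show (f k).bind g = some j by rw [hk]; exact hg)]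

variable {S : Scheme.{u}} (T : Over S)

/-- the structure map to the integers -/
abbrev toZ (X : Scheme.{u}) : X ⟶ Spec (CommRingCat.of (Zu.{u})) := specULiftZIsTerminal.from X

/-- the union of the axes over `T` -/
def U (n : ℕ) : Over S := Over.mk (pullback.fst (toZ T.left) (toZ (Spec (A.{u} n))) ≫ T.hom)

/-- the projection to the base -/
def uq (n : ℕ) : U T n ⟶ T := Over.homMk (pullback.fst _ _) rfl

/-- the projection to the axes -/
def usnd (n : ℕ) : (U T n).left ⟶ Spec (A.{u} n) := pullback.snd _ _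

lemma hom_ext_U {n : ℕ} {W : Over S} {a b : W ⟶ U T n} (h₁ : a ≫ uq T n = b ≫ uq T n)
    (h₂ : a.left ≫ usnd T n = b.left ≫ usnd T n) : a = b :=
  Over.OverMorphism.ext (pullback.hom_ext (congrArg CommaMorphism.left h₁) h₂)

/-- the map given by a partial map of index sets -/
def um {n m : ℕ} [NeZero m] (f : Fin n → Option (Fin m)) : U T n ⟶ U T m :=
  Over.homMk (pullback.lift (pullback.fst (toZ T.left) (toZ (Spec (A.{u} n))))
    ((pullback.snd (toZ T.left) (toZ (Spec (A.{u} n)))) ≫ sSel f)
    (specULiftZIsTerminal.hom_ext _ _) :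
      pullback (toZ T.left) (toZ (Spec (A.{u} n))) ⟶ pullback (toZ T.left) (toZ (Spec (A.{u} m)))) (by
      show _ ≫ pullback.fst _ _ ≫ T.hom = pullback.fst _ _ ≫ T.hom
      rw [pullback.lift_fst_assoc])

@[simp] lemma um_q {n m : ℕ} [NeZero m] (f : Fin n → Option (Fin m)) : um T f ≫ uq T m = uq T n :=
  Over.OverMorphism.ext (pullback.lift_fst _ _ _)

lemma um_snd {n m : ℕ} [NeZero m] (f : Fin n → Option (Fin m)) :
    (um T f).left ≫ usnd T m = usnd T n ≫ sSel f :=
  pullback.lift_snd _ _ _

lemma um_comp {n m l : ℕ} [NeZero m] [NeZero l] (f : Fin n → Option (Fin m)) (g : Fin m → Option (Fin l))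
    (h : Fin n → Option (Fin l)) (e : (fun k => (f k).bind g) = h) : um T f ≫ um T g = um T h := by
  subst e
  refine hom_ext_U T (by simp) ?_
  rw [Over.comp_left, Category.assoc, um_snd, ← Category.assoc, um_snd, Category.assoc, um_snd, sSel, sSel, sSel, ← Spec.map_comp,
    ← CommRingCat.ofHom_comp, sel_comp]

lemma sel_id {n : ℕ} [NeZero n] (h : Fin n → Option (Fin n)) (e : ∀ k, h k = some k) :
    sel.{u} h = RingHom.id (ring.{u} n) :=
  RingHom.ext fun p => ext_ring fun k => sel_some h p (e k)

lemma um_id (n : ℕ) [NeZero n] (h : Fin n → Option (Fin n)) (e : ∀ k, h k = some k) : um T h = 𝟙 _ := by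
  refine hom_ext_U T (by simp) ?_
  rw [um_snd, sSel, sel_id h e, CommRingCat.ofHom_id, Spec.map_id, Category.comp_id, Over.id_left, Category.id_comp]

/-- the origin -/
def origin : T ⟶ U T 1 :=
  Over.homMk ((pullback.lift (𝟙 T.left) (toZ T.left ≫ sOrigin)
    (specULiftZIsTerminal.hom_ext _ _) : T.left ⟶ pullback (toZ T.left) (toZ (Spec (A.{u} 1))))) (by
      show _ ≫ pullback.fst _ _ ≫ T.hom = T.hom
      rw [pullback.lift_fst_assoc, Category.id_comp])

@[simp] lemma origin_q : origin T ≫ uq T 1 = 𝟙 T := Over.OverMorphism.ext (pullback.lift_fst _ _ _)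

/-- constant maps factor through the origin -/
lemma um_none (n : ℕ) (f : Fin n → Option (Fin 1)) (e : ∀ k, f k = none) : um T f = uq T n ≫ origin T := by
  refine hom_ext_U T (by simp) ?_
  rw [um_snd, Over.comp_left, Category.assoc]
  show _ = (uq T n).left ≫ pullback.lift _ _ _ ≫ pullback.snd _ _
  rw [pullback.lift_snd, ← Category.assoc,
    show (uq T n).left ≫ toZ T.left = usnd T n ≫ toZ (Spec (A.{u} n)) from specULiftZIsTerminal.hom_ext _ _,
    Category.assoc]
  congr 1
  have e₁ : toZ (Spec (A.{u} n)) = Spec.map (CommRingCat.ofHom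
      (Int.castRingHom (ring.{u} n) |>.comp (ULift.ringEquiv : ULift.{u} ℤ ≃+* ℤ).toRingHom)) := specULiftZIsTerminal.hom_ext _ _
  rw [e₁, sOrigin, sSel, ← Spec.map_comp]
  congr 1
  refine CommRingCat.hom_ext (RingHom.ext fun p => ext_ring fun k => ?_)
  show (sel f p).1 k = ((((p.1 0).eval 0).down : ℤ) : ring.{u} n).1 k
  rw [sel_none f p (e k), show (((((p.1 0).eval 0).down : ℤ) : ring.{u} n) : Fin n → (Zu.{u})[X]) =
    ((((p.1 0).eval 0).down : ℤ) : Fin n → (Zu.{u})[X]) from map_intCast (ring.{u} n).subtype _, Pi.intCast_apply]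
  refine Eq.trans ?_ (map_intCast (C : Zu.{u} →+* (Zu.{u})[X]) _)
  congr 1

/-- the open piece on the `i`-th axis -/
def D {n : ℕ} (i : Fin n) : (U T n).left.Opens := usnd T n ⁻¹ᵁ PrimeSpectrum.basicOpen (aX.{u} i)

/-- the complement of the common section -/
def V (n : ℕ) : (U T n).left.Opens := ⨆ i, D T i

lemma D_le_V {n : ℕ} (i : Fin n) : D T i ≤ V T n := le_iSup (fun i => D T i) i

lemma disjoint_D {n : ℕ} {i k : Fin n} (h : i ≠ k) :
    Disjoint (D T i : Set (U T n).left) (D T k) := by
  rw [Set.disjoint_left]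
  intro t hi hk
  let P := (usnd T n) t
  have hmul : aX.{u} i * aX k = 0 := ext_ring fun l => by
    show (aX.{u} i).1 l * (aX.{u} k).1 l = 0
    rcases eq_or_ne l i with rfl | hl
    · simp [aX_apply, h]
    · simp [aX_apply, hl]
  have hm : aX.{u} i * aX k ∈ P.asIdeal := by rw [hmul]; exact P.asIdeal.zero_mem
  exact (P.isPrime.mem_or_mem hm).elim (fun h => hi h) fun h => hk h

lemma D_le_preimage {n m : ℕ} [NeZero m] (f : Fin n → Option (Fin m)) {k : Fin n} {i : Fin m} (h : f k = some i) :
    D T k ≤ (um T f).left ⁻¹ᵁ D T i := by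
  intro t ht
  show ((um T f).left ≫ usnd T m) t ∈ PrimeSpectrum.basicOpen (aX.{u} i)
  rw [um_snd, sSel]
  show sel f (aX.{u} i) ∉ ((usnd T n) t).asIdeal
  intro hmem
  have e : aX.{u} k * sel f (aX i) = aX k * aX k := ext_ring fun l => by
    show (aX.{u} k).1 l * (sel f (aX i)).1 l = (aX.{u} k).1 l * (aX.{u} k).1 l
    rcases eq_or_ne l k with rfl | hl
    · rw [sel_some f _ h, aX_apply, aX_apply, if_pos rfl, if_pos rfl]
    · simp [aX_apply, hl]
  have := ((usnd T n) t).asIdeal.mul_mem_left (aX.{u} k) hmem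
  rw [e] at this
  exact (((usnd T n) t).isPrime.mem_or_mem this).elim (fun h => ht h) fun h => ht h

lemma V_le_preimage {n m : ℕ} [NeZero m] (f : Fin n → Option (Fin m)) (h : ∀ k, (f k).isSome) :
    V T n ≤ (um T f).left ⁻¹ᵁ V T m := by
  refine iSup_le fun k => ?_
  obtain ⟨i, hi⟩ := Option.isSome_iff_exists.1 (h k)
  exact (D_le_preimage T f hi).trans (Scheme.Hom.preimage_mono _ (D_le_V T i))

/-- the localisation at a coordinate -/
abbrev locD {n : ℕ} (i : Fin n) : A.{u} n ⟶ CommRingCat.of (Localization.Away (aX.{u} i)) :=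
  CommRingCat.ofHom (algebraMap (ring.{u} n) (Localization.Away (aX.{u} i)))

/-- the endomorphism collapsing the other axes -/
abbrev single {n : ℕ} (i : Fin n) : Fin n → Option (Fin n) := fun k => if k = i then some i else none

lemma sel_single_alg {n : ℕ} [NeZero n] (i : Fin n) (p : ring.{u} n) :
    aX.{u} i * sel (single i) p = aX i * p := by
  refine ext_ring fun l => ?_
  show (aX.{u} i).1 l * (sel (single i) p).1 l = (aX.{u} i).1 l * p.1 l
  rcases eq_or_ne l i with rfl | hl
  · rw [sel_some (single l) p (if_pos rfl)]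
  · simp [aX_apply, hl]

lemma sel_single_ringHom {n : ℕ} [NeZero n] (i : Fin n) :
    (algebraMap (ring.{u} n) (Localization.Away (aX.{u} i))).comp (sel (single i)) =
      algebraMap (ring.{u} n) (Localization.Away (aX.{u} i)) := by
  refine RingHom.ext fun p => ?_
  rw [RingHom.comp_apply]
  refine (IsLocalization.Away.algebraMap_isUnit (S := Localization.Away (aX.{u} i)) (aX.{u} i)).mul_left_cancel ?_
  rw [← map_mul, ← map_mul, sel_single_alg]

lemma sel_single_loc {n : ℕ} [NeZero n] (i : Fin n) :
    CommRingCat.ofHom (R := ring.{u} n) (S := ring.{u} n) (sel (single i)) ≫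
      CommRingCat.ofHom (R := ring.{u} n) (S := Localization.Away (aX.{u} i))
        (algebraMap (ring.{u} n) (Localization.Away (aX.{u} i))) = locD i :=
  (CommRingCat.ofHom_comp _ _).symm.trans (congrArg CommRingCat.ofHom (sel_single_ringHom i))

lemma range_locD {n : ℕ} (i : Fin n) :
    Set.range (Spec.map (locD.{u} i)) = (PrimeSpectrum.basicOpen (aX.{u} i) : Set (PrimeSpectrum (ring.{u} n))) :=
  PrimeSpectrum.localization_away_comap_range (Localization.Away (aX.{u} i)) (aX.{u} i)

lemma sSel_single_eq {n : ℕ} [NeZero n] (i : Fin n) {X : Scheme.{u}} (v : X ⟶ Spec (A.{u} n))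
    (hv : Set.range v ⊆ (PrimeSpectrum.basicOpen (aX.{u} i) : Set (PrimeSpectrum (ring.{u} n)))) :
    v ≫ sSel (single i) = v := by
  haveI : IsOpenImmersion (Spec.map (locD.{u} i)) := IsOpenImmersion.of_isLocalization (aX.{u} i)
  have hr : Set.range v ⊆ Set.range (Spec.map (locD.{u} i)) := by rw [range_locD]; exact hv
  rw [sSel, ← IsOpenImmersion.lift_fac (Spec.map (locD.{u} i)) v hr, Category.assoc, ← Spec.map_comp, sel_single_loc]

/-- the endomorphism collapsing the other axes is the identity on the `i`-th piece -/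
lemma um_single_eq {n : ℕ} [NeZero n] (i : Fin n) {W : Over S} (w : W ⟶ U T n)
    (hw : Set.range w.left ⊆ (D T i : Set (U T n).left)) :
    w ≫ um T (single i) = w := by
  refine hom_ext_U T (by simp) ?_
  rw [Over.comp_left, Category.assoc, um_snd, ← Category.assoc]
  refine sSel_single_eq i _ ?_
  rintro _ ⟨t, rfl⟩
  exact hw ⟨t, rfl⟩

section dense

variable (R : CommRingCat.{u})

/-- the algebra structure over the integers -/
local instance algZu : Algebra (Zu.{u}) R := ((Int.castRingHom R).comp (ULift.ringEquiv : ULift.{u} ℤ ≃+* ℤ).toRingHom).toAlgebra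

/-- the line as polynomials -/
def lineEquiv : ring.{u} 1 ≃+* (Zu.{u})[X] where
  toFun p := p.1 0
  invFun p := ⟨fun _ => p, fun _ _ => rfl⟩
  left_inv p := ext_ring fun k => by rw [Subsingleton.elim k 0]
  right_inv p := rfl
  map_mul' _ _ := rfl
  map_add' _ _ := rfl

/-- the coordinate ring of the line over an affine base -/
def lineMap : A.{u} 1 ⟶ CommRingCat.of R[X] :=
  CommRingCat.ofHom ((algebraMap (Zu.{u})[X] R[X]).comp lineEquiv.{u}.toRingHom)

lemma lineMap_aX : (lineMap R).hom (aX.{u} (0 : Fin 1)) = (Polynomial.X : R[X]) := by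
  show algebraMap (Zu.{u})[X] R[X] ((aX.{u} (0 : Fin 1)).1 0) = _
  rw [aX_apply, if_pos rfl]
  simp

set_option maxHeartbeats 2000000 in
lemma isPullback_of_poly {B : CommRingCat.{u}} (e : B ≅ CommRingCat.of (Zu.{u})[X]) (ψ : B ⟶ CommRingCat.of R[X])
    (hψ : e.hom ≫ CommRingCat.ofHom (algebraMap (Zu.{u})[X] R[X]) = ψ) :
    IsPullback (Spec.map (CommRingCat.ofHom (algebraMap R R[X]))) (Spec.map ψ)
      (toZ (Spec (CommRingCat.of R))) (toZ (Spec B)) := by
  subst hψ
  have h0 := isPullback_SpecMap_of_isPushout _ _ _ _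
    (CommRingCat.isPushout_of_isPushout (Zu.{u}) R (Zu.{u})[X] R[X])
  exact IsPullback.of_iso h0 (Iso.refl _) (Iso.refl _) (Scheme.Spec.mapIso e.op)
    (Iso.refl _) (by simp) (by simp [Spec.map_comp]) (specULiftZIsTerminal.hom_ext _ _) (specULiftZIsTerminal.hom_ext _ _)

lemma isPullback_line : IsPullback (Spec.map (CommRingCat.ofHom (algebraMap R R[X]))) (Spec.map (lineMap R))
    (toZ (Spec (CommRingCat.of R))) (toZ (Spec (A.{u} 1))) :=
  isPullback_of_poly R lineEquiv.{u}.toCommRingCatIso _ rfl

end dense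

/-- no proper closed subscheme of the line contains the complement of the origin -/
theorem dense_D {Z : Scheme.{u}} (ι : Z ⟶ (U T 1).left) (k : (D T (0 : Fin 1) : Scheme.{u}) ⟶ Z)
    (hι : IsClosedImmersion ι) (hk : k ≫ ι = (D T (0 : Fin 1)).ι) : IsIso ι := by
  refine (IsZariskiLocalAtTarget.iff_of_openCover (P := MorphismProperty.isomorphisms Scheme.{u})
    (Scheme.Pullback.openCoverOfLeft T.left.affineCover (toZ T.left) (toZ (Spec (A.{u} 1))))).2 fun c => ?_
  obtain ⟨R, hR⟩ : ∃ R : CommRingCat.{u}, Nonempty (T.left.affineCover.X c ≅ Spec R) := ⟨_, ⟨Scheme.isoSpec _⟩⟩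
  obtain ⟨eR⟩ := hR
  have sq := isPullback_line R
  let piece : pullback (T.left.affineCover.f c ≫ toZ T.left) (toZ (Spec (A.{u} 1))) ≅ Spec (CommRingCat.of R[X]) :=
    (pullback.congrHom (specULiftZIsTerminal.hom_ext _ (eR.hom ≫ toZ (Spec R))) rfl) ≪≫
      (asIso (pullback.map _ _ (toZ (Spec R)) (toZ (Spec (A.{u} 1))) eR.hom (𝟙 _) (𝟙 _) (by simp) (by simp))) ≪≫
      sq.isoPullback.symm
  let g := (Scheme.Pullback.openCoverOfLeft T.left.affineCover (toZ T.left) (toZ (Spec (A.{u} 1)))).f c
  have hg : piece.inv ≫ g ≫ usnd T 1 = Spec.map (lineMap R) := by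
    have e : g ≫ usnd T 1 = pullback.snd _ _ := by
      simp only [g, usnd, Scheme.Pullback.openCoverOfLeft_f]
      exact pullback.lift_snd _ _ _
    rw [e, Iso.inv_comp_eq]
    simp only [piece, Iso.trans_hom, asIso_hom, Iso.symm_hom, pullback.congrHom_hom, pullback.map, Category.assoc, sq.isoPullback_inv_snd]
    erw [pullback.lift_snd, pullback.lift_snd_assoc]
    simp
  let loc : CommRingCat.of R[X] ⟶ CommRingCat.of (Localization.Away (Polynomial.X : R[X])) :=
    CommRingCat.ofHom (algebraMap R[X] (Localization.Away (Polynomial.X : R[X])))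
  have hinj : Function.Injective loc.hom := IsLocalization.injective _ (by
    rw [Submonoid.powers_le]
    exact Polynomial.isRegular_X.mem_nonZeroDivisors)
  let m₀ := Spec.map loc ≫ piece.inv ≫ g
  have hr : Set.range m₀ ⊆ Set.range (D T (0 : Fin 1)).ι := by
    rw [Scheme.Opens.range_ι]
    rintro _ ⟨t, rfl⟩
    show (Spec.map loc ≫ piece.inv ≫ g ≫ usnd T 1) t ∈ PrimeSpectrum.basicOpen (aX.{u} (0 : Fin 1))
    rw [hg]
    intro hmem
    have hu : IsUnit (loc.hom ((lineMap R).hom (aX.{u} (0 : Fin 1)))) := by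
      rw [lineMap_aX]
      exact IsLocalization.map_units (Localization.Away (Polynomial.X : R[X]))
        (⟨Polynomial.X, Submonoid.mem_powers _⟩ : Submonoid.powers (Polynomial.X : R[X]))
    exact t.isPrime.ne_top (Ideal.eq_top_of_isUnit_mem _ hmem hu)
  let l := IsOpenImmersion.lift (D T (0 : Fin 1)).ι m₀ hr
  show IsIso (pullback.snd ι g)
  haveI : IsAffine (pullback (T.left.affineCover.f c ≫ toZ T.left) (toZ (Spec (A.{u} 1)))) := .of_isIso piece.hom
  refine isIso_of_factor (Spec.map loc ≫ piece.inv) ?_ (pullback.snd ι g)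
    (pullback.lift (l ≫ k) (Spec.map loc ≫ piece.inv) (by
      rw [Category.assoc, hk, IsOpenImmersion.lift_fac, Category.assoc])) inferInstance
    (pullback.lift_snd _ _ _)
  intro a b e
  rw [Scheme.Hom.comp_appTop, ConcreteCategory.comp_apply, ConcreteCategory.comp_apply] at e
  have e' := congrArg (Scheme.ΓSpecIso _).hom e
  rw [← ConcreteCategory.comp_apply, ← ConcreteCategory.comp_apply, ← ConcreteCategory.comp_apply,
    ← ConcreteCategory.comp_apply, Scheme.ΓSpecIso_naturality] at e'
  rw [ConcreteCategory.comp_apply, ConcreteCategory.comp_apply, ConcreteCategory.comp_apply,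
    ConcreteCategory.comp_apply] at e'
  exact (ConcreteCategory.bijective_of_isIso piece.inv.appTop).injective
    ((ConcreteCategory.bijective_of_isIso (Scheme.ΓSpecIso _).hom).injective (hinj e'))

end Groth.Agent.IsoNatLib.Axes

end
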