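import Groth.Agent.IsoNatLib.AxesGeom

/-!
# Sections of automorphism sheaves on unions of axes
-/

set_option autoImplicit false
set_option backward.isDefEq.respectTransparency false
set_option backward.isDefEq.respectTransparency.types false
set_option linter.style.haveILetI false
universe u

noncomputable section

namespace Groth.Agent.IsoNatLib

open CategoryTheory CategoryTheory.Limits AlgebraicGeometry Groth.Agent.FibCatRep

variable {S : Scheme.{u}} {𝒳 : AlgSt.Cat S} {T : Over S} {x : FibCat.overCat T ⥤ᵇ 𝒳}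

theorem res_congr {Z' Z : Over S} {q' : Z' ⟶ T} {q : Z ⟶ T} {W' : Z'.left.Opens} {W : Z.left.Opens}
    {h h' : Z' ⟶ Z} {hq : h ≫ q = q'} {hW : W' ≤ h.left ⁻¹ᵁ W} {hq' : h' ≫ q = q'} {hW' : W' ≤ h'.left ⁻¹ᵁ W}
    (e : h = h') (a : sec x q W) : res h hq hW a = res h' hq' hW' a := by
  subst e; rfl

theorem res_self {Z : Over S} {q : Z ⟶ T} {W : Z.left.Opens} (h : Z ⟶ Z) (e : h = 𝟙 Z) (hq : h ≫ q = q)
    (hW : W ≤ h.left ⁻¹ᵁ W) (a : sec x q W) : res h hq hW a = a := by
  subst e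
  refine Subtype.ext (funext fun t => ?_)
  show a.1 _ = a.1 _
  congr 1

/-- sections only depend on the test morphism -/
theorem sec_congr_w {Z : Over S} {q : Z ⟶ T} {W : Z.left.Opens} (a b : sec x q W) (o : Over T) {w w' : o.left ⟶ Z}
    (hw : w ≫ q = o.hom) (hin : Set.range w.left ⊆ (W : Set Z.left)) (hw' : w' ≫ q = o.hom)
    (hin' : Set.range w'.left ⊆ (W : Set Z.left)) (e : w = w') (h : a.1 ⟨o, w, hw, hin⟩ = b.1 ⟨o, w, hw, hin⟩) :
    a.1 ⟨o, w', hw', hin'⟩ = b.1 ⟨o, w', hw', hin'⟩ := by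
  subst e; exact h

/-- the pullback of `W` to a test object -/
theorem eq_of_locally_sec (hS : Stk.IsStack (Jf S) 𝒳) {Z : Over S} {q : Z ⟶ T} {W : Z.left.Opens}
    {ι : Type u} (P : ι → Z.left.Opens) (hP : W ≤ ⨆ i, P i) (a b : sec x q W)
    (h : ∀ (t : Tst q W) (i : ι), Set.range t.w.left ⊆ (P i : Set Z.left) → a.1 t = b.1 t) : a = b := by
  refine sec_ext fun t => ?_
  let V : ι → Over S := fun i => Over.mk ((t.w.left ⁻¹ᵁ P i).ι ≫ t.o.left.hom)
  let f : ∀ i, V i ⟶ t.o.left := fun i => Over.homMk (t.w.left ⁻¹ᵁ P i).ι rfl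
  have hR := mem_J_of_opens f (fun i => inferInstanceAs (IsOpenImmersion (Scheme.Opens.ι _))) fun p => by
    obtain ⟨i, hi⟩ := TopologicalSpace.Opens.mem_iSup.1 (hP (t.hin ⟨p, rfl⟩))
    exact ⟨i, ⟨p, hi⟩, rfl⟩
  refine FibCat2Misc.eq_of_locally hS.1 (x.w_obj t.o) _ (faithful_resSieve hS _ hR) _ _
    (by rw [GerbLib.Band.map_ah, GerbLib.Band.map_ah]) ?_
  rintro Y g ⟨Y', k, _, ⟨i⟩, rfl⟩
  let o' : Over T := Over.mk ((k ≫ f i) ≫ t.o.hom)
  let t' : Tst q W := ⟨o', (k ≫ f i) ≫ t.w, by rw [Category.assoc, t.hw]; rfl, by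
    rintro _ ⟨p, rfl⟩
    exact t.hin ⟨(k ≫ f i).left p, rfl⟩⟩
  have hi : Set.range t'.w.left ⊆ (P i : Set Z.left) := by
    rintro _ ⟨p, rfl⟩
    exact (k.left p).2
  let m : o' ⟶ t.o := Over.homMk (k ≫ f i) rfl
  refine ⟨x.obj o', x.map m, x.w_obj o', FibCatRep.map_map x m, ?_⟩
  rw [← a.2 t' t m rfl, ← b.2 t' t m rfl, h t' i hi]

namespace Axes

variable (T x)

/-- sections on the whole union of axes -/
abbrev SU (n : ℕ) := sec x (uq T n) (⊤ : (U T n).left.Opens)

/-- sections off the common point -/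
abbrev SV (n : ℕ) := sec x (uq T n) (V T n)

/-- constant sections -/
abbrev G₀ := sec x (𝟙 T) (⊤ : T.left.Opens)

variable {n m l : ℕ}

/-- restriction -/
def rU [NeZero m] (f : Fin n → Option (Fin m)) : SU T x m →* SU T x n := res (um T f) (um_q T f) fun _ _ => trivial

/-- restriction off the common point -/
def rV [NeZero m] (f : Fin n → Option (Fin m)) (h : ∀ k, (f k).isSome) : SV T x m →* SV T x n :=
  res (um T f) (um_q T f) (V_le_preimage T f h)

/-- restriction to the open -/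
abbrev iV (n : ℕ) : SU T x n →* SV T x n := toV (uq T n) (V T n)

/-- constants -/
abbrev cU (n : ℕ) : G₀ T x →* SU T x n := const (U T n) (uq T n) ⊤

/-- constants -/
abbrev cV (n : ℕ) : G₀ T x →* SV T x n := const (U T n) (uq T n) (V T n)

/-- value at the common point of a line -/
def ev : SU T x 1 →* G₀ T x := res (origin T) (origin_q T) fun _ _ => trivial

variable {T x}

lemma iV_cU (g : G₀ T x) : iV T x n (cU T x n g) = cV T x n g :=
  res_res _ _ _ _ _ _ _ (Category.id_comp _) _ _ g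

lemma rU_rU [NeZero m] [NeZero l] (f : Fin n → Option (Fin m)) (g : Fin m → Option (Fin l))
    (h : Fin n → Option (Fin l)) (e : (fun k => (f k).bind g) = h) (a : SU T x l) :
    rU T x f (rU T x g a) = rU T x h a :=
  res_res _ _ _ _ _ _ _ (um_comp T f g h e) _ _ a

lemma rV_rV [NeZero m] [NeZero l] (f : Fin n → Option (Fin m)) (g : Fin m → Option (Fin l))
    (h : Fin n → Option (Fin l)) (e : (fun k => (f k).bind g) = h) (hf : ∀ k, (f k).isSome) (hg : ∀ k, (g k).isSome)
    (hh : ∀ k, (h k).isSome) (a : SV T x l) : rV T x f hf (rV T x g hg a) = rV T x h hh a :=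
  res_res _ _ _ _ _ _ _ (um_comp T f g h e) _ _ a

lemma rV_iV [NeZero m] (f : Fin n → Option (Fin m)) (h : ∀ k, (f k).isSome) (a : SU T x m) :
    rV T x f h (iV T x m a) = iV T x n (rU T x f a) :=
  (res_res _ _ _ _ _ _ (um T f) (Category.comp_id _) (um_q T f) (show V T n ≤ (um T f).left ⁻¹ᵁ ⊤ from fun _ _ => trivial) a).trans
    (res_res _ _ _ _ _ _ (um T f) (Category.id_comp _) (um_q T f) (show V T n ≤ (um T f).left ⁻¹ᵁ ⊤ from fun _ _ => trivial) a).symm

lemma rV_cV [NeZero m] (f : Fin n → Option (Fin m)) (h : ∀ k, (f k).isSome) (g : G₀ T x) :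
    rV T x f h (cV T x m g) = cV T x n g :=
  res_res _ _ _ _ _ _ _ (um_q T f) _ _ g

lemma ev_cU (g : G₀ T x) : ev T x (cU T x 1 g) = g := by
  refine (res_res _ _ _ _ _ _ (𝟙 T) (origin_q T) (Category.id_comp _) (show (⊤ : (T).left.Opens) ≤ (𝟙 T : T ⟶ T).left ⁻¹ᵁ ⊤ from fun _ _ => trivial) g).trans ?_
  exact res_self _ rfl _ _ g

/-- constant restrictions factor through the value at the origin -/
lemma rU_none (f : Fin n → Option (Fin 1)) (e : ∀ k, f k = none) (a : SU T x 1) :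
    rU T x f a = cU T x n (ev T x a) :=
  (res_res (uq T n) _ _ (origin T) (origin_q T) (show (⊤ : (T).left.Opens) ≤ (origin T).left ⁻¹ᵁ ⊤ from fun _ _ => trivial) (um T f) (um_none T n f e).symm _ _ a).symm

/-- the inclusion of a line -/
abbrev line {n : ℕ} (i : Fin n) : Fin 1 → Option (Fin n) := fun _ => some i

/-- the retraction to a line -/
abbrev retr {n : ℕ} (i : Fin n) : Fin n → Option (Fin 1) := fun k => if k = i then some 0 else none

lemma isSome_line {n : ℕ} (i : Fin n) : ∀ k, (line i k).isSome := fun _ => rfl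

/-- restriction to a line -/
abbrev lV {n : ℕ} [NeZero n] (i : Fin n) : SV T x n →* SV T x 1 := rV T x (line i) (isSome_line i)

/-- restriction to a line -/
abbrev lU {n : ℕ} [NeZero n] (i : Fin n) : SU T x n →* SU T x 1 := rU T x (line i)

/-- a constant map through any line gives the same value -/
lemma ev_lU [NeZero n] (i k : Fin n) (a : SU T x n) : ev T x (lU i a) = ev T x (lU k a) := by
  refine (res_res _ _ _ _ _ _ (origin T ≫ um T (line i)) rfl (by simp) (show (⊤ : (T).left.Opens) ≤ (origin T ≫ um T (line i)).left ⁻¹ᵁ ⊤ from fun _ _ => trivial) a).trans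
    (Eq.trans (res_congr ?_ a) (res_res _ _ _ _ _ _ (origin T ≫ um T (line k)) rfl (by simp) (show (⊤ : (T).left.Opens) ≤ (origin T ≫ um T (line k)).left ⁻¹ᵁ ⊤ from fun _ _ => trivial) a).symm)
  refine hom_ext_U T (by simp) ?_
  rw [Over.comp_left, Category.assoc, um_snd, Over.comp_left, Category.assoc, um_snd, ← Category.assoc, ← Category.assoc]
  show (pullback.lift _ _ _ ≫ pullback.snd _ _) ≫ _ = (pullback.lift _ _ _ ≫ pullback.snd _ _) ≫ _
  rw [pullback.lift_snd, Category.assoc, Category.assoc]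
  congr 1
  rw [sOrigin, sSel, sSel, ← Spec.map_comp, ← Spec.map_comp]
  congr 1
  refine CommRingCat.hom_ext (RingHom.ext fun p => ?_)
  show (((sel (line i) p).1 0).eval 0) = (((sel (line k) p).1 0).eval 0)
  rw [sel_some (line i) p (i := i) rfl, sel_some (line k) p (i := k) rfl, p.2 i k]

/-- sections off the origin are determined on the lines -/
theorem ext_lines (hS : Stk.IsStack (Jf S) 𝒳) [NeZero n] (a b : SV T x n) (h : ∀ i, lV i a = lV i b) : a = b := by
  refine eq_of_locally_sec hS (fun i : ULift.{u} (Fin n) => D T i.down) (iSup_le fun i => le_iSup_of_le ⟨i⟩ le_rfl)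
    a b fun t i hi => ?_
  obtain ⟨i⟩ := i
  let t₁ : Tst (uq T 1) (V T 1) := ⟨t.o, t.w ≫ um T (retr i), by rw [Category.assoc, um_q, t.hw], by
    rintro _ ⟨p, rfl⟩
    exact D_le_V T 0 (D_le_preimage T (retr i) (k := i) (if_pos rfl) (hi ⟨p, rfl⟩))⟩
  have he : (t.w ≫ um T (retr i)) ≫ um T (line i) = t.w := by
    rw [Category.assoc, um_comp T (retr i) (line i) (single i) (funext fun k => by by_cases hk : k = i <;> simp [retr, single, hk])]
    exact um_single_eq T i t.w hi
  have e := congrArg (fun s : SV T x 1 => s.1 t₁) (h i)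
  obtain ⟨o, w, hw, hin⟩ := t
  exact sec_congr_w a b o _ _ hw hin he e

/-- on a line, sections are determined off the origin -/
theorem injective_iV_one (hS : Stk.IsStack (Jf S) 𝒳)
    (hd : AlgSt.RepByAlgSpWith AlgSp.IsSeparatedMor (FibCat.diag (FibCat.toSelf 𝒳))) :
    Function.Injective (iV T x 1) := fun a b e => by
  have hV : V T 1 = D T (0 : Fin 1) :=
    le_antisymm (iSup_le fun i => by rw [Subsingleton.elim i 0]) (D_le_V T 0)
  let t₀ : Tst (uq T 1) (⊤ : (U T 1).left.Opens) :=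
    ⟨(AlgSt.overMap (uq T 1)).obj (Over.mk (𝟙 _)), 𝟙 _, rfl, fun _ _ => trivial⟩
  let M : Over S := Over.mk ((D T (0 : Fin 1)).ι ≫ (U T 1).hom)
  let m : M ⟶ U T 1 := Over.homMk (D T (0 : Fin 1)).ι rfl
  let t₁ : Tst (uq T 1) (V T 1) := ⟨Over.mk (m ≫ uq T 1), m, rfl, by
    rw [hV]
    rintro _ ⟨p, rfl⟩
    exact p.2⟩
  let n₁ : t₁.o ⟶ t₀.o := Over.homMk m (by
    show m ≫ 𝟙 _ ≫ uq T 1 = m ≫ uq T 1
    rw [Category.id_comp])
  have e₀ : GerbLib.Band.ah (a.1 t₀) = GerbLib.Band.ah (b.1 t₀) := by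
    refine eq_of_dense hS.1 hd m (fun {Z} ι k hι hk => dense_D T ι k hι hk) (x.w_obj t₀.o) _ _
      (by rw [GerbLib.Band.map_ah, GerbLib.Band.map_ah]) (x.map n₁) (x.w_obj t₁.o) (FibCatRep.map_map x n₁) ?_
    rw [← a.2 t₁.toTop t₀ n₁ (Category.comp_id _), ← b.2 t₁.toTop t₀ n₁ (Category.comp_id _), ← toV_apply, ← toV_apply]
    exact congrArg (fun s : SV T x 1 => GerbLib.Band.ah (s.1 t₁) ≫ x.map n₁) e
  refine sec_ext fun t => ?_
  let m' : t.o ⟶ t₀.o := Over.homMk t.w (by
    show t.w ≫ 𝟙 _ ≫ uq T 1 = t.o.hom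
    rw [Category.id_comp, t.hw])
  refine cancel hS.1 (x.map m') (by rw [GerbLib.Band.map_ah, GerbLib.Band.map_ah]) ?_
  rw [a.2 t t₀ m' (Category.comp_id _), b.2 t t₀ m' (Category.comp_id _), e₀]

/-- the section equal to a constant on one piece and trivial on the others -/
theorem exists_single (hS : Stk.IsStack (Jf S) 𝒳) [NeZero n] (i : Fin n) (g : G₀ T x) :
    ∃ a : SV T x n, lV i a = cV T x 1 g ∧ ∀ k, k ≠ i → lV k a = 1 := by
  classical
  have hg := hS.1
  let A := D T i
  let B : (U T n).left.Opens := ⨆ k : {k : Fin n // k ≠ i}, D T k.1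
  have hAB : Disjoint (A : Set (U T n).left) B := by
    rw [Set.disjoint_left]
    intro p hp hB
    obtain ⟨k, hk⟩ := TopologicalSpace.Opens.mem_iSup.1 hB
    exact Set.disjoint_left.1 (disjoint_D T k.2) hk hp
  have hVle : V T n ≤ A ⊔ B := iSup_le fun k => by
    by_cases hk : k = i
    · subst hk; exact le_sup_left
    · exact le_sup_of_le_right (le_iSup (fun k : {k : Fin n // k ≠ i} => D T k.1) ⟨k, hk⟩)
  let E := BasedFunctor.comp (AlgSt.overMap (uq T n)) x
  let gt : ∀ z : Over (U T n), Tst (𝟙 T) (⊤ : T.left.Opens) := fun z =>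
    ⟨(AlgSt.overMap (uq T n)).obj z, z.hom ≫ uq T n, Category.comp_id _, fun _ _ => trivial⟩
  let γ : E ⟶ E :=
    { app := fun z => GerbLib.Band.ah (g.1 (gt z))
      naturality := fun z' z f => (g.2 (gt z') (gt z) ((AlgSt.overMap (uq T n)).map f) (by
        show f.left ≫ z.hom ≫ uq T n = z'.hom ≫ uq T n
        rw [← Category.assoc, Over.w f])).symm
      isHomLift' := fun z => IsHomLift.of_fac' 𝒳.p _ _ (E.w_obj z) (E.w_obj z) (by
        rw [GerbLib.Band.map_ah]
        simp) }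
  obtain ⟨Γ, hΓ, hΓn, hΓA, hΓB⟩ := exists_system hS E A B hAB γ
  choose α hα using fun z => GerbLib.Band.exists_autO hg (Γ z).hom (hΓ z)
  let cst : ∀ t : Tst (uq T n) (V T n), t.o ⟶ (AlgSt.overMap (uq T n)).obj (Over.mk t.w) := fun t =>
    Over.homMk (𝟙 _) (by
      show 𝟙 _ ≫ t.w ≫ uq T n = t.o.hom
      rw [Category.id_comp, t.hw])
  choose β hβ hβu using fun t : Tst (uq T n) (V T n) =>
    GerbLib.Band.existsUnique_conj hg (x.map (cst t)) (α (Over.mk t.w))
  have hin : ∀ t : Tst (uq T n) (V T n), InOpen (Over.mk t.w) ((A ⊔ B : (U T n).left.Opens) : Set (U T n).left) :=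
    fun t => t.hin.trans hVle
  have hmem : β ∈ sec x (uq T n) (V T n) := fun t' t m e => by
    refine cancel hg (x.map (cst t)) (by simp [GerbLib.Band.map_ah]) ?_
    let f : Over.mk t'.w ⟶ Over.mk t.w := Over.homMk m.left e
    have hn := hΓn f (hin t)
    have hc : m ≫ cst t = cst t' ≫ (AlgSt.overMap (uq T n)).map f :=
      Over.OverMorphism.ext ((Category.comp_id _).trans (Category.id_comp _).symm)
    rw [Category.assoc, Category.assoc, hβ t, ← reassoc_of% (x.toFunctor.map_comp m (cst t)), hc, Functor.map_comp,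
      ← x.toFunctor.map_comp m (cst t), hc, Functor.map_comp, Category.assoc, hα]
    refine ((reassoc_of% hβ t') _).trans ?_
    rw [hα]
    exact congrArg (x.map (cst t') ≫ ·) hn.symm
  have key : ∀ (k : Fin n) (t : Tst (uq T 1) (V T 1)),
      (lV k (⟨β, hmem⟩ : SV T x n)).1 t = β (t.map (um T (line k)) (um_q T _) (V_le_preimage T _ (isSome_line k))) :=
    fun k t => rfl
  have hD : ∀ (k : Fin n) (t : Tst (uq T 1) (V T 1)),
      Set.range (t.w ≫ um T (line k)).left ⊆ (D T k : Set (U T n).left) := fun k t => by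
    rintro _ ⟨p, rfl⟩
    obtain ⟨j, hj⟩ := TopologicalSpace.Opens.mem_iSup.1 (t.hin ⟨p, rfl⟩)
    exact D_le_preimage T (line k) (k := j) rfl hj
  refine ⟨⟨β, hmem⟩, sec_ext fun t => ?_, fun k hk => sec_ext fun t => ?_⟩
  · let t' := t.map (um T (line i)) (um_q T _) (V_le_preimage T _ (isSome_line i))
    haveI : IsIso (cst t') := by
      haveI : IsIso ((Over.forget T).map (cst t')) := inferInstanceAs (IsIso (𝟙 t'.o.left))
      exact isIso_of_reflects_iso (cst t') (Over.forget T)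
    rw [key, ← cancel_mono (x.map (cst t')), hβ t', hα, hΓA _ (hD i t)]
    refine (g.2 (t.map (uq T 1) (Category.comp_id _) fun _ _ => trivial) (gt _) (cst t') ?_).symm
    show 𝟙 _ ≫ (t.w ≫ um T (line i)) ≫ uq T n = t.w ≫ uq T 1
    rw [Category.id_comp, Category.assoc, um_q]
  · let t' := t.map (um T (line k)) (um_q T _) (V_le_preimage T _ (isSome_line k))
    have hB : InOpen (Over.mk t'.w) (B : Set (U T n).left) :=
      (hD k t).trans (le_iSup (fun k : {k : Fin n // k ≠ i} => D T k.1) ⟨k, hk⟩)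
    haveI : IsIso (cst t') := by
      haveI : IsIso ((Over.forget T).map (cst t')) := inferInstanceAs (IsIso (𝟙 t'.o.left))
      exact isIso_of_reflects_iso (cst t') (Over.forget T)
    rw [key, ← cancel_mono (x.map (cst t')), hβ t', hα, hΓB _ hB]
    erw [Category.comp_id]
    exact (Category.id_comp _).symm

end Axes

end Groth.Agent.IsoNatLib

end
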