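import Groth.Agent.IsoNatLib.Transport
import Groth.Agent.AlgStLib.LocQRep
import Groth.Agent.AlgStLib.LocQClasses
import Groth.Agent.LimDesc.FPCancel
import Mathlib.AlgebraicGeometry.Morphisms.Smooth

/-!
# Charts are detected by the presheaf of isomorphism classes

For charts `x`, `y` with corresponding classes, the fibre product of `y` with an atlas is a retract, over the
atlas, of something having the properties of `x`.
-/

set_option autoImplicit false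
set_option backward.isDefEq.respectTransparency false
set_option backward.isDefEq.respectTransparency.types false
set_option linter.style.haveILetI false
universe u

noncomputable section

namespace Groth.Agent.IsoNatLib

open CategoryTheory CategoryTheory.Limits AlgebraicGeometry Opposite Groth.Agent.FibCatRep
  Groth.Agent.FibCat2Misc Groth.Agent.AlgSpLib Groth.Agent.AlgStLib Groth.Agent.StkBasic
open _root_.AlgSp _root_.AlgSt

/-- stability under retracts over the base -/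
def RetrClosed (P : MorphismProperty Scheme.{u}) : Prop :=
  ∀ ⦃Q Z T : Scheme.{u}⦄ (s : Q ⟶ Z) (p : Z ⟶ Q) (g : Q ⟶ T), s ≫ p = 𝟙 Q → P (p ≫ g) → P g

theorem retrClosed_lfp : RetrClosed (@LocallyOfFinitePresentation : MorphismProperty Scheme.{u}) := by
  intro Q Z T s p g hs h
  haveI := h
  haveI : LocallyOfFiniteType p := locallyOfFiniteType_of_comp p g
  haveI : LocallyOfFinitePresentation (s ≫ p) := by rw [hs]; infer_instance
  haveI : LocallyOfFinitePresentation s := LimDesc.lfp_of_comp s p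
  have e : g = s ≫ p ≫ g := by rw [← Category.assoc, hs, Category.id_comp]
  rw [e]
  infer_instance

/-- retracts of formally smooth algebras -/
theorem smooth_of_retract_ring {A B C : Type u} [CommRing A] [CommRing B] [CommRing C] (φ : A →+* B)
    (π : B →+* C) (s : C →+* B) (hs : s.comp π = RingHom.id B) (hfp : φ.FinitePresentation)
    (h : (π.comp φ).Smooth) : φ.Smooth := by
  algebraize [φ, π, π.comp φ]
  haveI : Algebra.Smooth A C := h
  haveI : Algebra.FinitePresentation A B := hfp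
  let πA : B →ₐ[A] C := ⟨π, fun _ => rfl⟩
  let sA : C →ₐ[A] B := ⟨s, fun a => DFunLike.congr_fun hs (φ a)⟩
  haveI : Algebra.FormallySmooth A B := by
    refine Algebra.FormallySmooth.of_comp_surjective fun D _ _ I hI f => ?_
    obtain ⟨g, hg⟩ := Algebra.FormallySmooth.comp_surjective A C I hI (f.comp sA)
    refine ⟨g.comp πA, AlgHom.ext fun b => ?_⟩
    exact (AlgHom.congr_fun hg (π b)).trans (congrArg f (DFunLike.congr_fun hs b))
  exact ⟨inferInstance, inferInstance⟩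

theorem retrClosed_smooth : RetrClosed (@Smooth : MorphismProperty Scheme.{u}) := by
  intro Q Z T s p g hs h
  haveI := h
  haveI : LocallyOfFinitePresentation g := retrClosed_lfp s p g hs inferInstance
  refine (HasRingHomProperty.iff_exists_appLE (P := @Smooth)
    (RingHom.Smooth.stableUnderComposition.stableUnderCompositionWithLocalizationAway
      RingHom.Smooth.holdsForLocalizationAway).1).2 fun v => ?_
  obtain ⟨U, hU, hvU, -⟩ := exists_isAffineOpen_mem_and_subset (show g v ∈ (⊤ : T.Opens) from trivial)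
  obtain ⟨V₀, hV₀, hvV₀, hV₀U⟩ := exists_isAffineOpen_mem_and_subset (show v ∈ g ⁻¹ᵁ U from hvU)
  have hpv : p (s v) = v := by rw [← Scheme.Hom.comp_apply, hs]; rfl
  obtain ⟨X₀, hX₀, hsX₀, hX₀V₀⟩ := exists_isAffineOpen_mem_and_subset
    (show s v ∈ p ⁻¹ᵁ V₀ by show p (s v) ∈ V₀; rw [hpv]; exact hvV₀)
  obtain ⟨r, hr, hvr⟩ := hV₀.exists_basicOpen_le (V := s ⁻¹ᵁ X₀) ⟨v, hsX₀⟩ hvV₀
  let V₁ := Q.basicOpen r
  let r' := p.appLE V₀ X₀ hX₀V₀ r
  let X₁ := Z.basicOpen r'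
  have hX₁ : X₁ = X₀ ⊓ p ⁻¹ᵁ V₁ := by
    simp only [X₁, r', V₁, Scheme.Hom.appLE, CommRingCat.comp_apply, Scheme.basicOpen_res,
      Scheme.preimage_basicOpen]
  have e₁ : X₁ ≤ p ⁻¹ᵁ V₁ := hX₁ ▸ inf_le_right
  have hps : ∀ w : Q, p (s w) = w := fun w => by rw [← Scheme.Hom.comp_apply, hs]; rfl
  have e₂ : V₁ ≤ s ⁻¹ᵁ X₁ := fun w hw => by
    show s w ∈ X₁
    rw [hX₁]
    exact ⟨hr hw, show p (s w) ∈ V₁ by rw [hps]; exact hw⟩
  have e₀ : V₁ ≤ g ⁻¹ᵁ U := fun w hw => hV₀U (Q.basicOpen_le r hw)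
  refine ⟨⟨U, hU⟩, ⟨V₁, hV₀.basicOpen r⟩, hvr, e₀, ?_⟩
  have hsm : ((p ≫ g).appLE U X₁ (e₁.trans (p.preimage_mono e₀))).hom.Smooth :=
    Scheme.Hom.smooth_appLE (p ≫ g) hU (hX₀.basicOpen r') _
  refine smooth_of_retract_ring _ (p.appLE V₁ X₁ e₁).hom (s.appLE X₁ V₁ e₂).hom ?_
    (HasRingHomProperty.appLE @LocallyOfFinitePresentation g inferInstance ⟨U, hU⟩ ⟨V₁, hV₀.basicOpen r⟩ e₀) ?_
  · rw [← CommRingCat.hom_comp, Scheme.Hom.appLE_comp_appLE]
    have key : ∀ (k : Q ⟶ Q) (e : V₁ ≤ k ⁻¹ᵁ V₁), k = 𝟙 Q → (k.appLE V₁ V₁ e).hom = RingHom.id _ := by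
      rintro k e rfl
      have : (𝟙 Q : Q ⟶ Q).appLE V₁ V₁ e = 𝟙 _ := by
        simp only [Scheme.Hom.appLE, Scheme.Hom.id_app, Category.id_comp]
        exact Q.presheaf.map_id _
      rw [this]
      rfl
    exact key _ _ hs
  · rw [← CommRingCat.hom_comp, Scheme.Hom.appLE_comp_appLE]
    exact hsm

variable {S : Scheme.{u}} {𝒳 𝒴 : AlgSt.Cat S}

local notation "AS" => IsAlgStack Scheme.fppfPrecoverage

/-- charts of fibre products, with lifting -/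
theorem exists_chart_lift {P : MorphismProperty Scheme.{u}} (hP : EtST P) {U V : Over S}
    (x : FibCat.overCat U ⥤ᵇ 𝒳) (v : FibCat.overCat V ⥤ᵇ 𝒳) (hx : RepByAlgSpWith (LocP P) x) :
    ∃ (W : Over S) (r : W ⟶ U) (c : W ⟶ V), P c.left ∧
      Nonempty (BasedFunctor.comp (AlgSt.overMap c) v ≅ BasedFunctor.comp (AlgSt.overMap r) x) ∧
      ∀ (K : Over S) (α : K ⟶ U) (β : K ⟶ V),
        Nonempty (BasedFunctor.comp (AlgSt.overMap β) v ≅ BasedFunctor.comp (AlgSt.overMap α) x) →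
          ∃ (K' : Over S) (q : K' ⟶ K) (σ : K' ⟶ W),
            RepWith @Etale ((yon S).map q) ∧ RepWith @Surjective ((yon S).map q) ∧
              σ ≫ r = q ≫ α ∧ σ ≫ c = q ≫ β := by
  obtain ⟨F, e, he, hF⟩ := hx V v
  obtain ⟨W, d, hde, hds⟩ := F.property.atlas
  obtain ⟨k, hk, -, ⟨j⟩⟩ := isEquivOver_symm he
  let p₁ := BasedFunctor.comp e (FibCat.fpFst v x)
  let p₂ := BasedFunctor.comp e (FibCat.fpSnd v x)
  let C := BasedFunctor.comp (ofOverCat W) (Stk.ofPshMap d.hom)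
  obtain ⟨c, hc, ⟨ic⟩⟩ := exists_map_of_chart d p₁
  obtain ⟨r, hr, ⟨ir⟩⟩ := exists_map_of_chart d p₂
  refine ⟨W, r, c, hF d (𝟙 _) c hde repWith_id' (by rw [Category.comp_id, hc]),
    ⟨((post _ v).mapIso ic).symm ≪≫ (Stk.restr (BasedFunctor.comp C e) 𝒳).mapIso (FibCat.fpIso v x) ≪≫
      (post _ x).mapIso ir⟩, fun K α β ⟨i⟩ => ?_⟩
  let L : FibCat.overCat K ⥤ᵇ FibCat.fp v x := FibCat.fpLift (AlgSt.overMap β) (AlgSt.overMap α) i
  let l : (yon S).obj K ⟶ F.obj :=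
    ObjectProperty.homMk (mapOf (BasedFunctor.comp (BasedFunctor.comp (toOverCat K) L) k))
  have hl : ∀ {T : Over S} (Φ : FibCat.fp v x ⥤ᵇ FibCat.overCat T) (γ : K ⟶ T)
      (_ : BasedFunctor.comp L Φ ≅ AlgSt.overMap γ),
      l ≫ spMapOfOver (BasedFunctor.comp e Φ) = (yon S).map γ := by
    intro T Φ γ iΦ
    refine ObjectProperty.hom_ext _ ?_
    show l.hom ≫ (spMapOfOver (BasedFunctor.comp e Φ)).hom = _
    rw [spMapOfOver_hom]
    refine (mapOf_comp _ _).symm.trans ((mapOf_congr ((post _ (BasedFunctor.comp Φ (ofOverCat T))).mapIso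
      ((Stk.restr (BasedFunctor.comp (toOverCat K) L) _).mapIso j) ≪≫
      (post _ (ofOverCat T)).mapIso ((Stk.restr (toOverCat K) _).mapIso iΦ))).trans ?_)
    ext Z g
    exact ULift.ext _ _ (by
      show 𝟙 _ ≫ g.down ≫ γ = g.down ≫ γ
      rw [Category.id_comp])
  obtain ⟨K', f₁, q, sqK, hqe⟩ := exists_repWith hde l
  obtain ⟨σ, hσ⟩ := exists_map_eq f₁
  refine ⟨K', q, σ, repWith_baseChange sqK hde, repWith_baseChange sqK hds, ?_, ?_⟩
  · exact (yon S).map_injective (by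
      rw [Functor.map_comp, Functor.map_comp, hr, hσ, sqK.w_assoc, hl (FibCat.fpSnd v x) α (Iso.refl _)])
  · exact (yon S).map_injective (by
      rw [Functor.map_comp, Functor.map_comp, hc, hσ, sqK.w_assoc, hl (FibCat.fpFst v x) β (Iso.refl _)])

section core

variable {P : MorphismProperty Scheme.{u}}

/-- the retraction, for algebraic spaces -/
theorem locP_of_retraction (hP : EtST P) (hret : RetrClosed P) {G : Sp S} (hG : IsAlgSpace G) {U W W₁ Q Q' : Over S}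
    (πU : G ⟶ (yon S).obj U) (πW : G ⟶ (yon S).obj W) (r : W₁ ⟶ U) (d : (yon S).obj Q ⟶ G) (α : Q ⟶ U)
    (β : Q ⟶ W) (q : Q' ⟶ Q) (σ : Q' ⟶ W₁) (hde : RepWith @Etale d) (hds : RepWith @Surjective d)
    (hqe : RepWith @Etale ((yon S).map q)) (hqs : RepWith @Surjective ((yon S).map q))
    (hα : (yon S).map α = d ≫ πU) (hβ : (yon S).map β = d ≫ πW) (hσr : σ ≫ r = q ≫ α)
    (h : LocP P (pullback.fst πU ((yon S).map r) ≫ πW)) : LocP P πW := by
  let Z : Over S := Over.mk (pullback.fst (q ≫ α).left r.left ≫ Q'.hom)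
  let z₁ : Z ⟶ Q' := Over.homMk (pullback.fst (q ≫ α).left r.left) rfl
  let z₂ : Z ⟶ W₁ := Over.homMk (pullback.snd (q ≫ α).left r.left) (by
    show pullback.snd (q ≫ α).left r.left ≫ W₁.hom = pullback.fst (q ≫ α).left r.left ≫ Q'.hom
    rw [← Over.w r, ← Over.w (q ≫ α), pullback.condition_assoc])
  have sqZ : IsPullback ((yon S).map z₁) ((yon S).map z₂) ((yon S).map (q ≫ α)) ((yon S).map r) :=
    isPullback_yon_iff.2 (IsPullback.of_hasPullback _ _)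
  have hqd : (yon S).map (q ≫ α) = ((yon S).map q ≫ d) ≫ πU := by rw [Functor.map_comp, hα, Category.assoc]
  have sq₃ := IsPullback.of_hasPullback πU ((yon S).map r)
  let ζ : (yon S).obj Z ⟶ pullback πU ((yon S).map r) :=
    sq₃.lift ((yon S).map z₁ ≫ (yon S).map q ≫ d) ((yon S).map z₂) (by rw [Category.assoc, ← hqd, sqZ.w])
  have sqζ : IsPullback ((yon S).map z₁) ζ ((yon S).map q ≫ d) (pullback.fst πU ((yon S).map r)) :=
    IsPullback.of_bot (by rw [sq₃.lift_snd]; rw [← hqd]; exact sqZ) (sq₃.lift_fst _ _ _).symm sq₃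
  have hPz : P (z₁ ≫ q ≫ β).left := h ζ (𝟙 _) (z₁ ≫ q ≫ β)
    (repWith_baseChange sqζ (repWith_comp hqe hde)) repWith_id' (by
      rw [Category.comp_id, ← Category.assoc, ← sqζ.w, Functor.map_comp, Functor.map_comp, hβ]
      simp only [Category.assoc])
  have hPβ : P (q ≫ β).left := by
    refine hret (pullback.lift (𝟙 _) σ.left ?_) (pullback.fst (q ≫ α).left r.left) (q ≫ β).left
      (pullback.lift_fst _ _ _) hPz
    rw [Category.id_comp, ← Over.comp_left, hσr]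
  exact locP_of_chart hP hG (IsAlgSpace.yon_obj W) (repWith_comp hqe hde)
    (repWith_comp hqs hds) repWith_id' (by rw [Category.comp_id, Category.assoc, ← hβ, ← Functor.map_comp]) hPβ

/-- after base change to a chart factoring through the atlas, the projection to the atlas has the property -/
theorem locP_fst_comp (hC : Cls (LocP (S := S) P)) (hP : EtST P)
    (hsm : ∀ ⦃A B : Scheme.{u}⦄ (f : A ⟶ B), Smooth f → P f) (g𝒴 : FibCat.IsFibGrpd 𝒴.p) {U W W₁ : Over S}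
    {y₀ : Stk.ofPsh ((pyon S).obj U) ⥤ᵇ 𝒴} {f : Stk.ofPsh ((pyon S).obj W) ⥤ᵇ 𝒴}
    (hf : RepByAlgSpWith (LocP @Smooth) f) {G : AlgSp.Space S} (πU : G.obj ⟶ (yon S).obj U)
    {e : AlgSt.ofSp G.obj ⥤ᵇ FibCat.fp y₀ f} (he : FibCat.IsEquivOver e) (ha : πU.hom = prjMap e)
    (πW : G.obj ⟶ (yon S).obj W) (hπW : πW.hom = mapOf (BasedFunctor.comp e (FibCat.fpSnd y₀ f)))
    (r : W₁ ⟶ U) (c : W₁ ⟶ W) (hc : P c.left)
    (i₂ : BasedFunctor.comp (Stk.ofPshMap ((yon S).map c).hom) f ≅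
      BasedFunctor.comp (Stk.ofPshMap ((yon S).map r).hom) y₀) :
    LocP P (pullback.fst πU ((yon S).map r) ≫ πW) := by
  have gW := isFibGrpd_ofSpace (S := S) ((pyon S).obj W)
  have sq₃ := IsPullback.of_hasPullback πU ((yon S).map r)
  have hG₃ : IsAlgSpace (pullback πU ((yon S).map r)) :=
    isAlgSpace_of_isPullback_space (IsAlgSpace.yon_obj U) G.property (IsAlgSpace.yon_obj W₁) sq₃
  have sq₃' : IsPullback (pullback.fst πU ((yon S).map r)).hom (pullback.snd πU ((yon S).map r)).hom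
      (prjMap e) ((yon S).map r).hom := ha ▸ sq₃.map (sheafToPresheaf (J S) _)
  obtain ⟨e₃, he₃, -, ⟨k₃⟩⟩ := exists_model_baseChange' ((yon S).map r).hom he sq₃'
  obtain ⟨R, b, eR, heR, hb, -⟩ := exists_model_space cls_smooth.bc cls_smooth.loc gW g𝒴 hf (spOf W) f
  let π₂ : R ⟶ spOf W :=
    ObjectProperty.homMk (ObjectProperty.homMk (mapOf (BasedFunctor.comp eR (FibCat.fpSnd f f))))
  have hπ₂ : LocP @Smooth π₂.hom := prop_prjMap cls_smooth.bc cls_smooth.loc hf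
    (W := spOf W) (w := f) (e := BasedFunctor.comp eR (swapFun f f)) (isEquivOver_comp heR (isEquivOver_swapFun f f)) π₂ rfl
  have sq₄ := IsPullback.of_hasPullback b.hom ((yon S).map c)
  have hG₄ : IsAlgSpace (pullback b.hom ((yon S).map c)) :=
    isAlgSpace_of_isPullback_space (IsAlgSpace.yon_obj W) R.property (IsAlgSpace.yon_obj W₁) sq₄
  have sq₄' : IsPullback (pullback.fst b.hom ((yon S).map c)).hom (pullback.snd b.hom ((yon S).map c)).hom
      (prjMap eR) ((yon S).map c).hom := hb ▸ sq₄.map (sheafToPresheaf (J S) _)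
  obtain ⟨e₄, he₄, -, ⟨k₄⟩⟩ := exists_model_baseChange' ((yon S).map c).hom heR sq₄'
  let M := fpMap (F := BasedFunctor.comp (Stk.ofPshMap ((yon S).map c).hom) f) (G := f)
    (BasedFunctor.comp (Stk.ofPshMap ((yon S).map r).hom) y₀) f (BasedFunctor.id _) (BasedFunctor.id _)
    (BasedFunctor.id 𝒴) i₂.symm (Iso.refl _)
  have hM : FibCat.IsEquivOver M := isEquivOver_fp_change f i₂.symm
  let sn := FibCat.fpSnd (BasedFunctor.comp (Stk.ofPshMap ((yon S).map c).hom) f) f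
  have h₃ : mapOf (BasedFunctor.comp (BasedFunctor.comp e₃ M) sn) =
      (pullback.fst πU ((yon S).map r)).hom ≫ πW.hom := by
    rw [hπW]
    exact (mapOf_congr k₃).trans ((mapOf_comp _ _).trans (by rw [mapOf_ofPshMap]))
  have h₄ : mapOf (BasedFunctor.comp e₄ sn) = (pullback.fst b.hom ((yon S).map c)).hom ≫ π₂.hom.hom :=
    (mapOf_congr k₄).trans ((mapOf_comp _ _).trans (by rw [mapOf_ofPshMap]; rfl))
  obtain ⟨t, ht⟩ := exists_iso_of_models he₄ (isEquivOver_comp he₃ hM)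
  let t' : pullback πU ((yon S).map r) ≅ pullback b.hom ((yon S).map c) :=
    (fullyFaithfulSheafToPresheaf (J S) (Type (u + 1))).preimageIso t
  have hcomp : pullback.fst πU ((yon S).map r) ≫ πW = t'.hom ≫ pullback.fst b.hom ((yon S).map c) ≫ π₂.hom := by
    refine ObjectProperty.hom_ext _ ?_
    exact h₃.symm.trans ((ht sn).symm.trans (congrArg (t.hom ≫ ·) h₄))
  have hc' : LocP P (pullback.fst b.hom ((yon S).map c)) :=
    hC.bc (IsAlgSpace.yon_obj W₁) (IsAlgSpace.yon_obj W) hG₄ R.property _ b.hom _ _ sq₄.flip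
      ((locP_yon_iff hP c).2 hc)
  have ht' : LocP P t'.hom :=
    locP_mono hsm _ (Groth.Agent.EtSmLocalST.smooth_of_etale hG₄
      (isEtaleMor_of_repWith' (repWith_of_isIso t'.hom)))
  rw [hcomp]
  exact hC.comp hG₃ hG₄ (IsAlgSpace.yon_obj W) _ _ ht'
    (hC.comp hG₄ R.property (IsAlgSpace.yon_obj W) _ _ hc' (locP_mono hsm _ hπ₂))

end core

set_option maxHeartbeats 1000000 in
/-- properties of charts are detected by the presheaf of isomorphism classes -/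
theorem repWith_of_rel {P : MorphismProperty Scheme.{u}} (hP : EtST P) (hC : Cls (LocP (S := S) P))
    (hsm : ∀ ⦃A B : Scheme.{u}⦄ (f : A ⟶ B), Smooth f → P f) (hret : RetrClosed P)
    (h𝒳 : AS 𝒳) (h𝒴 : AS 𝒴) {φ : IsoNat.FIso 𝒳 𝒴} {U : Over S} {x : FibCat.overCat U ⥤ᵇ 𝒳}
    {y : FibCat.overCat U ⥤ᵇ 𝒴} (hxy : Rel φ x y) (hx : RepByAlgSpWith (LocP P) x) :
    RepByAlgSpWith (LocP P) y := by
  have g𝒳 := h𝒳.isStack.1
  have g𝒴 := h𝒴.isStack.1
  obtain ⟨W, w, hw, hw'⟩ := h𝒴.atlas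
  obtain ⟨w', hww⟩ := Rel.exists_left g𝒳 φ w
  let y₀ := BasedFunctor.comp (toOverCat U) y
  let f := BasedFunctor.comp (toOverCat W) w
  have hy₁ : RepByAlgSp1 y₀ := repByAlgSp1_point g𝒴 h𝒴.diag (isAlgSpaceP_yon U) y₀
  have hf : RepByAlgSpWith (LocP @Smooth) f := (repWith_overCat_iff _ W w).1 hw
  have hf' : RepByAlgSpWith AlgSp.IsSurjectiveMor f := (repWith_overCat_iff _ W w).1 hw'
  have gW := isFibGrpd_ofSpace (S := S) ((pyon S).obj W)
  obtain ⟨G, a, e, he, ha, -⟩ := exists_model_space cls_smooth.bc cls_smooth.loc gW g𝒴 hf (spOf U) y₀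
  let πW : G.obj ⟶ (yon S).obj W := ObjectProperty.homMk (mapOf (BasedFunctor.comp e (FibCat.fpSnd y₀ f)))
  obtain ⟨Q, d, hde, hds⟩ := G.property.atlas
  obtain ⟨α, hα, ⟨iα⟩⟩ := exists_map_of_chart d (BasedFunctor.comp (BasedFunctor.comp e (FibCat.fpFst y₀ f))
    (toOverCat U))
  obtain ⟨β, hβ, ⟨iβ⟩⟩ := exists_map_of_chart d (BasedFunctor.comp (BasedFunctor.comp e (FibCat.fpSnd y₀ f))
    (toOverCat W))
  have hα' : (yon S).map α = d ≫ a.hom := by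
    rw [hα]
    refine congrArg (d ≫ ·) (ObjectProperty.hom_ext _ ?_)
    rw [spMapOfOver_hom, ha]
    rfl
  have hβ' : (yon S).map β = d ≫ πW := by
    rw [hβ]
    refine congrArg (d ≫ ·) (ObjectProperty.hom_ext _ ?_)
    rw [spMapOfOver_hom]
    rfl
  let C := BasedFunctor.comp (ofOverCat Q) (Stk.ofPshMap d.hom)
  have i₀ : BasedFunctor.comp (AlgSt.overMap β) w ≅ BasedFunctor.comp (AlgSt.overMap α) y :=
    ((post _ w).mapIso iβ).symm ≪≫ (Stk.restr (BasedFunctor.comp C e) 𝒴).mapIso (FibCat.fpIso y₀ f).symm ≪≫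
      (post _ y).mapIso iα
  obtain ⟨W₁, r, c, hc, hrc, hlift⟩ := exists_chart_lift hP x w' hx
  obtain ⟨Q', q, σ, hqe, hqs, hσr, -⟩ := hlift Q α β
    (Rel.nonempty_iso_symm g𝒳 g𝒴 (hww.overMap g𝒴 β) (hxy.overMap g𝒴 α) ⟨i₀⟩)
  obtain ⟨i₁⟩ := Rel.nonempty_iso g𝒴 (hww.overMap g𝒴 c) (hxy.overMap g𝒴 r) hrc
  have hW : LocP P πW := locP_of_retraction hP hret G.property a.hom πW r d α β q σ hde hds hqe hqs hα' hβ' hσr
    (locP_fst_comp hC hP hsm g𝒴 hf a.hom he ha πW rfl r c hc ((Stk.restr (toOverCat W₁) _).mapIso i₁))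
  refine (repWith_overCat_iff _ U y).2 ?_
  refine repWith_of_lifts hC.bc hC.loc hy₁
    (lifts_of_fppf (repWith_flat_of_smooth hf) (repWith_lfp_of_smooth hf) hf')
    (repWith_fpFst_of_model hC.bc (w := f) (W := spOf W) (V := G) (a := (ObjectProperty.homMk πW : G ⟶ spOf W))
      (e := BasedFunctor.comp e (swapFun y₀ f)) (isEquivOver_comp he (isEquivOver_swapFun y₀ f))
      (mapOfIso _).symm hW)

theorem repWith_lfp_of_rel (h𝒳 : AS 𝒳) (h𝒴 : AS 𝒴) {φ : IsoNat.FIso 𝒳 𝒴} {U : Over S}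
    {x : FibCat.overCat U ⥤ᵇ 𝒳} {y : FibCat.overCat U ⥤ᵇ 𝒴} (hxy : Rel φ x y)
    (hx : RepByAlgSpWith (LocP @LocallyOfFinitePresentation) x) :
    RepByAlgSpWith (LocP @LocallyOfFinitePresentation) y :=
  repWith_of_rel etST_lfp cls_lfp (fun _ _ _ _ => inferInstance) retrClosed_lfp h𝒳 h𝒴 hxy hx

theorem repWith_smooth_of_rel (h𝒳 : AS 𝒳) (h𝒴 : AS 𝒴) {φ : IsoNat.FIso 𝒳 𝒴} {U : Over S}
    {x : FibCat.overCat U ⥤ᵇ 𝒳} {y : FibCat.overCat U ⥤ᵇ 𝒴} (hxy : Rel φ x y)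
    (hx : RepByAlgSpWith (LocP @Smooth) x) : RepByAlgSpWith (LocP @Smooth) y :=
  repWith_of_rel etST_smooth cls_smooth (fun _ _ _ h => h) retrClosed_smooth h𝒳 h𝒴 hxy hx

/-- the inverse isomorphism -/
def symmFIso (h𝒳 : FibCat.IsFibGrpd 𝒳.p) (h𝒴 : FibCat.IsFibGrpd 𝒴.p) (φ : IsoNat.FIso 𝒳 𝒴) : IsoNat.FIso 𝒴 𝒳 where
  toEquiv T := (φ.toEquiv T).symm
  natural {T' T} g y' y b hb := by
    obtain ⟨x, hx⟩ := Quotient.exists_rep ((φ.toEquiv T).symm (IsoNat.cls y))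
    obtain ⟨x₁, a, hx₁, ha⟩ := exists_lift h𝒳 (g ≫ eqToHom x.2.symm)
    haveI hal : 𝒳.p.IsHomLift g a := IsHomLift.of_fac' _ _ _ hx₁ x.2 (by rw [ha])
    obtain ⟨z', z, c, hc, hz', hz⟩ := φ.natural g ⟨x₁, hx₁⟩ x a hal
    have hzy : IsoNat.cls z = IsoNat.cls y := by
      rw [← hz]
      exact (congrArg (φ.toEquiv T) hx).trans ((φ.toEquiv T).apply_symm_apply _)
    obtain ⟨e⟩ := Quotient.exact hzy
    haveI := e.hom.2
    haveI := hc
    have hce : 𝒴.p.IsHomLift g (c ≫ e.hom.1) := inferInstance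
    obtain ⟨χ, ⟨hχ, -⟩, -⟩ := existsUnique_cart h𝒴 b (c ≫ e.hom.1) (eqToHom (z'.2.trans y'.2.symm)) (by
      rw [IsHomLift.fac' 𝒴.p g b, IsHomLift.fac' 𝒴.p g (c ≫ e.hom.1)]
      simp)
    refine ⟨⟨x₁, hx₁⟩, x, a, hal, ?_, hx.symm⟩
    rw [← cls_eq_of_vertical h𝒴 z' y' χ hχ, ← hz']
    exact (φ.toEquiv T').symm_apply_apply _

theorem Rel.symm (h𝒳 : FibCat.IsFibGrpd 𝒳.p) (h𝒴 : FibCat.IsFibGrpd 𝒴.p) {φ : IsoNat.FIso 𝒳 𝒴} {U : Over S}
    {x : FibCat.overCat U ⥤ᵇ 𝒳} {y : FibCat.overCat U ⥤ᵇ 𝒴} (h : Rel φ x y) : Rel (symmFIso h𝒳 h𝒴 φ) y x :=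
  (φ.toEquiv U).symm_apply_eq.2 (Eq.symm h)

theorem repWith_surjective_of_rel (h𝒳 : AS 𝒳) (h𝒴 : AS 𝒴) {φ : IsoNat.FIso 𝒳 𝒴} {U : Over S}
    {x : FibCat.overCat U ⥤ᵇ 𝒳} {y : FibCat.overCat U ⥤ᵇ 𝒴} (hxy : Rel φ x y)
    (hx : AlgSt.RepByAlgSpWith AlgSp.IsSurjectiveMor x) : AlgSt.RepByAlgSpWith AlgSp.IsSurjectiveMor y := by
  have g𝒳 := h𝒳.isStack.1
  have g𝒴 := h𝒴.isStack.1
  refine repWith_surjective_of_isSurjective (isFibGrpd_overCat U) g𝒴
    ((repByAlgSp1_overCat_iff U y).2 (repByAlgSp1_point g𝒴 h𝒴.diag (isAlgSpaceP_yon U) _)) fun p => ?_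
  obtain ⟨V, v, t, rfl⟩ := exists_ofChart g𝒴 p
  obtain ⟨v', hv⟩ := Rel.exists_left g𝒳 φ v
  obtain ⟨s, hs⟩ := exists_point_of_surjective g𝒳 x hx (AlgSt.Points.ofChart v' t)
  obtain ⟨K, α, β, κ, i, rfl, rfl⟩ := exists_common_point g𝒳 hs
  obtain ⟨j⟩ := Rel.nonempty_iso g𝒴 (hxy.overMap g𝒴 α) (hv.overMap g𝒴 β) i
  refine ⟨AlgSt.Points.ofChart (BasedFunctor.id _) (α.left κ), ?_⟩
  rw [map_ofChart, show BasedFunctor.comp (BasedFunctor.id (FibCat.overCat U)) y = y from rfl,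
    ← ofChart_overMap, ← ofChart_overMap]
  exact ofChart_congr j κ

/-- the transfer of a property read on a square of smooth charts -/
theorem locQ_transport {𝒳' 𝒴' : AlgSt.Cat S} (h𝒳 : AS 𝒳) (h𝒴 : AS 𝒴) (h𝒳' : AS 𝒳') (h𝒴' : AS 𝒴')
    {f : 𝒳 ⥤ᵇ 𝒴} {f' : 𝒳' ⥤ᵇ 𝒴'} (φ : IsoNat.FIsoSq f f') {P : MorphismProperty (AlgSp.Sp S)}
    (h : AlgSt.LocQ P f) : AlgSt.LocQ P f' := by
  obtain ⟨U, V, x, y, a, i, hx, hxs, hy, ha⟩ := h
  obtain ⟨x', hxx⟩ := Rel.exists_right h𝒳'.isStack.1 φ.src x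
  obtain ⟨y', hyy⟩ := Rel.exists_right h𝒴'.isStack.1 φ.tgt y
  obtain ⟨i'⟩ := Rel.nonempty_iso h𝒴'.isStack.1 (Rel.comp φ hxx) (hyy.overMap h𝒴'.isStack.1 a) ⟨i⟩
  have hxs' : AlgSt.RepByAlgSpWith AlgSp.IsSurjectiveMor x' :=
    repWith_surjective_of_rel h𝒳 h𝒳' hxx hxs
  exact ⟨U, V, x', y', a, i', repWith_smooth_of_rel h𝒳 h𝒳' hxx hx, hxs', repWith_smooth_of_rel h𝒴 h𝒴' hyy hy, ha⟩

/-- the transfer of a property read on smooth charts -/
theorem smoothLocally_transport (h𝒳 : AS 𝒳) (h𝒴 : AS 𝒴) (φ : IsoNat.FIso 𝒳 𝒴) {P : Scheme.{u} → Prop}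
    (h : AlgSt.SmoothLocally P 𝒳) : AlgSt.SmoothLocally P 𝒴 := fun U y hy => by
  obtain ⟨x, hxy⟩ := Rel.exists_left h𝒳.isStack.1 φ y
  exact h U x (repWith_smooth_of_rel h𝒴 h𝒳 (Rel.symm h𝒳.isStack.1 h𝒴.isStack.1 hxy) hy)

end Groth.Agent.IsoNatLib

end
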