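import Groth.Agent.IsoNatLib.RigidPairs
import Groth.Agent.IsoNatLib.ChartDetect
import Groth.Prelude.Def_CInt
import Mathlib.AlgebraicGeometry.Morphisms.ClosedImmersion

/-!
# Bald stacks are determined by their isomorphism classes
-/

set_option autoImplicit false
set_option backward.isDefEq.respectTransparency false
set_option backward.isDefEq.respectTransparency.types false
set_option linter.style.haveILetI false
set_option maxHeartbeats 1000000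
universe u

noncomputable section

namespace Groth.Agent.IsoNatLib.BaldIso

open CategoryTheory CategoryTheory.Limits AlgebraicGeometry Opposite Groth.Agent.FibCatRep
  Groth.Agent.IsoNatLib.AtlasTransfer Groth.Agent.IsoNatLib.RigidPairs
open Groth.Agent.AlgStLib (nonempty_iso_of_top)

variable {S : Scheme.{u}} {U : Over S} {𝒳 𝒴 : AlgSt.Cat S}

/-- two charts with the same pairs on smooth charts, those of the second being rigid -/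
structure Hyp (x : FibCat.overCat U ⥤ᵇ 𝒳) (y : FibCat.overCat U ⥤ᵇ 𝒴) : Prop where
  hX : Stk.IsStack (Jf S) 𝒳
  hY : Stk.IsStack (Jf S) 𝒴
  ex : ∀ {W : Over S} {a b : W ⟶ U}, Ve x a b → Nonempty (Ve y a b)
  rig : ∀ {W : Over S} {a b : W ⟶ U}, Sm x a → ∀ σ σ' : Ve y a b, σ = σ'

variable {x : FibCat.overCat U ⥤ᵇ 𝒳} {y : FibCat.overCat U ⥤ᵇ 𝒴}

lemma res2 {hg : FibCat.IsFibGrpd 𝒳.p} {W W₁ W₂ W' : Over S} {a b : W ⟶ U} {a₁ b₁ : W₁ ⟶ U} {a₂ b₂ : W₂ ⟶ U}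
    {a' b' : W' ⟶ U} (ρ : Ve x a b) {k : W₁ ⟶ W} {k' : W₂ ⟶ W} {f : W' ⟶ W₁} {f' : W' ⟶ W₂}
    (e : f ≫ k = f' ≫ k') (ha : k ≫ a = a₁) (hb : k ≫ b = b₁) (ha₂ : k' ≫ a = a₂) (hb₂ : k' ≫ b = b₂)
    (hfa : f ≫ a₁ = a') (hfb : f ≫ b₁ = b') (hfa' : f' ≫ a₂ = a') (hfb' : f' ≫ b₂ = b') :
    (ρ.res hg k ha hb).res hg f hfa hfb = (ρ.res hg k' ha₂ hb₂).res hg f' hfa' hfb' := by
  rw [Ve.res_res, Ve.res_res]
  exact Ve.res_congr hg ρ e _ _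

variable (H : Hyp x y) (P : Pres x H.hX) (σ₀ : Ve y P.v P.w)

/-- corresponding pairs -/
def Match {A : Over S} {c d : A ⟶ U} (τ : Ve x c d) (σ : Ve y c d) : Prop :=
  ∀ ⦃W : Over S⦄ ⦃a b : W ⟶ U⦄ (k : W ⟶ A) (l : W ⟶ P.C) (ha : k ≫ c = a) (hb : k ≫ d = b) (ha' : l ≫ P.v = a)
    (hb' : l ≫ P.w = b), P.ρ₀.res H.hX.1 l ha' hb' = τ.res H.hX.1 k ha hb →
      σ₀.res H.hY.1 l ha' hb' = σ.res H.hY.1 k ha hb

variable {H P σ₀}

/-- on smooth charts all pairs correspond -/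
theorem match_of_sm {A : Over S} {c d : A ⟶ U} (hc : Sm x c) (τ : Ve x c d) (σ : Ve y c d) : Match H P σ₀ τ σ := by
  intro W a b k l ha hb ha' hb' he
  obtain ⟨D, m, m', h₁, h₂, hm, -, hlift⟩ := P.join τ
  have key : σ₀.res H.hY.1 m' h₁ h₂ = σ.res H.hY.1 m rfl rfl := H.rig (sm_comp x hc m hm) _ _
  obtain ⟨R, hR, hRn⟩ := hlift k l ha hb ha' hb' he
  refine Ve.ext_local H.hY hR fun W' f hf => ?_
  obtain ⟨n, hn, hn'⟩ := hRn f hf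
  have ea : n ≫ m ≫ c = f ≫ a := by rw [← ha, ← Category.assoc, hn, Category.assoc]
  have eb : n ≫ m ≫ d = f ≫ b := by rw [← hb, ← Category.assoc, hn, Category.assoc]
  calc (σ₀.res H.hY.1 l ha' hb').res H.hY.1 f rfl rfl
      = (σ₀.res H.hY.1 m' h₁ h₂).res H.hY.1 n ea eb := res2 σ₀ hn'.symm _ _ _ _ _ _ _ _
    _ = (σ.res H.hY.1 m rfl rfl).res H.hY.1 n ea eb := by rw [key]
    _ = _ := res2 σ hn _ _ _ _ _ _ _ _

theorem Match.unique {A : Over S} {c d : A ⟶ U} {τ : Ve x c d} {σ σ' : Ve y c d} (h : Match H P σ₀ τ σ)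
    (h' : Match H P σ₀ τ σ') : σ = σ' := by
  obtain ⟨R, hR, hRk⟩ := P.cover τ
  refine Ve.ext_local H.hY hR fun W k hk => ?_
  obtain ⟨l, h₁, h₂, e⟩ := hRk k hk
  exact (h k l rfl rfl h₁ h₂ e).symm.trans (h' k l rfl rfl h₁ h₂ e)

theorem Match.res {A B : Over S} {c d : A ⟶ U} {τ : Ve x c d} {σ : Ve y c d} (h : Match H P σ₀ τ σ) (g : B ⟶ A)
    {c' d' : B ⟶ U} (hc : g ≫ c = c') (hd : g ≫ d = d') :
    Match H P σ₀ (τ.res H.hX.1 g hc hd) (σ.res H.hY.1 g hc hd) := by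
  intro W a b k l ha hb ha' hb' he
  rw [Ve.res_res] at he ⊢
  exact h _ l _ _ ha' hb' he

/-- every pair has a corresponding one -/
theorem exists_match {A : Over S} {c d : A ⟶ U} (τ : Ve x c d) : ∃ σ : Ve y c d, Match H P σ₀ τ σ := by
  have hg := H.hX.1
  have hg' := H.hY.1
  let R : Sieve A :=
    { arrows := fun W k => ∃ (l : W ⟶ P.C) (h₁ : l ≫ P.v = k ≫ c) (h₂ : l ≫ P.w = k ≫ d),
        P.ρ₀.res hg l h₁ h₂ = τ.res hg k rfl rfl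
      downward_closed := by
        rintro W W' k ⟨l, h₁, h₂, e⟩ f
        refine ⟨f ≫ l, by rw [Category.assoc, h₁, Category.assoc], by rw [Category.assoc, h₂, Category.assoc], ?_⟩
        have e' := congrArg (fun t => Ve.res hg t f (Category.assoc f k c).symm (Category.assoc f k d).symm) e
        beta_reduce at e'
        rw [Ve.res_res, Ve.res_res] at e'
        exact e' }
  have hR : R ∈ Jf S A := by
    obtain ⟨R', hR', h⟩ := P.cover τ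
    exact (Jf S).superset_covering (fun _ k hk => h k hk) hR'
  choose l h₁ h₂ hl using fun (W : Over S) (k : W ⟶ A) (hk : R k) =>
    (hk : ∃ (l : W ⟶ P.C) (h₁ : l ≫ P.v = k ≫ c) (h₂ : l ≫ P.w = k ≫ d),
      P.ρ₀.res hg l h₁ h₂ = τ.res hg k rfl rfl)
  have key : Match H P σ₀ P.ρ₀ σ₀ := match_of_sm P.sm P.ρ₀ σ₀
  obtain ⟨σ, hσ⟩ := Ve.exists_glue H.hY hR (fun W k hk => σ₀.res hg' (l W k hk) (h₁ W k hk) (h₂ W k hk))
    (fun W' W f k hk h => by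
      rw [Ve.res_res]
      refine (key _ _ _ _ _ _ ?_).symm
      rw [hl W' (f ≫ k) h]
      have e' := congrArg (fun t => Ve.res hg t f (Category.assoc f k c).symm (Category.assoc f k d).symm) (hl W k hk)
      beta_reduce at e'
      rw [Ve.res_res, Ve.res_res] at e'
      exact e'.symm)
  refine ⟨σ, fun W a b k l' ha hb ha' hb' he => ?_⟩
  refine Ve.ext_local H.hY ((Jf S).pullback_stable k hR) fun W' f hf => ?_
  have hs := hσ (f ≫ k) hf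
  have ea : (f ≫ k) ≫ c = f ≫ a := by rw [Category.assoc, ha]
  have eb : (f ≫ k) ≫ d = f ≫ b := by rw [Category.assoc, hb]
  have e₁ : P.ρ₀.res hg (f ≫ l') (show (f ≫ l') ≫ P.v = (f ≫ k) ≫ c by rw [Category.assoc, ha', ea])
      (show (f ≫ l') ≫ P.w = (f ≫ k) ≫ d by rw [Category.assoc, hb', eb]) = τ.res hg (f ≫ k) rfl rfl := by
    have e' := congrArg (fun t => Ve.res hg t f ea.symm eb.symm) he
    beta_reduce at e'
    rw [Ve.res_res, Ve.res_res] at e'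
    exact e'
  have e₂ := key (f ≫ l') (l W' (f ≫ k) hf) _ _ (h₁ W' _ hf) (h₂ W' _ hf) ((hl W' _ hf).trans e₁.symm)
  have e₃ := congrArg (fun t => Ve.res hg' t (𝟙 W') (a' := f ≫ a) (b' := f ≫ b)
    (by rw [Category.id_comp, ea]) (by rw [Category.id_comp, eb])) (e₂.symm.trans hs.symm)
  beta_reduce at e₃
  simp only [Ve.res_res] at e₃ ⊢
  exact ((Ve.res_congr hg' σ₀ (Category.id_comp _).symm _ _).trans e₃).trans
    (Ve.res_congr hg' σ (Category.id_comp _) _ _)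

theorem Match.mul {A : Over S} {a b c : A ⟶ U} {ρ : Ve x a b} {σ : Ve y a b} {ρ' : Ve x b c} {σ' : Ve y b c}
    (h : Match H P σ₀ ρ σ) (h' : Match H P σ₀ ρ' σ') : Match H P σ₀ (ρ.mul ρ') (σ.mul σ') := by
  have hg := H.hX.1
  have hg' := H.hY.1
  obtain ⟨D, m, m', hm, ⟨M, hM⟩, hlift⟩ :=
    exists_join (AlgStLib.isAlgStack_overCat U) (AlgSt.overMap P.w) (AlgSt.overMap P.v) P.hv
  have hmid : m ≫ P.w = m' ≫ P.v := by
    have e := Over.w M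
    rw [show M.left = eqToHom rfl from hM] at e
    exact e.symm.trans (Category.id_comp _)
  let τ : Ve x (m ≫ P.v) (m' ≫ P.w) := (P.ρ₀.res hg m rfl rfl).mul (P.ρ₀.res hg m' hmid.symm rfl)
  let η : Ve y (m ≫ P.v) (m' ≫ P.w) := (σ₀.res hg' m rfl rfl).mul (σ₀.res hg' m' hmid.symm rfl)
  have hτ : Match H P σ₀ τ η := match_of_sm (sm_comp x P.sm m hm) τ η
  intro W e₁ e₂ k l ha hc ha' hc' he
  obtain ⟨R, hR, hRk⟩ := P.cover (ρ.res hg k ha (rfl : k ≫ b = k ≫ b))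
  refine Ve.ext_local H.hY hR fun W₁ f hf => ?_
  obtain ⟨l₁, p₁, q₁, el₁⟩ := hRk f hf
  obtain ⟨R', hR', hRk'⟩ := P.cover ((ρ'.res hg k (rfl : k ≫ b = k ≫ b) hc).res hg f rfl rfl)
  refine Ve.ext_local H.hY hR' fun W₂ f' hf' => ?_
  obtain ⟨l₂, p₂, q₂, el₂⟩ := hRk' f' hf'
  have hw : (f' ≫ l₁) ≫ P.w = l₂ ≫ P.v := by rw [Category.assoc, q₁, p₂]
  obtain ⟨R'', hR'', hn⟩ := hlift (f' ≫ l₁) l₂ (Over.homMk (𝟙 W₂) ((Category.id_comp _).trans hw.symm)) rfl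
  refine Ve.ext_local H.hY hR'' fun W₃ f'' hf'' => ?_
  obtain ⟨n, hn₁, hn₂⟩ := hn f'' hf''
  simp only [Ve.res_res]
  -- the composite is presented by the point of the double chart
  have A₁ : n ≫ m ≫ P.v = f'' ≫ f' ≫ f ≫ e₁ := by
    rw [← Category.assoc n, hn₁, Category.assoc, Category.assoc, p₁]
  have A₂ : n ≫ m ≫ P.w = f'' ≫ f' ≫ f ≫ k ≫ b := by
    rw [← Category.assoc n, hn₁, Category.assoc, Category.assoc, q₁]
  have A₃ : n ≫ m' ≫ P.w = f'' ≫ f' ≫ f ≫ e₂ := by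
    rw [← Category.assoc n, hn₂, Category.assoc, q₂]
  let F := f'' ≫ f' ≫ f
  have G₁ : (F ≫ k) ≫ a = f'' ≫ f' ≫ f ≫ e₁ := by simp only [F, Category.assoc, ha]
  have G₂ : (F ≫ k) ≫ b = f'' ≫ f' ≫ f ≫ k ≫ b := by simp only [F, Category.assoc]
  have G₃ : (F ≫ k) ≫ c = f'' ≫ f' ≫ f ≫ e₂ := by simp only [F, Category.assoc, hc]
  have x₁ : P.ρ₀.res hg (n ≫ m) (by rw [Category.assoc]; exact A₁) (by rw [Category.assoc]; exact A₂) =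
      ρ.res hg (F ≫ k) G₁ G₂ := by
    have e := congrArg (fun t => Ve.res hg t (f'' ≫ f') (Category.assoc f'' f' (f ≫ e₁))
      (Category.assoc f'' f' (f ≫ k ≫ b))) el₁
    beta_reduce at e
    simp only [Ve.res_res] at e
    exact (Ve.res_congr hg _ (hn₁.trans (Category.assoc _ _ _).symm) _ _).trans
      (e.trans (Ve.res_congr hg _ (show ((f'' ≫ f') ≫ f) ≫ k = F ≫ k by simp [F]) _ _))
  have x₂ : P.ρ₀.res hg (n ≫ m') (by rw [Category.assoc, ← hmid]; exact A₂) (by rw [Category.assoc]; exact A₃) =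
      ρ'.res hg (F ≫ k) G₂ G₃ := by
    have e := congrArg (fun t => Ve.res hg t f'' rfl rfl) el₂
    beta_reduce at e
    simp only [Ve.res_res] at e
    exact (Ve.res_congr hg _ hn₂ _ _).trans
      (e.trans (Ve.res_congr hg _ (show (f'' ≫ f' ≫ f) ≫ k = F ≫ k from rfl) _ _))
  have y₁ : σ₀.res hg' (n ≫ m) (by rw [Category.assoc]; exact A₁) (by rw [Category.assoc]; exact A₂) =
      σ.res hg' (F ≫ k) G₁ G₂ := h (F ≫ k) (n ≫ m) _ _ _ _ x₁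
  have y₂ : σ₀.res hg' (n ≫ m') (by rw [Category.assoc, ← hmid]; exact A₂) (by rw [Category.assoc]; exact A₃) =
      σ'.res hg' (F ≫ k) G₂ G₃ := h' (F ≫ k) (n ≫ m') _ _ _ _ x₂
  have xη : P.ρ₀.res hg (F ≫ l) (by simp only [F, Category.assoc, ha']) (by simp only [F, Category.assoc, hc']) =
      τ.res hg n A₁ A₃ := by
    have e := congrArg (fun t => Ve.res hg t F (a' := f'' ≫ f' ≫ f ≫ e₁) (b' := f'' ≫ f' ≫ f ≫ e₂)
      (by simp [F]) (by simp [F])) he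
    beta_reduce at e
    simp only [Ve.res_res] at e
    rw [e, Ve.res_mul hg ρ ρ' (F ≫ k) G₁ G₂ G₃, Ve.res_mul hg _ _ n A₁ A₂ A₃, Ve.res_res, Ve.res_res, x₁, x₂]
  have yη := hτ n (F ≫ l) A₁ A₃ _ _ xη
  rw [Ve.res_mul hg' _ _ n A₁ A₂ A₃, Ve.res_res, Ve.res_res, y₁, y₂, ← Ve.res_mul hg' σ σ' (F ≫ k) G₁ G₂ G₃] at yη
  exact (Ve.res_congr hg' _ (show ((f'' ≫ f') ≫ f) ≫ l = F ≫ l by simp [F]) _ _).trans
    (yη.trans (Ve.res_congr hg' _ (show F ≫ k = ((f'' ≫ f') ≫ f) ≫ k by simp [F]) _ _))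

variable (H P σ₀)

/-- the corresponding pair -/
def θ {A : Over S} {c d : A ⟶ U} (τ : Ve x c d) : Ve y c d :=
  (exists_match (H := H) (P := P) (σ₀ := σ₀) τ).choose

lemma θ_spec {A : Over S} {c d : A ⟶ U} (τ : Ve x c d) : Match H P σ₀ τ (θ H P σ₀ τ) :=
  (exists_match (H := H) (P := P) (σ₀ := σ₀) τ).choose_spec

lemma θ_res {A B : Over S} {c d : A ⟶ U} (τ : Ve x c d) (g : B ⟶ A) {c' d' : B ⟶ U} (hc : g ≫ c = c')
    (hd : g ≫ d = d') : θ H P σ₀ (τ.res H.hX.1 g hc hd) = (θ H P σ₀ τ).res H.hY.1 g hc hd :=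
  (θ_spec H P σ₀ _).unique ((θ_spec H P σ₀ τ).res g hc hd)

lemma θ_mul {A : Over S} {a b c : A ⟶ U} (ρ : Ve x a b) (ρ' : Ve x b c) :
    θ H P σ₀ (ρ.mul ρ') = (θ H P σ₀ ρ).mul (θ H P σ₀ ρ') :=
  (θ_spec H P σ₀ _).unique ((θ_spec H P σ₀ ρ).mul (θ_spec H P σ₀ ρ'))

variable {H P σ₀} (H' : Hyp y x) (P' : Pres y H'.hX) (τ₀ : Ve x P'.v P'.w)

/-- the two correspondences are inverse to each other -/
theorem θ_θ {A : Over S} {c d : A ⟶ U} (τ : Ve x c d) (hP : Sm y P.v) :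
    θ H' P' τ₀ (θ H P σ₀ τ) = τ := by
  obtain ⟨R, hR, hRk⟩ := P.cover τ
  refine Ve.ext_local H.hX hR fun W k hk => ?_
  obtain ⟨l, h₁, h₂, e⟩ := hRk k hk
  have e' := θ_spec H P σ₀ τ k l rfl rfl h₁ h₂ e
  have e'' : θ H' P' τ₀ ((θ H P σ₀ τ).res H.hY.1 k rfl rfl) = P.ρ₀.res H.hX.1 l h₁ h₂ := by
    rw [← e', θ_res H' P' τ₀ σ₀ l h₁ h₂, H'.rig hP (θ H' P' τ₀ σ₀) P.ρ₀]
  rw [← e, ← e'', θ_res H' P' τ₀]

/-! ### transfer of all morphisms between values -/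

section transfer

variable {W W' : Over S} {a : W ⟶ U} {b : W' ⟶ U}

lemma exists_ve (hg : FibCat.IsFibGrpd 𝒳.p) (M : Xo x a ⟶ Xo x b) :
    ∃ ρ : Ve x a (bh x M ≫ b), ρ.1 ≫ Xk x (bh x M) rfl = M := by
  obtain ⟨ρ, ⟨hρ, hρ'⟩, -⟩ := existsUnique_factor (a := a) (b := bh x M ≫ b) x hg M
    (Xk x (bh x M) rfl : Xo x (bh x M ≫ b) ⟶ Xo x b) (𝟙 W) (by
      rw [Category.id_comp]
      simp only [bo]
      rw [map_bh x M, map_bh x (Xk x (bh x M) rfl), bh_Xk]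
      simp)
  exact ⟨⟨ρ, hρ⟩, hρ'⟩

variable (H P σ₀)

/-- transfer of a morphism -/
def Φ (M : Xo x a ⟶ Xo x b) : Xo y a ⟶ Xo y b :=
  (θ H P σ₀ (exists_ve H.hX.1 M).choose).1 ≫ Xk y (bh x M) rfl

lemma Φ_eq {a' : W ⟶ U} (ρ : Ve x a a') (g : W ⟶ W') (h : g ≫ b = a') :
    Φ H P σ₀ (ρ.1 ≫ Xk x g h : Xo x a ⟶ Xo x b) = (θ H P σ₀ ρ).1 ≫ Xk y g h := by
  have hb : bh x (ρ.1 ≫ Xk x g h : Xo x a ⟶ Xo x b) = g := by rw [bh_comp, ρ.2, bh_Xk, Category.id_comp]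
  obtain ⟨σ, hσ, he⟩ : ∃ σ : Ve x a (bh x (ρ.1 ≫ Xk x g h : Xo x a ⟶ Xo x b) ≫ b),
      σ.1 ≫ Xk x _ rfl = ρ.1 ≫ Xk x g h ∧ Φ H P σ₀ (ρ.1 ≫ Xk x g h : Xo x a ⟶ Xo x b) = (θ H P σ₀ σ).1 ≫ Xk y _ rfl :=
    ⟨_, (exists_ve H.hX.1 _).choose_spec, rfl⟩
  rw [he]
  clear he
  generalize bh x (ρ.1 ≫ Xk x g h : Xo x a ⟶ Xo x b) = g' at hb σ hσ ⊢
  subst hb h
  have e : σ = ρ := Subtype.ext (cancel H.hX.1 (Xk x g' rfl) (by rw [map_bh x σ.1, map_bh x ρ.1, σ.2, ρ.2]) hσ)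
  rw [e]

lemma bh_Φ (M : Xo x a ⟶ Xo x b) : bh y (Φ H P σ₀ M) = bh x M := by
  rw [Φ, bh_comp, bh_Xk, (θ H P σ₀ _).2, Category.id_comp]

lemma Φ_comp {W'' : Over S} {c : W'' ⟶ U} (M : Xo x a ⟶ Xo x b) (M' : Xo x b ⟶ Xo x c) :
    Φ H P σ₀ (M ≫ M') = Φ H P σ₀ M ≫ Φ H P σ₀ M' := by
  obtain ⟨ρ, hρ⟩ := exists_ve H.hX.1 M
  obtain ⟨ρ', hρ'⟩ := exists_ve H.hX.1 M'
  generalize bh x M = g at ρ hρ
  generalize bh x M' = g' at ρ' hρ'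
  have hc : g ≫ g' ≫ c = (g ≫ g') ≫ c := (Category.assoc _ _ _).symm
  let ρg := ρ'.res H.hX.1 g rfl hc
  have e : M ≫ M' = (ρ.mul ρg).1 ≫ Xk x (g ≫ g') rfl := by
    rw [← hρ, ← hρ', ← Xk_comp x g g' hc rfl rfl]
    show _ = (ρ.1 ≫ ρg.1) ≫ _
    simp only [Category.assoc]
    rw [← Category.assoc (Xk x g rfl) ρ'.1, ← Ve.res_spec H.hX.1 ρ' g rfl hc, Category.assoc]
  rw [e, Φ_eq, θ_mul, θ_res]
  conv_rhs => rw [← hρ, ← hρ', Φ_eq, Φ_eq]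
  show ((θ H P σ₀ ρ).1 ≫ _) ≫ _ = _
  rw [← Xk_comp y g g' hc rfl rfl]
  simp only [Category.assoc]
  rw [← Category.assoc (Ve.res _ _ _ _ _).1, Ve.res_spec, Category.assoc]

variable {H P σ₀}

include P' in
lemma Φ_Φ (hP : Sm y P.v) (M : Xo x a ⟶ Xo x b) : Φ H' P' τ₀ (Φ H P σ₀ M) = M := by
  obtain ⟨ρ, hρ⟩ := exists_ve H.hX.1 M
  generalize bh x M = g at ρ hρ
  rw [← hρ, Φ_eq, Φ_eq, θ_θ H' P' τ₀ ρ hP]

end transfer

/-- charts with the same rigid pairs on smooth charts have the same morphisms between values -/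
theorem exists_tr (H : Hyp x y) (H' : Hyp y x) (h𝒳 : AlgSt.IsAlgStack Scheme.fppfPrecoverage 𝒳)
    (h𝒴 : AlgSt.IsAlgStack Scheme.fppfPrecoverage 𝒴)
    (hx : AlgSt.RepByAlgSpWith (AlgSp.LocP @Smooth) x) (hy : AlgSt.RepByAlgSpWith (AlgSp.LocP @Smooth) y)
    (hsm : ∀ {W : Over S} (a : W ⟶ U), Sm x a ↔ Sm y a) : Nonempty (Tr x y) := by
  obtain ⟨P⟩ := exists_pres h𝒳 hx
  obtain ⟨P'⟩ := exists_pres h𝒴 hy
  obtain ⟨σ₀⟩ := H.ex P.ρ₀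
  obtain ⟨τ₀⟩ := H'.ex P'.ρ₀
  exact ⟨{ E := fun a b =>
            { toFun := Φ H P σ₀
              invFun := Φ H' P' τ₀
              left_inv := Φ_Φ H' P' τ₀ ((hsm _).1 P.sm)
              right_inv := Φ_Φ H P σ₀ ((hsm _).2 P'.sm) }
           base := bh_Φ H P σ₀
           comp := Φ_comp H P σ₀ }⟩

/-! ### bald stacks -/

/-- the clean locus of every smooth chart is schematically dense -/
def Bald (𝒳 : AlgSt.Cat S) : Prop :=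
  ∀ (U : Over S) (x : FibCat.overCat U ⥤ᵇ 𝒳), AlgSt.RepByAlgSpWith (AlgSp.LocP @Smooth) x →
    ∃ V : U.left.Opens,
      (∀ (T : Over S) (g : T ⟶ U), (∃ g' : T.left ⟶ ↑V, g' ≫ V.ι = g.left) ↔ IsoNat.IsClean (x.obj (Over.mk g))) ∧
      CInt.IsSchematicallyDense V

/-- closed subschemes containing a schematically dense open subscheme are everything -/
theorem isIso_of_dense {X Z : Scheme.{u}} {V : X.Opens} (hV : CInt.IsSchematicallyDense V) (ι : Z ⟶ X)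
    [IsClosedImmersion ι] (k : (V : Scheme.{u}) ⟶ Z) (hk : k ≫ ι = V.ι) : IsIso ι := by
  rw [IsClosedImmersion.isIso_iff_ker_eq_bot]
  refine le_bot_iff.1 fun W s hs => ?_
  rw [Scheme.IdealSheafData.ideal_bot, Pi.bot_apply, Ideal.mem_bot]
  rw [Scheme.Hom.ker_apply, RingHom.mem_ker] at hs
  refine hV W.1 ?_
  rw [map_zero]
  have h := congrArg (k.app _) hs
  rw [map_zero, ← CommRingCat.comp_apply, ← Scheme.Hom.comp_app, Scheme.Hom.congr_app hk, Scheme.Opens.ι_app] at h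
  simp [← Functor.map_comp] at h
  have h' := congrArg ((X.presheaf).map (homOfLE (show W.1 ⊓ V ≤ V.ι ''ᵁ ((k ≫ ι) ⁻¹ᵁ W.1) by
    rw [hk, Scheme.Hom.image_preimage_eq_opensRange_inf, Scheme.Opens.opensRange_ι, inf_comm])).op) h
  rw [map_zero] at h'
  refine Eq.trans ?_ h'
  refine Eq.trans ?_ (ConcreteCategory.congr_hom (X.presheaf.map_comp _ _) s)
  rfl

/-- on bald stacks pairs on smooth charts are rigid -/
theorem rig_of_bald (hg : FibCat.IsFibGrpd 𝒳.p)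
    (hd : AlgSt.RepByAlgSpWith AlgSp.IsSeparatedMor (FibCat.diag (FibCat.toSelf 𝒳))) (hb : Bald 𝒳)
    {W : Over S} {a b : W ⟶ U} (ha : Sm x a) (σ σ' : Ve x a b) : σ = σ' := by
  obtain ⟨V, hV, hdense⟩ := hb W _ ha
  let ι : Over.mk (V.ι ≫ W.hom) ⟶ W := Over.homMk V.ι rfl
  have hclean : IsoNat.IsClean (Xo x (ι ≫ a)) := (hV _ ι).1 ⟨𝟙 _, Category.id_comp _⟩
  let μ : Xo x (ι ≫ a) ⟶ Xo x a := Xk x ι rfl
  have hp : 𝒳.p.map σ.1 = 𝒳.p.map σ'.1 := by rw [map_bh x σ.1, map_bh x σ'.1, σ.2, σ'.2]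
  refine Subtype.ext (eq_of_dense hg hd ι ?_ (xw x a) σ.1 σ'.1 hp μ (xw x _) ?_ ?_)
  · intro Z c k hc hk
    haveI := hc
    exact isIso_of_dense hdense c k hk
  · rw [map_bh, bh_Xk]
  · obtain ⟨χ, ⟨hχ, hχ'⟩, -⟩ := existsUnique_cart hg (μ ≫ σ.1) (μ ≫ σ'.1) (𝟙 _)
      (by rw [Category.id_comp, Functor.map_comp, Functor.map_comp, hp])
    rw [← hχ', hclean _ (𝟙 _) χ hχ, Category.id_comp]

lemma iso_of_ve (hg : FibCat.IsFibGrpd 𝒳.p) {W : Over S} {a b : W ⟶ U} (ρ : Ve x a b) :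
    Nonempty (BasedFunctor.comp (AlgSt.overMap a) x ≅ BasedFunctor.comp (AlgSt.overMap b) x) := by
  refine nonempty_iso_of_top hg _ _ ((Xk x (𝟙 W) (rfl : 𝟙 W ≫ a = 𝟙 W ≫ a) : Xo x (𝟙 W ≫ a) ⟶ Xo x a) ≫ ρ.1 ≫
        x.map (Over.homMk (𝟙 W) (show 𝟙 W ≫ 𝟙 W ≫ b = b by simp) : (Over.mk b : Over U) ⟶ Over.mk (𝟙 W ≫ b))) ?_
  simp only [Functor.map_comp, map_map, map_bh x ρ.1, ρ.2]
  simp
  show _ ≫ 𝟙 W ≫ 𝟙 W ≫ _ = _
  simp

lemma ve_of_iso {W : Over S} {a b : W ⟶ U}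
    (i : BasedFunctor.comp (AlgSt.overMap a) x ≅ BasedFunctor.comp (AlgSt.overMap b) x) : Nonempty (Ve x a b) := by
  refine ⟨⟨x.map (Over.homMk (𝟙 W) (show 𝟙 W ≫ 𝟙 W ≫ a = a by simp) : (Over.mk a : Over U) ⟶ Over.mk (𝟙 W ≫ a)) ≫
    i.hom.toNatTrans.app (Over.mk (𝟙 W)) ≫
      x.map (Over.homMk (𝟙 W) (Category.id_comp _) : (Over.mk (𝟙 W ≫ b) : Over U) ⟶ Over.mk b), ?_⟩⟩
  rw [bh]
  simp only [Functor.map_comp, map_map, map_app]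
  simp
  rfl

theorem exists_equiv_of_bald (h𝒳 : AlgSt.IsAlgStack Scheme.fppfPrecoverage 𝒳)
    (h𝒳d : AlgSt.RepByAlgSpWith AlgSp.IsSeparatedMor (FibCat.diag (FibCat.toSelf 𝒳)))
    (h𝒴 : AlgSt.IsAlgStack Scheme.fppfPrecoverage 𝒴)
    (h𝒴d : AlgSt.RepByAlgSpWith AlgSp.IsSeparatedMor (FibCat.diag (FibCat.toSelf 𝒴)))
    (hbx : Bald 𝒳) (hby : Bald 𝒴) (φ : IsoNat.FIso 𝒳 𝒴) :
    ∃ e : 𝒳 ⥤ᵇ 𝒴, FibCat.IsEquivOver e := by
  obtain ⟨U, x, hx, hxs⟩ := h𝒳.atlas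
  have hgX := h𝒳.isStack.1
  have hgY := h𝒴.isStack.1
  obtain ⟨y, hxy⟩ := Rel.exists_right hgY φ x
  have hy : AlgSt.RepByAlgSpWith (AlgSp.LocP @Smooth) y := repWith_smooth_of_rel h𝒳 h𝒴 hxy hx
  have hsm : ∀ {W : Over S} (a : W ⟶ U), Sm x a ↔ Sm y a := fun {W} a =>
    ⟨fun h => repWith_smooth_of_rel h𝒳 h𝒴 (hxy.overMap hgY a) h,
     fun h => repWith_smooth_of_rel h𝒴 h𝒳 (φ := symmFIso hgX hgY φ)
      (Rel.symm hgX hgY (hxy.overMap hgY a)) h⟩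
  have H : Hyp x y := ⟨h𝒳.isStack, h𝒴.isStack,
    fun ρ => (Rel.nonempty_iso hgY (hxy.overMap hgY _) (hxy.overMap hgY _) (iso_of_ve hgX ρ)).elim ve_of_iso,
    fun ha => rig_of_bald hgY h𝒴d hby ((hsm _).1 ha)⟩
  have H' : Hyp y x := ⟨h𝒴.isStack, h𝒳.isStack,
    fun ρ => (Rel.nonempty_iso_symm hgX hgY (hxy.overMap hgY _) (hxy.overMap hgY _) (iso_of_ve hgY ρ)).elim ve_of_iso,
    fun ha => rig_of_bald hgX h𝒳d hbx ((hsm _).2 ha)⟩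
  obtain ⟨tr⟩ := exists_tr H H' h𝒳 h𝒴 hx hy hsm
  have hcx := cov_mem hgX x hx hxs
  refine exists_equiv h𝒳.isStack h𝒴.isStack hcx tr fun η => ?_
  -- the second chart is locally surjective as the classes correspond
  let T := 𝒴.p.obj η
  haveI := Groth.Agent.S6409.result hgY T
  let pt : 𝒴.p.Fiber T := ⟨η, rfl⟩
  let q' := (FibCat.evalAtId 𝒴 T).objPreimage pt
  let ε : q'.obj (Over.mk (𝟙 T)) ≅ η :=
    Functor.Fiber.fiberInclusion.mapIso ((FibCat.evalAtId 𝒴 T).objObjPreimageIso pt)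
  have hε : 𝒴.p.map ε.hom = eqToHom (q'.w_obj (Over.mk (𝟙 T))) :=
    (map_of_fiber ((FibCat.evalAtId 𝒴 T).objObjPreimageIso pt).hom).trans rfl
  obtain ⟨q, hq⟩ := Rel.exists_left hgX φ q'
  let ξ := q.obj (Over.mk (𝟙 T))
  refine (Jf S).superset_covering ?_ ((Jf S).pullback_stable (eqToHom (q.w_obj (Over.mk (𝟙 T))).symm) (hcx ξ))
  rintro W f ⟨a, μ, hμ⟩
  obtain ⟨χ, ⟨hχ, -⟩, -⟩ := existsUnique_cart hgX
    (q.map (Over.homMk f rfl : (Over.mk (f ≫ 𝟙 T) : Over T) ⟶ Over.mk (𝟙 T))) μ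
    (eqToHom ((xw x a).trans (q.w_obj (Over.mk (f ≫ 𝟙 T))).symm)) (by
      rw [map_bo x μ, hμ, map_map]
      simp
      rfl)
  have i₀ : Nonempty (BasedFunctor.comp (AlgSt.overMap a) x ≅ BasedFunctor.comp (AlgSt.overMap f) q) :=
    nonempty_iso_of_top hgX _ _
      (x.map (Over.homMk (𝟙 W) (Category.id_comp _) : (Over.mk (𝟙 W ≫ a) : Over U) ⟶ Over.mk a) ≫ χ ≫
        q.map (Over.homMk (𝟙 W) (show 𝟙 W ≫ 𝟙 W ≫ f = f ≫ 𝟙 T from (Category.id_comp _).trans ((Category.id_comp f).trans (Category.comp_id f).symm)) : (Over.mk (f ≫ 𝟙 T) : Over T) ⟶ Over.mk (𝟙 W ≫ f))) (by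
      rw [Functor.map_comp, Functor.map_comp, map_map, map_map, hχ]
      simp
      show _ ≫ 𝟙 W ≫ 𝟙 W ≫ _ = _
      simp)
  obtain ⟨j⟩ := Rel.nonempty_iso hgY (hxy.overMap hgY a) (hq.overMap hgY f) i₀
  refine ⟨a, y.map (Over.homMk (𝟙 W) (by simp) : (Over.mk a : Over U) ⟶ Over.mk (𝟙 W ≫ a)) ≫
    j.hom.toNatTrans.app (Over.mk (𝟙 W)) ≫
      q'.map (Over.homMk f (Category.comp_id _ |>.trans (Category.id_comp _).symm) :
        (Over.mk (𝟙 W ≫ f) : Over T) ⟶ Over.mk (𝟙 T)) ≫ ε.hom, ?_⟩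
  rw [bo]
  simp only [Functor.map_comp, map_map, map_app, hε]
  simp
  rfl

end Groth.Agent.IsoNatLib.BaldIso

end
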