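import Groth.Agent.IsoNatLib.ChartUnram
import Groth.Agent.AlgStLib.StacksEt
import Groth.Agent.AlgStLib.DiagProps

/-!
# Etale charts are detected by the presheaf of isomorphism classes
-/

set_option autoImplicit false
set_option backward.isDefEq.respectTransparency false
set_option backward.isDefEq.respectTransparency.types false
set_option linter.style.haveILetI false
universe u

noncomputable section

namespace Groth.Agent.IsoNatLib

open CategoryTheory CategoryTheory.Limits AlgebraicGeometry Groth.Agent.AlgSpLib Groth.Agent.AlgStLib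
open _root_.AlgSp _root_.AlgSt

variable {S : Scheme.{u}} {𝒳 𝒴 : AlgSt.Cat S}

local notation "AS" => IsAlgStack Scheme.fppfPrecoverage

theorem repWith_etale_of_rel (h𝒳 : AS 𝒳)
    (h𝒳d : RepByAlgSpWith AlgSp.IsSeparatedMor (FibCat.diag (FibCat.toSelf 𝒳))) (h𝒴 : AS 𝒴)
    (h𝒴d : RepByAlgSpWith AlgSp.IsSeparatedMor (FibCat.diag (FibCat.toSelf 𝒴))) {φ : IsoNat.FIso 𝒳 𝒴} {U : Over S}
    {x : FibCat.overCat U ⥤ᵇ 𝒳} {y : FibCat.overCat U ⥤ᵇ 𝒴} (hxy : Rel φ x y)
    (hx : RepByAlgSpWith AlgSp.IsEtaleMor x) : RepByAlgSpWith AlgSp.IsEtaleMor y := by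
  have hsm : RepByAlgSpWith (LocP @Smooth) x := AlgStLib.repWith_mono hx fun _ _ a _ ha =>
    locP_mono (fun _ _ r hr => by haveI := hr; infer_instance) a ((isEtaleMor_iff_locP (IsAlgSpace.yon_obj _)).1 ha)
  have hfp : RepByAlgSpWith (LocP @LocallyOfFinitePresentation) x := AlgStLib.repWith_mono hsm fun _ _ a _ ha =>
    locP_mono (fun _ _ r hr => by haveI := hr; infer_instance) a ha
  have hun : RepByAlgSpWith (LocP (@LocallyOfFiniteType ⊓ @FormallyUnramified)) x :=
    AlgStLib.repWith_mono hx fun _ _ a _ ha => locP_mono (fun _ _ r hr => by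
      haveI := hr; exact ⟨inferInstance, inferInstance⟩) a ((isEtaleMor_iff_locP (IsAlgSpace.yon_obj _)).1 ha)
  haveI := respectsIso_onSp (S := S) cls_smooth.bc
  haveI := respectsIso_onSp (S := S) cls_unramified.bc
  refine AlgStLib.repWith_mono (repWith_and (repWith_onSp_iff.2 (repWith_smooth_of_rel h𝒳 h𝒴 hxy hsm))
    (repWith_onSp_iff.2 (repWith_unramified_of_rel h𝒳 h𝒳d h𝒴 h𝒴d hxy hfp hun))) fun F V a hF ha =>
      (isEtaleMor_iff_locP (IsAlgSpace.yon_obj _)).2 fun U' V' a' b' h h₁ h₂ c => ?_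
  haveI : Smooth h.left := ha.1 hF (IsAlgSpace.yon_obj _) a' b' h h₁ h₂ c
  haveI : FormallyUnramified h.left := (ha.2 hF (IsAlgSpace.yon_obj _) a' b' h h₁ h₂ c).2
  exact Etale.of_formallyUnramified_of_flat _

end Groth.Agent.IsoNatLib

end
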