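import Mathlib.AlgebraicGeometry.Morphisms.FormallyUnramified
import Mathlib.AlgebraicGeometry.IdealSheaf.Basic
import Mathlib.RingTheory.Kaehler.Basic

/-!
# Formal unramifiedness tested on retracted thickenings
-/

set_option autoImplicit false
set_option backward.isDefEq.respectTransparency false
set_option backward.isDefEq.respectTransparency.types false
set_option linter.style.haveILetI false
universe u

noncomputable section

namespace Groth.Agent.IsoNatLib

open CategoryTheory AlgebraicGeometry TensorProduct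

theorem isNilpotent_ker_specMap {A B : CommRingCat.{u}} (φ : A ⟶ B) (h : RingHom.ker φ.hom ^ 2 = ⊥) :
    IsNilpotent (Spec.map φ).ker := by
  rw [Scheme.ker_of_isAffine, ← Scheme.IdealSheafData.equivOfIsAffine_symm_apply]
  refine IsNilpotent.map ⟨2, ?_⟩ Scheme.IdealSheafData.equivOfIsAffine.symm.toRingEquiv
  let e := (Scheme.ΓSpecIso A).commRingCatIsoToRingEquiv
  refine (Ideal.map_eq_bot_iff_of_injective (f := e.toRingHom) e.injective).1 (le_bot_iff.1 ?_)
  rw [Ideal.map_pow, ← h]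
  refine Ideal.pow_right_mono (Ideal.map_le_iff_le_comap.2 fun z hz => ?_) 2
  rw [Ideal.mem_comap, RingHom.mem_ker]
  show ((Scheme.ΓSpecIso A).hom ≫ φ).hom z = 0
  rw [← Scheme.ΓSpecIso_naturality]
  show (Scheme.ΓSpecIso B).hom.hom ((Spec.map φ).appTop.hom z) = 0
  rw [RingHom.mem_ker.1 hz, map_zero]

/-- formal unramifiedness is tested on retracted thickenings -/
theorem formallyUnramified_of_retraction {X Y : Scheme.{u}} (f : X ⟶ Y)
    (H : ∀ {P Z : Scheme.{u}} (i : Z ⟶ P) [IsClosedImmersion i], IsNilpotent i.ker → ∀ (r : P ⟶ Z) (ι : Z ⟶ X)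
      (p₂ : P ⟶ X), i ≫ r = 𝟙 Z → i ≫ p₂ = ι → (r ≫ ι) ≫ f = p₂ ≫ f → r ≫ ι = p₂) :
    FormallyUnramified f := by
  refine ⟨fun {U hU V hV hVU} => ?_⟩
  let A := Γ(Y, U)
  let B := Γ(X, V)
  letI : Algebra A B := (f.appLE U V hVU).hom.toAlgebra
  let I := KaehlerDifferential.ideal A B
  let R : CommRingCat.{u} := CommRingCat.of ((B ⊗[A] B) ⧸ I ^ 2)
  let π : R ⟶ B := CommRingCat.ofHom (Ideal.Quotient.lift (I ^ 2) (Algebra.TensorProduct.lmul' A (S := B)).toRingHom
    fun a ha => (RingHom.mem_ker).1 (Ideal.pow_le_self two_ne_zero ha))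
  let l : B ⟶ R := CommRingCat.ofHom ((Ideal.Quotient.mk (I ^ 2)).comp Algebra.TensorProduct.includeLeftRingHom)
  let r : B ⟶ R := CommRingCat.ofHom ((Ideal.Quotient.mk (I ^ 2)).comp
    (Algebra.TensorProduct.includeRight (R := A) (A := B) (B := B)).toRingHom)
  have hl : l ≫ π = 𝟙 B := CommRingCat.hom_ext (RingHom.ext fun b => by
    show Algebra.TensorProduct.lmul' A (S := B) (b ⊗ₜ[A] (1 : B)) = b
    simp)
  have hr : r ≫ π = 𝟙 B := CommRingCat.hom_ext (RingHom.ext fun b => by
    show Algebra.TensorProduct.lmul' A (S := B) ((1 : B) ⊗ₜ[A] b) = b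
    simp)
  have hπ : Function.Surjective π.hom := fun b => ⟨l.hom b, congr($hl b)⟩
  haveI : IsClosedImmersion (Spec.map π) := IsClosedImmersion.spec_of_surjective _ hπ
  have hker : RingHom.ker π.hom ^ 2 = ⊥ := by
    rw [eq_bot_iff]
    have e : RingHom.ker π.hom ≤ I.map (Ideal.Quotient.mk (I ^ 2)) := fun z hz => by
      obtain ⟨z, rfl⟩ := Ideal.Quotient.mk_surjective z
      exact Ideal.mem_map_of_mem _ hz
    refine (Ideal.pow_right_mono e 2).trans ?_
    rw [← Ideal.map_pow, Ideal.map_quotient_self]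
  have hf : f.appLE U V hVU ≫ l = f.appLE U V hVU ≫ r := CommRingCat.hom_ext (RingHom.ext fun a => by
    refine congrArg (Ideal.Quotient.mk (I ^ 2)) ?_
    show algebraMap A B a ⊗ₜ[A] (1 : B) = (1 : B) ⊗ₜ[A] algebraMap A B a
    rw [Algebra.algebraMap_eq_smul_one, TensorProduct.smul_tmul])
  have e := H (Spec.map π) (isNilpotent_ker_specMap π hker) (Spec.map l) hV.fromSpec (Spec.map r ≫ hV.fromSpec)
    (by rw [← Spec.map_comp, hl, Spec.map_id]) (by rw [← Spec.map_comp_assoc, hr, Spec.map_id, Category.id_comp])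
    (by simp only [Category.assoc, ← hU.SpecMap_appLE_fromSpec f hV hVU, ← Spec.map_comp_assoc, hf])
  rw [cancel_mono, Spec.map_inj] at e
  refine RingHom.formallyUnramified_algebraMap.2 ⟨(Ideal.cotangent_subsingleton_iff _).2 ?_⟩
  refine le_antisymm Ideal.mul_le_left ?_
  rw [← pow_two]
  refine le_of_eq_of_le (KaehlerDifferential.span_range_eq_ideal A B).symm (Ideal.span_le.2 ?_)
  rintro _ ⟨b, rfl⟩
  exact Ideal.Quotient.eq.1 (congr($e b)).symm

end Groth.Agent.IsoNatLib

end
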