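import Groth.Agent.IsoNatLib.ChartDetect
import Groth.Agent.IsoNatLib.AxesBC
import Groth.Agent.IsoNatLib.UnramCrit
import Groth.Agent.AlgStLib.LiftFamily
import Groth.Agent.UnivInjMor.Unram

/-!
# Unramified charts are detected by the presheaf of isomorphism classes

The thickenings to be tested retract, so an automorphism over the reduced part extends.
-/

set_option autoImplicit false
set_option backward.isDefEq.respectTransparency false
set_option backward.isDefEq.respectTransparency.types false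
set_option linter.style.haveILetI false
set_option maxHeartbeats 1000000
universe u

noncomputable section

namespace Groth.Agent.IsoNatLib

open CategoryTheory CategoryTheory.Limits AlgebraicGeometry Opposite Groth.Agent.FibCatRep
  Groth.Agent.FibCat2Misc Groth.Agent.AlgSpLib Groth.Agent.AlgStLib Groth.Agent.StkBasic
open _root_.AlgSp _root_.AlgSt

variable {S : Scheme.{u}} {𝒳 𝒴 : AlgSt.Cat S}

/-- two composites of maps of slices -/
def ovIso {K L L' U : Over S} (a : K ⟶ L) (b : L ⟶ U) (a' : K ⟶ L') (b' : L' ⟶ U) (h : a ≫ b = a' ≫ b') :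
    BasedFunctor.comp (AlgSt.overMap a) (AlgSt.overMap b) ≅ BasedFunctor.comp (AlgSt.overMap a') (AlgSt.overMap b') :=
  BasedNatIso.mkNatIso (NatIso.ofComponents (fun z => Over.isoMk (Iso.refl _)
      (by show 𝟙 _ ≫ (z.hom ≫ a') ≫ b' = (z.hom ≫ a) ≫ b; rw [Category.id_comp, Category.assoc, Category.assoc, h]))
    (fun {z z'} m => Over.OverMorphism.ext ((Category.comp_id _).trans (Category.id_comp _).symm)))
    (fun z => IsHomLift.of_fac' _ _ _ rfl rfl (show 𝟙 z.left = _ by simp; rfl))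

/-- a composite of maps of slices -/
def ovComp {K L U : Over S} (a : K ⟶ L) (b : L ⟶ U) (c : K ⟶ U) (h : a ≫ b = c) :
    BasedFunctor.comp (AlgSt.overMap a) (AlgSt.overMap b) ≅ AlgSt.overMap c :=
  BasedNatIso.mkNatIso (NatIso.ofComponents (fun z => Over.isoMk (Iso.refl _)
      (by show 𝟙 _ ≫ z.hom ≫ c = (z.hom ≫ a) ≫ b; rw [Category.id_comp, Category.assoc, h]))
    (fun {z z'} m => Over.OverMorphism.ext ((Category.comp_id _).trans (Category.id_comp _).symm)))
    (fun z => IsHomLift.of_fac' _ _ _ rfl rfl (show 𝟙 z.left = _ by simp; rfl))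

theorem mapOf_overMap_chart {K Q : Over S} {G : Sp S} (p : K ⟶ Q) (d : (yon S).obj Q ⟶ G) :
    mapOf (BasedFunctor.comp (BasedFunctor.comp (toOverCat K) (AlgSt.overMap p))
      (BasedFunctor.comp (ofOverCat Q) (Stk.ofPshMap d.hom))) = ((yon S).map p ≫ d).hom := by
  refine (show _ = mapOf (BasedFunctor.comp (BasedFunctor.comp (toOverCat K) (AlgSt.overMap p)) (ofOverCat Q)) ≫ d.hom from
    (mapOf_comp (BasedFunctor.comp (BasedFunctor.comp (toOverCat K) (AlgSt.overMap p)) (ofOverCat Q))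
      (Stk.ofPshMap d.hom)).trans (by rw [mapOf_ofPshMap])).trans ?_
  show _ = ((yon S).map p).hom ≫ d.hom
  refine congrArg (· ≫ d.hom) ?_
  ext Z g
  exact ULift.ext _ _ (by
    show 𝟙 _ ≫ g.down ≫ p = g.down ≫ p
    rw [Category.id_comp])

theorem surjective_of_thickening {Z P : Scheme.{u}} (i : Z ⟶ P) [IsClosedImmersion i] (hn : IsNilpotent i.ker) :
    Surjective i := by
  obtain ⟨n, hn⟩ := hn
  haveI : IsDominant i := by
    rw [isDominant_iff, denseRange_iff_closure_range, ← i.support_ker,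
      ← i.ker.support_pow (n + 1) (by simp), pow_succ, hn]
    simp
  exact ⟨i.surjective⟩

/-- two points of an unramified chart agreeing on a thickened subscheme are equal -/
theorem eq_of_unramified {T T₀ U : Over S} (j : T₀ ⟶ T) [IsClosedImmersion j.left] (hn : IsNilpotent j.left.ker)
    {x : FibCat.overCat U ⥤ᵇ 𝒳} (hx : RepByAlgSpWith (LocP (@LocallyOfFiniteType ⊓ @FormallyUnramified)) x)
    (z : FibCat.overCat T ⥤ᵇ 𝒳) (u₁ u₂ : T ⟶ U) (ν₁ : z ≅ BasedFunctor.comp (AlgSt.overMap u₁) x)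
    (ν₂ : z ≅ BasedFunctor.comp (AlgSt.overMap u₂) x) (hu : j ≫ u₁ = j ≫ u₂)
    (h : ∀ (w : Over T₀) (c : (AlgSt.overMap u₁).obj ((AlgSt.overMap j).obj w) ⟶
      (AlgSt.overMap u₂).obj ((AlgSt.overMap j).obj w)), c.left = 𝟙 _ →
        ν₁.hom.toNatTrans.app ((AlgSt.overMap j).obj w) ≫ x.map c = ν₂.hom.toNatTrans.app ((AlgSt.overMap j).obj w)) :
    u₁ = u₂ ∧ ∀ (t : Over T) (c : (AlgSt.overMap u₁).obj t ⟶ (AlgSt.overMap u₂).obj t), c.left = 𝟙 _ →
      ν₁.hom.toNatTrans.app t ≫ x.map c = ν₂.hom.toNatTrans.app t := by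
  obtain ⟨F, e, he, hF⟩ := hx T z
  obtain ⟨k, hk, -, ⟨je⟩⟩ := isEquivOver_symm he
  let π := spMapOfOver (BasedFunctor.comp e (FibCat.fpFst z x))
  let L₁ : FibCat.overCat T ⥤ᵇ FibCat.fp z x := FibCat.fpLift (BasedFunctor.id _) (AlgSt.overMap u₁) ν₁
  let L₂ : FibCat.overCat T ⥤ᵇ FibCat.fp z x := FibCat.fpLift (BasedFunctor.id _) (AlgSt.overMap u₂) ν₂
  let pt : (FibCat.overCat T ⥤ᵇ FibCat.fp z x) → ((yon S).obj T ⟶ F.obj) := fun L =>
    ObjectProperty.homMk (mapOf (BasedFunctor.comp (BasedFunctor.comp (toOverCat T) L) k))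
  have hπ : ∀ L : FibCat.overCat T ⥤ᵇ FibCat.fp z x,
      BasedFunctor.comp L (FibCat.fpFst z x) = BasedFunctor.id _ → pt L ≫ π = 𝟙 _ := by
    intro L iL
    refine ObjectProperty.hom_ext _ ?_
    show (pt L).hom ≫ π.hom = _
    rw [spMapOfOver_hom]
    refine (mapOf_comp _ _).symm.trans ((mapOf_congr ((post _ (BasedFunctor.comp (FibCat.fpFst z x) (ofOverCat T))).mapIso
      ((Stk.restr (BasedFunctor.comp (toOverCat T) L) _).mapIso je) ≪≫
      (post _ (ofOverCat T)).mapIso ((Stk.restr (toOverCat T) _).mapIso (eqToIso iL)))).trans ?_)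
    ext Z g
    exact ULift.ext _ _ (by
      show 𝟙 _ ≫ g.down = g.down
      rw [Category.id_comp])
  let l₁ := pt L₁
  let l₂ := pt L₂
  have e₁ : l₁ ≫ π = 𝟙 _ := hπ L₁ rfl
  have e₂ : l₂ ≫ π = 𝟙 _ := hπ L₂ rfl
  have σ : BasedFunctor.comp (AlgSt.overMap j) L₁ ≅ BasedFunctor.comp (AlgSt.overMap j) L₂ :=
    fpExt (Iso.refl _) (ovIso j u₁ j u₂ hu) fun w => by
      show z.map (𝟙 _) ≫ ν₂.hom.toNatTrans.app _ = ν₁.hom.toNatTrans.app _ ≫ x.map _
      rw [z.toFunctor.map_id, Category.id_comp]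
      exact (h w _ rfl).symm
  have hj : ∀ L : FibCat.overCat T ⥤ᵇ FibCat.fp z x, (yon S).map j ≫ pt L = ObjectProperty.homMk
      (mapOf (BasedFunctor.comp (BasedFunctor.comp (toOverCat T₀) (BasedFunctor.comp (AlgSt.overMap j) L)) k)) := by
    intro L
    refine ObjectProperty.hom_ext _ ?_
    let τ : BasedFunctor.comp (Stk.ofPshMap ((pyon S).map j)) (toOverCat T) ≅
        BasedFunctor.comp (toOverCat T₀) (AlgSt.overMap j) :=
      BasedNatIso.mkNatIso (NatIso.ofComponents (fun a => Over.isoMk (Iso.refl _)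
          (by show 𝟙 _ ≫ a.sec.down ≫ j = a.sec.down ≫ j; rw [Category.id_comp]))
        (fun {a b} m => Over.OverMorphism.ext ((Category.comp_id _).trans (Category.id_comp _).symm)))
        (fun a => IsHomLift.of_fac' _ _ _ rfl rfl (show 𝟙 _ = _ by simp; rfl))
    have e := mapOf_comp (Stk.ofPshMap ((pyon S).map j)) (BasedFunctor.comp (BasedFunctor.comp (toOverCat T) L) k)
    rw [mapOf_ofPshMap] at e
    exact e.symm.trans (mapOf_congr ((post _ k).mapIso ((post _ L).mapIso τ)))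
  have ej : (yon S).map j ≫ l₁ = (yon S).map j ≫ l₂ := by
    rw [hj, hj]
    exact congrArg ObjectProperty.homMk (mapOf_congr ((post _ k).mapIso ((Stk.restr (toOverCat T₀) _).mapIso σ)))
  have hd := UnivInjMor.repWith_diagonal_of_unramified F.property (IsAlgSpace.yon_obj T) π hF
  obtain ⟨W, fst, q, sqW, hq⟩ := exists_repWith hd (pullback.lift l₁ l₂ (e₁.trans e₂.symm))
  haveI : IsOpenImmersion q.left := hq
  obtain ⟨j', hj'⟩ := (yon S).map_surjective (sqW.lift ((yon S).map j ≫ l₁) ((yon S).map j) (by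
    refine pullback.hom_ext ?_ ?_
    · rw [Category.assoc, pullback.diagonal_fst, Category.comp_id, Category.assoc, pullback.lift_fst]
    · rw [Category.assoc, pullback.diagonal_snd, Category.comp_id, Category.assoc, pullback.lift_snd, ej]))
  have hjq : j' ≫ q = j := (yon S).map_injective (by rw [Functor.map_comp, hj', sqW.lift_snd])
  haveI := surjective_of_thickening j.left hn
  haveI : Surjective (j'.left ≫ q.left) := by rw [← Over.comp_left, hjq]; infer_instance
  haveI : Surjective q.left := Surjective.of_comp j'.left q.left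
  haveI : IsIso q.left := (isIso_iff_isOpenImmersion_and_epi_base _).2 ⟨inferInstance,
    (TopCat.epi_iff_surjective _).2 q.left.surjective⟩
  haveI : IsIso ((Over.forget S).map q) := inferInstanceAs (IsIso q.left)
  haveI : IsIso q := isIso_of_reflects_iso q (Over.forget S)
  have el : l₁ = l₂ := by
    refine (cancel_epi ((yon S).map q)).1 ?_
    have h₁ := congrArg (· ≫ pullback.fst π π) sqW.w
    have h₂ := congrArg (· ≫ pullback.snd π π) sqW.w
    simp only [Category.assoc, pullback.diagonal_fst, pullback.diagonal_snd, Category.comp_id, pullback.lift_fst,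
      pullback.lift_snd] at h₁ h₂
    exact h₁.symm.trans h₂
  have Φ : L₁ ≅ L₂ := by
    let A : (FibCat.overCat T ⥤ᵇ FibCat.fp z x) → _ := fun L => BasedFunctor.comp (BasedFunctor.comp (toOverCat T) L) k
    have i₀ : A L₁ ≅ A L₂ := (mapOfIso (A L₁)).symm ≪≫
      eqToIso (congrArg Stk.ofPshMap (show mapOf (A L₁) = mapOf (A L₂) from congrArg (·.hom) el)) ≪≫ mapOfIso (A L₂)
    exact ((Stk.restr L₁ _).mapIso je).symm ≪≫
      (post _ e).mapIso ((Stk.restr (ofOverCat T) _).mapIso i₀) ≪≫ (Stk.restr L₂ _).mapIso je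
  have key : ∀ t : Over T, ∃ c : (AlgSt.overMap u₁).obj t ⟶ (AlgSt.overMap u₂).obj t, c.left = 𝟙 _ ∧
      ν₁.hom.toNatTrans.app t ≫ x.map c = ν₂.hom.toNatTrans.app t := fun t => by
    let m := Φ.hom.toNatTrans.app t
    have hf : m.hom.fst = 𝟙 t := Over.OverMorphism.ext
      ((map_app ((post _ (FibCat.fpFst z x)).map Φ.hom) t).trans (eqToHom_refl _ _))
    refine ⟨m.hom.snd, (map_app ((post _ (FibCat.fpSnd z x)).map Φ.hom) t).trans (eqToHom_refl _ _), ?_⟩
    have hw : z.map m.hom.fst ≫ ν₂.hom.toNatTrans.app t = ν₁.hom.toNatTrans.app t ≫ x.map m.hom.snd := m.hom.w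
    rw [hf] at hw
    refine hw.symm.trans ?_
    exact (congrArg (· ≫ _) (z.toFunctor.map_id t)).trans (Category.id_comp _)
  refine ⟨?_, fun t c hc => ?_⟩
  · obtain ⟨c, hc, -⟩ := key (Over.mk (𝟙 T))
    have := Over.w c
    rw [hc] at this
    simpa [AlgSt.overMap] using this.symm
  · obtain ⟨c', hc', he'⟩ := key t
    rw [show c = c' from Over.OverMorphism.ext (hc.trans hc'.symm)]
    exact he'

/-- the automorphism given by a global section -/
theorem exists_iso_of_sec (hg : FibCat.IsFibGrpd 𝒳.p) {T : Over S} {z : FibCat.overCat T ⥤ᵇ 𝒳} (g : Axes.G₀ T z) :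
    ∃ γ : z ≅ z, ∀ t : Over T, γ.hom.toNatTrans.app t =
      GerbLib.Band.ah (g.1 ⟨t, t.hom, Category.comp_id _, fun _ _ => trivial⟩) := by
  let gt : ∀ t : Over T, Tst (𝟙 T) (⊤ : T.left.Opens) := fun t => ⟨t, t.hom, Category.comp_id _, fun _ _ => trivial⟩
  refine ⟨BasedNatIso.mkNatIso (NatIso.ofComponents
      (fun t => { hom := GerbLib.Band.ah (g.1 (gt t)), inv := GerbLib.Band.ah (g.1 (gt t))⁻¹
                  hom_inv_id := GerbLib.Band.ah_comp_inv _, inv_hom_id := GerbLib.Band.ah_inv_comp _ })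
      (fun {t' t} m => (g.2 (gt t') (gt t) m (Over.w m)).symm))
    (fun t => IsHomLift.of_fac' 𝒳.p _ _ (z.w_obj t) (z.w_obj t) (by
      simp only [NatIso.ofComponents_hom_app]
      rw [GerbLib.Band.map_ah]
      simp)), fun t => rfl⟩

theorem injSec_of_unramified (hg : FibCat.IsFibGrpd 𝒳.p) {T T₀ U : Over S} (j : T₀ ⟶ T) [IsClosedImmersion j.left]
    (hn : IsNilpotent j.left.ker) {x : FibCat.overCat U ⥤ᵇ 𝒳}
    (hx : RepByAlgSpWith (LocP (@LocallyOfFiniteType ⊓ @FormallyUnramified)) x) (u : T ⟶ U) :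
    InjSec j (BasedFunctor.comp (AlgSt.overMap u) x) := by
  intro g hgj
  obtain ⟨γ, hγ⟩ := exists_iso_of_sec hg g
  obtain ⟨-, h⟩ := eq_of_unramified j hn hx _ u u (Iso.refl _) γ rfl fun w c hc => by
    rw [show c = 𝟙 _ from Over.OverMorphism.ext hc]
    refine Eq.trans ?_ (hγ _).symm
    erw [x.toFunctor.map_id, Category.comp_id]
    exact (GerbLib.Band.ah_one).symm.trans (congrArg (fun s : Axes.G₀ T₀ _ =>
      GerbLib.Band.ah (s.1 ⟨w, w.hom, Category.comp_id _, fun _ _ => trivial⟩)) hgj.symm)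
  refine sec_ext fun t => ?_
  have h₁ := h t.o (𝟙 _) rfl
  erw [hγ t.o, x.toFunctor.map_id, Category.comp_id] at h₁
  refine Eq.trans ?_ (h₁.symm.trans (GerbLib.Band.ah_one).symm)
  obtain ⟨o, w, hw, hin⟩ := t
  exact congrArg GerbLib.Band.ah (sec_val_congr g _ _ _ _ ((Category.comp_id w).symm.trans hw))

/-- natural endomorphisms trivial over `T₀` are trivial -/
theorem eq_id_of_injSec (hg : FibCat.IsFibGrpd 𝒳.p) {T T₀ : Over S} {j : T₀ ⟶ T} {z z' : FibCat.overCat T ⥤ᵇ 𝒳}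
    (h : InjSec j z) (ζ : z ≅ z') (γ : z' ⟶ z')
    (h₀ : ∀ w : Over T₀, γ.toNatTrans.app ((AlgSt.overMap j).obj w) = 𝟙 _) (t : Over T) :
    γ.toNatTrans.app t = 𝟙 _ := by
  let δ := ζ.hom ≫ γ ≫ ζ.inv
  choose a ha using fun t : Tst (𝟙 T) (⊤ : T.left.Opens) => GerbLib.Band.exists_autO hg (δ.toNatTrans.app t.o) (by
    rw [map_app, eqToHom_refl])
  have hsec : a ∈ sec z (𝟙 T) (⊤ : T.left.Opens) := fun t' t m _ => by
    rw [ha, ha]
    exact (δ.toNatTrans.naturality m).symm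
  have hinv : ∀ s : Over T, ζ.inv.toNatTrans.app s ≫ ζ.hom.toNatTrans.app s = 𝟙 _ := fun s =>
    congrArg (fun k => (BasedNatTrans.toNatTrans k).app s) ζ.inv_hom_id
  have hinv' : ∀ s : Over T, ζ.hom.toNatTrans.app s ≫ ζ.inv.toNatTrans.app s = 𝟙 _ := fun s =>
    congrArg (fun k => (BasedNatTrans.toNatTrans k).app s) ζ.hom_inv_id
  have hone := h ⟨a, hsec⟩ (sec_ext fun w => by
    show GerbLib.Band.ah (a _) = GerbLib.Band.ah 1
    rw [ha, GerbLib.Band.ah_one]
    show ζ.hom.toNatTrans.app _ ≫ γ.toNatTrans.app ((AlgSt.overMap j).obj w.o) ≫ ζ.inv.toNatTrans.app _ = _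
    rw [h₀]
    erw [Category.id_comp]
    exact hinv' _)
  have h₁ : δ.toNatTrans.app t = 𝟙 _ := by
    have := congrArg (fun s : Axes.G₀ T z => GerbLib.Band.ah (s.1 ⟨t, t.hom, Category.comp_id _, fun _ _ => trivial⟩)) hone
    exact (ha _).symm.trans (this.trans GerbLib.Band.ah_one)
  change ζ.hom.toNatTrans.app t ≫ γ.toNatTrans.app t ≫ ζ.inv.toNatTrans.app t = 𝟙 _ at h₁
  calc γ.toNatTrans.app t
      = ζ.inv.toNatTrans.app t ≫ (ζ.hom.toNatTrans.app t ≫ γ.toNatTrans.app t ≫ ζ.inv.toNatTrans.app t) ≫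
          ζ.hom.toNatTrans.app t := by
        simp only [Category.assoc, hinv, Category.comp_id, reassoc_of% (hinv t)]
    _ = 𝟙 _ := by rw [h₁, Category.id_comp, hinv]

/-- an automorphism over a retract extends -/
theorem exists_extend {P Z U : Over S} (i : Z ⟶ P) (r : P ⟶ Z) (hir : i ≫ r = 𝟙 Z) (u : P ⟶ U)
    (hu : r ≫ i ≫ u = u) (x : FibCat.overCat U ⥤ᵇ 𝒳)
    (μ : BasedFunctor.comp (BasedFunctor.comp (AlgSt.overMap i) (AlgSt.overMap u)) x ≅
      BasedFunctor.comp (BasedFunctor.comp (AlgSt.overMap i) (AlgSt.overMap u)) x) :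
    ∃ a : BasedFunctor.comp (AlgSt.overMap u) x ≅ BasedFunctor.comp (AlgSt.overMap u) x,
      ∀ w : Over Z, a.hom.toNatTrans.app ((AlgSt.overMap i).obj w) = μ.hom.toNatTrans.app w := by
  let ε : BasedFunctor.comp (AlgSt.overMap r) (BasedFunctor.comp (AlgSt.overMap i) (AlgSt.overMap u)) ≅
      AlgSt.overMap u :=
    BasedNatIso.mkNatIso (NatIso.ofComponents (fun z => Over.isoMk (Iso.refl _)
        (by show 𝟙 _ ≫ z.hom ≫ u = ((z.hom ≫ r) ≫ i) ≫ u; rw [Category.id_comp, Category.assoc, Category.assoc, hu]))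
      (fun {z z'} m => Over.OverMorphism.ext ((Category.comp_id _).trans (Category.id_comp _).symm)))
      (fun z => IsHomLift.of_fac' _ _ _ rfl rfl (show 𝟙 z.left = _ by simp; rfl))
  refine ⟨((post _ x).mapIso ε).symm ≪≫ (Stk.restr (AlgSt.overMap r) _).mapIso μ ≪≫ (post _ x).mapIso ε,
    fun w => ?_⟩
  let m : (AlgSt.overMap r).obj ((AlgSt.overMap i).obj w) ⟶ w := Over.homMk (𝟙 _) (by
    show 𝟙 _ ≫ w.hom = (w.hom ≫ i) ≫ r
    rw [Category.id_comp, Category.assoc, hir, Category.comp_id])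
  have em : (BasedFunctor.comp (AlgSt.overMap i) (AlgSt.overMap u)).map m =
      ε.hom.toNatTrans.app ((AlgSt.overMap i).obj w) := Over.OverMorphism.ext rfl
  have hn : x.map ((BasedFunctor.comp (AlgSt.overMap i) (AlgSt.overMap u)).map m) ≫ μ.hom.toNatTrans.app w =
      μ.hom.toNatTrans.app _ ≫ x.map ((BasedFunctor.comp (AlgSt.overMap i) (AlgSt.overMap u)).map m) :=
    μ.hom.toNatTrans.naturality m
  rw [em] at hn
  show x.map (ε.inv.toNatTrans.app _) ≫ μ.hom.toNatTrans.app _ ≫ x.map (ε.hom.toNatTrans.app _) = _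
  rw [← hn, ← Functor.map_comp_assoc]
  have he : ε.inv.toNatTrans.app ((AlgSt.overMap i).obj w) ≫ ε.hom.toNatTrans.app ((AlgSt.overMap i).obj w) = 𝟙 _ :=
    congrArg (fun k => (BasedNatTrans.toNatTrans k).app ((AlgSt.overMap i).obj w)) ε.inv_hom_id
  exact (congrArg (· ≫ _) ((congrArg (fun k => x.map k) he).trans (x.toFunctor.map_id _))).trans (Category.id_comp _)

local notation "AS" => IsAlgStack Scheme.fppfPrecoverage

set_option maxHeartbeats 3000000 in
/-- unramified charts are detected by the presheaf of isomorphism classes -/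
theorem repWith_unramified_of_rel (h𝒳 : AS 𝒳)
    (h𝒳d : RepByAlgSpWith AlgSp.IsSeparatedMor (FibCat.diag (FibCat.toSelf 𝒳))) (h𝒴 : AS 𝒴)
    (h𝒴d : RepByAlgSpWith AlgSp.IsSeparatedMor (FibCat.diag (FibCat.toSelf 𝒴))) {φ : IsoNat.FIso 𝒳 𝒴} {U : Over S}
    {x : FibCat.overCat U ⥤ᵇ 𝒳} {y : FibCat.overCat U ⥤ᵇ 𝒴} (hxy : Rel φ x y)
    (hxfp : RepByAlgSpWith (LocP @LocallyOfFinitePresentation) x)
    (hx : RepByAlgSpWith (LocP (@LocallyOfFiniteType ⊓ @FormallyUnramified)) x) :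
    RepByAlgSpWith (LocP (@LocallyOfFiniteType ⊓ @FormallyUnramified)) y := by
  have g𝒳 := h𝒳.isStack.1
  have g𝒴 := h𝒴.isStack.1
  obtain ⟨W, w, hw, hw'⟩ := h𝒴.atlas
  let y₀ := BasedFunctor.comp (toOverCat U) y
  let f := BasedFunctor.comp (toOverCat W) w
  have hy₁ : RepByAlgSp1 y₀ := repByAlgSp1_point g𝒴 h𝒴.diag (isAlgSpaceP_yon U) y₀
  have hylfp : RepByAlgSpWith (LocP @LocallyOfFinitePresentation) y₀ :=
    (repWith_overCat_iff _ U y).1 (repWith_lfp_of_rel h𝒳 h𝒴 hxy hxfp)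
  have hf : RepByAlgSpWith (LocP @Smooth) f := (repWith_overCat_iff _ W w).1 hw
  have hf' : RepByAlgSpWith AlgSp.IsSurjectiveMor f := (repWith_overCat_iff _ W w).1 hw'
  have gW := isFibGrpd_ofSpace (S := S) ((pyon S).obj W)
  obtain ⟨G, a, e, he, ha, -⟩ := exists_model_space cls_smooth.bc cls_smooth.loc gW g𝒴 hf (spOf U) y₀
  let πW : G.obj ⟶ (yon S).obj W := ObjectProperty.homMk (mapOf (BasedFunctor.comp e (FibCat.fpSnd y₀ f)))
  obtain ⟨Q, d, hde, hds⟩ := G.property.atlas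
  obtain ⟨α, hα, ⟨iα⟩⟩ := exists_map_of_chart d (BasedFunctor.comp (BasedFunctor.comp e (FibCat.fpFst y₀ f))
    (toOverCat U))
  obtain ⟨β, hβ, ⟨iβ⟩⟩ := exists_map_of_chart d (BasedFunctor.comp (BasedFunctor.comp e (FibCat.fpSnd y₀ f))
    (toOverCat W))
  have hβ' : (yon S).map β = d ≫ πW := by
    rw [hβ]
    refine congrArg (d ≫ ·) (ObjectProperty.hom_ext _ ?_)
    rw [spMapOfOver_hom]
    rfl
  let C := BasedFunctor.comp (ofOverCat Q) (Stk.ofPshMap d.hom)
  let CE := BasedFunctor.comp C e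
  have i₀ : BasedFunctor.comp (AlgSt.overMap β) w ≅ BasedFunctor.comp (AlgSt.overMap α) y :=
    ((post _ w).mapIso iβ).symm ≪≫ (Stk.restr CE 𝒴).mapIso (FibCat.fpIso y₀ f).symm ≪≫ (post _ y).mapIso iα
  have hlft : LocP @LocallyOfFiniteType πW := by
    have h : LocP @LocallyOfFinitePresentation πW := prop_prjMap cls_lfp.bc cls_lfp.loc hylfp (W := spOf W) (w := f)
      (P := G) (e := BasedFunctor.comp e (swapFun y₀ f)) (isEquivOver_comp he (isEquivOver_swapFun y₀ f))
      (ObjectProperty.homMk πW) rfl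
    exact locP_mono (fun _ _ r hr => by haveI := hr; infer_instance) _ h
  have hunr : FormallyUnramified β.left := by
    refine formallyUnramified_of_retraction β.left fun {P₀ Z₀} i _ hn r ι p₂ hir hip hβp => ?_
    let Z : Over S := Over.mk (ι ≫ Q.hom)
    let P : Over S := Over.mk ((r ≫ ι) ≫ Q.hom)
    let jn : Z ⟶ P := Over.homMk i (by
      show i ≫ (r ≫ ι) ≫ Q.hom = ι ≫ Q.hom
      rw [← Category.assoc i, ← Category.assoc i, hir, Category.id_comp])
    let rn : P ⟶ Z := Over.homMk r (Category.assoc _ _ _).symm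
    let q₁ : P ⟶ Q := Over.homMk (r ≫ ι) rfl
    let q₂ : P ⟶ Q := Over.homMk p₂ (by
      show p₂ ≫ Q.hom = (r ≫ ι) ≫ Q.hom
      rw [← Over.w β, ← Category.assoc p₂, ← hβp, Category.assoc])
    have hir' : jn ≫ rn = 𝟙 Z := Over.OverMorphism.ext hir
    have hq : jn ≫ q₁ = jn ≫ q₂ := Over.OverMorphism.ext (by
      show i ≫ r ≫ ι = i ≫ p₂
      rw [hip, ← Category.assoc, hir, Category.id_comp])
    have hβq : q₁ ≫ β = q₂ ≫ β := Over.OverMorphism.ext hβp
    haveI : IsClosedImmersion jn.left := ‹IsClosedImmersion i›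
    let u₁ := q₁ ≫ α
    let u₂ := q₂ ≫ α
    -- the two compositions to `U` agree
    let j₁ : BasedFunctor.comp (AlgSt.overMap u₁) y ≅ BasedFunctor.comp (AlgSt.overMap u₂) y :=
      (post _ y).mapIso (ovComp q₁ α u₁ rfl).symm ≪≫ (Stk.restr (AlgSt.overMap q₁) 𝒴).mapIso i₀.symm ≪≫
        (post _ w).mapIso (ovIso q₁ β q₂ β hβq) ≪≫ (Stk.restr (AlgSt.overMap q₂) 𝒴).mapIso i₀ ≪≫
        (post _ y).mapIso (ovComp q₂ α u₂ rfl)
    obtain ⟨ν⟩ := Rel.nonempty_iso_symm g𝒳 g𝒴 (hxy.overMap g𝒴 u₁) (hxy.overMap g𝒴 u₂) ⟨j₁⟩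
    have hu : jn ≫ u₁ = jn ≫ u₂ := by rw [← Category.assoc, hq, Category.assoc]
    let cx := (post _ x).mapIso (ovIso jn u₁ jn u₂ hu)
    let μ : BasedFunctor.comp (BasedFunctor.comp (AlgSt.overMap jn) (AlgSt.overMap u₁)) x ≅
        BasedFunctor.comp (BasedFunctor.comp (AlgSt.overMap jn) (AlgSt.overMap u₁)) x :=
      (Stk.restr (AlgSt.overMap jn) 𝒳).mapIso ν ≪≫ cx.symm
    obtain ⟨at', hat⟩ := exists_extend jn rn hir' u₁ (by
      show rn ≫ jn ≫ q₁ ≫ α = q₁ ≫ α
      rw [← Category.assoc jn, ← Category.assoc rn]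
      refine congrArg (· ≫ α) (Over.OverMorphism.ext ?_)
      show r ≫ i ≫ r ≫ ι = r ≫ ι
      rw [← Category.assoc i, hir, Category.id_comp]) x μ
    have hu12 : u₁ = u₂ := (eq_of_unramified jn hn hx _ u₁ u₂ at' ν hu fun o c hc => by
      rw [hat o, show x.map c = cx.hom.toNatTrans.app o from congrArg (fun k => x.map k) (Over.OverMorphism.ext hc)]
      show (ν.hom.toNatTrans.app _ ≫ cx.inv.toNatTrans.app o) ≫ cx.hom.toNatTrans.app o = _
      rw [Category.assoc]
      have hc' : cx.inv.toNatTrans.app o ≫ cx.hom.toNatTrans.app o = 𝟙 _ :=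
        congrArg (fun k => (BasedNatTrans.toNatTrans k).app o) cx.inv_hom_id
      rw [hc']
      exact Category.comp_id _).1
    -- the two points of the fibre product agree
    let L₁ := BasedFunctor.comp (AlgSt.overMap q₁) CE
    let L₂ := BasedFunctor.comp (AlgSt.overMap q₂) CE
    let A₁ := BasedFunctor.comp L₁ (FibCat.fpFst y₀ f)
    let A₂ := BasedFunctor.comp L₂ (FibCat.fpFst y₀ f)
    let tU : BasedFunctor.comp A₁ (toOverCat U) ≅ BasedFunctor.comp A₂ (toOverCat U) :=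
      (Stk.restr (AlgSt.overMap q₁) _).mapIso iα ≪≫ ovComp q₁ α u₁ rfl ≪≫ eqToIso (congrArg AlgSt.overMap hu12) ≪≫
        (ovComp q₂ α u₂ rfl).symm ≪≫ ((Stk.restr (AlgSt.overMap q₂) _).mapIso iα).symm
    let aI : A₁ ≅ A₂ := (post _ (ofOverCat U)).mapIso tU
    let tW : BasedFunctor.comp (BasedFunctor.comp L₁ (FibCat.fpSnd y₀ f)) (toOverCat W) ≅
        BasedFunctor.comp (BasedFunctor.comp L₂ (FibCat.fpSnd y₀ f)) (toOverCat W) :=
      (Stk.restr (AlgSt.overMap q₁) _).mapIso iβ ≪≫ ovIso q₁ β q₂ β hβq ≪≫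
        ((Stk.restr (AlgSt.overMap q₂) _).mapIso iβ).symm
    let bI : BasedFunctor.comp L₁ (FibCat.fpSnd y₀ f) ≅ BasedFunctor.comp L₂ (FibCat.fpSnd y₀ f) :=
      (post _ (ofOverCat W)).mapIso tW
    let θ₁ := (Stk.restr L₁ 𝒴).mapIso (FibCat.fpIso y₀ f)
    let θ₂ := (Stk.restr L₂ 𝒴).mapIso (FibCat.fpIso y₀ f)
    let δ := (post _ y₀).mapIso aI ≪≫ θ₂ ≪≫ ((post _ f).mapIso bI).symm ≪≫ θ₁.symm
    let ζ : BasedFunctor.comp (AlgSt.overMap u₁) y ≅ BasedFunctor.comp A₁ y₀ :=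
      ((post _ y).mapIso ((Stk.restr (AlgSt.overMap q₁) _).mapIso iα ≪≫ ovComp q₁ α u₁ rfl)).symm
    let σ := (post _ CE).mapIso (ovIso jn q₁ jn q₂ (by rw [hq]))
    have ea : ∀ o : Over Z, (σ.hom.toNatTrans.app o).hom.fst = aI.hom.toNatTrans.app ((AlgSt.overMap jn).obj o) :=
      fun o => Stk.EltObj.hom_ext ((hom_app ((post _ (FibCat.fpFst y₀ f)).map σ.hom) o).trans
        (hom_app aI.hom ((AlgSt.overMap jn).obj o)).symm)
    have eb : ∀ o : Over Z, (σ.hom.toNatTrans.app o).hom.snd = bI.hom.toNatTrans.app ((AlgSt.overMap jn).obj o) :=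
      fun o => Stk.EltObj.hom_ext ((hom_app ((post _ (FibCat.fpSnd y₀ f)).map σ.hom) o).trans
        (hom_app bI.hom ((AlgSt.overMap jn).obj o)).symm)
    have inj := InjSec.transport h𝒳.isStack h𝒳d h𝒴.isStack h𝒴d (hxy.overMap g𝒴 u₁)
      (injSec_of_unramified g𝒳 jn hn hx u₁)
    have hδ : ∀ o : Over P, δ.hom.toNatTrans.app o = 𝟙 _ := fun o =>
      eq_id_of_injSec g𝒴 inj ζ δ.hom (fun o => by
        let t := (AlgSt.overMap jn).obj o
        have hσ : y₀.map (σ.hom.toNatTrans.app o).hom.fst ≫ θ₂.hom.toNatTrans.app t =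
            θ₁.hom.toNatTrans.app t ≫ f.map (σ.hom.toNatTrans.app o).hom.snd := (σ.hom.toNatTrans.app o).hom.w
        rw [ea, eb] at hσ
        show y₀.map (aI.hom.toNatTrans.app t) ≫ θ₂.hom.toNatTrans.app t ≫ f.map (bI.inv.toNatTrans.app t) ≫
          θ₁.inv.toNatTrans.app t = 𝟙 _
        rw [reassoc_of% hσ, ← Functor.map_comp_assoc]
        have hb : bI.hom.toNatTrans.app t ≫ bI.inv.toNatTrans.app t = 𝟙 _ :=
          congrArg (fun k => (BasedNatTrans.toNatTrans k).app t) bI.hom_inv_id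
        have ht : θ₁.hom.toNatTrans.app t ≫ θ₁.inv.toNatTrans.app t = 𝟙 _ :=
          congrArg (fun k => (BasedNatTrans.toNatTrans k).app t) θ₁.hom_inv_id
        refine Eq.trans ?_ ht
        congr 1
        refine (congrArg (· ≫ _) ((congrArg (fun k => f.map k) hb).trans (f.toFunctor.map_id _))).trans ?_
        exact Category.id_comp _) o
    have hL : L₁ ≅ L₂ := fpExt aI bI fun o => by
      show y₀.map (aI.hom.toNatTrans.app o) ≫ θ₂.hom.toNatTrans.app o =
        θ₁.hom.toNatTrans.app o ≫ f.map (bI.hom.toNatTrans.app o)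
      have hd := hδ o
      change y₀.map (aI.hom.toNatTrans.app o) ≫ θ₂.hom.toNatTrans.app o ≫ f.map (bI.inv.toNatTrans.app o) ≫
          θ₁.inv.toNatTrans.app o = 𝟙 _ at hd
      have hb : bI.inv.toNatTrans.app o ≫ bI.hom.toNatTrans.app o = 𝟙 _ :=
        congrArg (fun k => (BasedNatTrans.toNatTrans k).app o) bI.inv_hom_id
      have ht : θ₁.inv.toNatTrans.app o ≫ θ₁.hom.toNatTrans.app o = 𝟙 _ :=
        congrArg (fun k => (BasedNatTrans.toNatTrans k).app o) θ₁.inv_hom_id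
      have := congrArg (· ≫ θ₁.hom.toNatTrans.app o ≫ f.map (bI.hom.toNatTrans.app o)) hd
      simp only [Category.assoc, reassoc_of% ht, ← Functor.map_comp, hb, CategoryTheory.Functor.map_id,
        Category.comp_id, Category.id_comp] at this
      refine Eq.trans ?_ this
      exact congrArg (y₀.map (aI.hom.toNatTrans.app o) ≫ ·)
        ((Category.comp_id _).symm.trans (congrArg (θ₂.hom.toNatTrans.app o ≫ ·) (f.toFunctor.map_id _).symm))
    obtain ⟨k, -, ⟨ek⟩, -⟩ := isEquivOver_symm he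
    have hd : (yon S).map q₁ ≫ d = (yon S).map q₂ ≫ d := by
      refine ObjectProperty.hom_ext _ ?_
      rw [← mapOf_overMap_chart, ← mapOf_overMap_chart]
      exact mapOf_congr ((Stk.restr (toOverCat P) _).mapIso
        (((Stk.restr (BasedFunctor.comp (AlgSt.overMap q₁) C) _).mapIso ek).symm ≪≫ (post _ k).mapIso hL ≪≫
          (Stk.restr (BasedFunctor.comp (AlgSt.overMap q₂) C) _).mapIso ek))
    -- an etale chart has no two lifts
    obtain ⟨K, fst, snd, sqK, hsnd⟩ := exists_repWith hde ((yon S).map q₁ ≫ d)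
    obtain ⟨s₁, hs₁⟩ := (yon S).map_surjective (sqK.lift ((yon S).map q₁) (𝟙 _) (by rw [Category.id_comp]))
    obtain ⟨s₂, hs₂⟩ := (yon S).map_surjective (sqK.lift ((yon S).map q₂) (𝟙 _) (by rw [Category.id_comp, hd]))
    have hsnd₁ : s₁ ≫ snd = 𝟙 P := (yon S).map_injective (by
      rw [Functor.map_comp, hs₁, sqK.lift_snd, CategoryTheory.Functor.map_id])
    have hsnd₂ : s₂ ≫ snd = 𝟙 P := (yon S).map_injective (by
      rw [Functor.map_comp, hs₂, sqK.lift_snd, CategoryTheory.Functor.map_id])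
    have hjs : jn ≫ s₁ = jn ≫ s₂ := (yon S).map_injective (sqK.hom_ext
      (by rw [Functor.map_comp, Functor.map_comp, Category.assoc, Category.assoc, hs₁, hs₂, sqK.lift_fst,
          sqK.lift_fst, ← Functor.map_comp, ← Functor.map_comp, hq])
      (by rw [Functor.map_comp, Functor.map_comp, Category.assoc, Category.assoc, hs₁, hs₂, sqK.lift_snd,
          sqK.lift_snd]))
    haveI : Etale snd.left := hsnd
    have hs : s₁ = s₂ := Over.OverMorphism.ext (FormallyUnramified.hom_ext jn.left hn snd.left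
      (congrArg CommaMorphism.left hjs) (congrArg CommaMorphism.left (hsnd₁.trans hsnd₂.symm)))
    have hq12 : q₁ = q₂ := (yon S).map_injective (by
      rw [← sqK.lift_fst ((yon S).map q₁) (𝟙 _) (by rw [Category.id_comp]), ← hs₁, hs, hs₂, sqK.lift_fst])
    exact congrArg CommaMorphism.left hq12
  have hW : LocP (@LocallyOfFiniteType ⊓ @FormallyUnramified) πW :=
    locP_of_chart etST_unramified G.property (IsAlgSpace.yon_obj W) hde hds repWith_id'
      (by rw [Category.comp_id, hβ'])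
      ⟨hlft d (𝟙 _) β hde repWith_id' (by rw [Category.comp_id, hβ']), hunr⟩
  refine (repWith_overCat_iff _ U y).2 ?_
  refine repWith_of_lifts cls_unramified.bc cls_unramified.loc hy₁
    (lifts_of_fppf (repWith_flat_of_smooth hf) (repWith_lfp_of_smooth hf) hf')
    (repWith_fpFst_of_model cls_unramified.bc (w := f) (W := spOf W) (V := G)
      (a := (ObjectProperty.homMk πW : G ⟶ spOf W))
      (e := BasedFunctor.comp e (swapFun y₀ f)) (isEquivOver_comp he (isEquivOver_swapFun y₀ f))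
      (mapOfIso _).symm hW)

end Groth.Agent.IsoNatLib

end
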