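import Groth.Agent.IsoNatLib.Twist
import Groth.Agent.AlgStLib.Cancel
import Groth.Agent.AlgStLib.DiagProps
import Groth.Agent.AlgStLib.OpenSub
import Groth.Agent.AlgStLib.Faithful
import Groth.Agent.S6404

/-!
# Separated diagonals, and stacks without automorphisms
-/

set_option autoImplicit false
set_option backward.isDefEq.respectTransparency false
set_option backward.isDefEq.respectTransparency.types false
set_option linter.style.haveILetI false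
universe u

noncomputable section

namespace Groth.Agent.IsoNatLib

open CategoryTheory AlgebraicGeometry Groth.Agent.FibCatRep

variable {S : Scheme.{u}} {𝒳 : AlgSt.Cat S}

/-- a morphism into an affine scheme which is injective on global functions factors through no proper
closed subscheme -/
theorem isIso_of_factor {M L Z : Scheme.{u}} [IsAffine L] (m : M ⟶ L) (hm : Function.Injective m.appTop)
    (ι : Z ⟶ L) (k : M ⟶ Z) (hι : IsClosedImmersion ι) (hk : k ≫ ι = m) : IsIso ι := by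
  obtain ⟨h₁, h₂⟩ := IsClosedImmersion.isAffine_surjective_of_isAffine ι
  haveI := h₁
  have hinj : Function.Injective ι.appTop := by
    intro a b h
    apply hm
    rw [← hk, Scheme.Hom.comp_appTop, ConcreteCategory.comp_apply, ConcreteCategory.comp_apply, h]
  haveI : IsIso ι.appTop := (ConcreteCategory.isIso_iff_bijective _).2 ⟨hinj, h₂⟩
  exact (HasAffineProperty.iff_of_isAffine (P := MorphismProperty.isomorphisms Scheme.{u})).2
    ⟨inferInstance, inferInstance⟩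

/-- morphisms of objects agreeing on a schematically dense subscheme are equal, when the diagonal is separated -/
theorem eq_of_dense (h𝒳 : FibCat.IsFibGrpd 𝒳.p)
    (hd : AlgSt.RepByAlgSpWith AlgSp.IsSeparatedMor (FibCat.diag (FibCat.toSelf 𝒳))) {M L : Over S} (m : M ⟶ L)
    (hm : ∀ {Z : Scheme.{u}} (ι : Z ⟶ L.left) (k : M.left ⟶ Z), IsClosedImmersion ι → k ≫ ι = m.left → IsIso ι)
    {ξ ξ' y : 𝒳.obj} (hξ : 𝒳.p.obj ξ = L) (α β : ξ ⟶ ξ') (hp : 𝒳.p.map α = 𝒳.p.map β) (μ : y ⟶ ξ)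
    (hy : 𝒳.p.obj y = M) (hμ : 𝒳.p.map μ = eqToHom hy ≫ m ≫ eqToHom hξ.symm) (h : μ ≫ α = μ ≫ β) : α = β := by
  obtain ⟨σ, ⟨hσ, hσα⟩, -⟩ := existsUnique_cart h𝒳 α β (𝟙 _) (by rw [Category.id_comp, hp])
  suffices e : σ = 𝟙 ξ by rw [← hσα, e, Category.id_comp]
  have hμσ : μ ≫ σ = μ := cancel h𝒳 α (by rw [Functor.map_comp, hσ, Category.comp_id])
    (by rw [Category.assoc, hσα, h])
  haveI : IsIso (𝒳.p.map σ) := by rw [hσ]; infer_instance
  haveI := isIso_of_map h𝒳 σ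
  let I := FibCat.inertia (FibCat.toSelf 𝒳)
  have hI : FibCat.IsFibGrpd I.p := Groth.Agent.S6404.result h𝒳
  let o : I.obj := ⟨ξ, asIso σ, hσ⟩
  haveI := Groth.Agent.S6409.result hI L
  let pt : I.p.Fiber L := ⟨o, hξ⟩
  let y₀ := (FibCat.evalAtId I L).objPreimage pt
  let top : Over L := Over.mk (𝟙 L)
  let ε : y₀.obj top ≅ o :=
    Functor.Fiber.fiberInclusion.mapIso ((FibCat.evalAtId I L).objObjPreimageIso pt)
  have hε : I.p.map ε.hom = eqToHom ((y₀.w_obj top).trans hξ.symm) :=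
    map_of_fiber ((FibCat.evalAtId I L).objObjPreimageIso pt).hom
  let z : Over L := Over.mk m
  let n : y₀.obj z ⟶ o := y₀.map (Over.homMk m (Category.comp_id _) : z ⟶ top) ≫ ε.hom
  have hn : I.p.map n = eqToHom (y₀.w_obj z) ≫ m ≫ eqToHom hξ.symm := by
    show I.p.map (_ ≫ _) = _
    rw [Functor.map_comp, map_map, hε]
    simp
    rfl
  have hn' : 𝒳.p.map n.hom = eqToHom (y₀.w_obj z) ≫ m ≫ eqToHom hξ.symm := hn
  obtain ⟨χ, ⟨hχ, hχμ⟩, -⟩ := existsUnique_cart h𝒳 μ n.hom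
    (eqToHom ((y₀.w_obj z).trans hy.symm)) (by rw [hn', hμ]; simp)
  have hnσ : n.hom ≫ σ = n.hom := by rw [← hχμ, Category.assoc, hμσ]
  have haut : (y₀.obj z).aut.hom = 𝟙 _ := by
    refine cancel h𝒳 n.hom ?_ ?_
    · rw [FibCat.InertiaObj.map_aut (y₀.obj z) |> fun e => (show 𝒳.p.map (y₀.obj z).aut.hom = 𝟙 _ from e),
        CategoryTheory.Functor.map_id]
    · rw [Category.id_comp, n.comm]
      exact hnσ
  -- the neutral locus is a closed subscheme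
  obtain ⟨V, ι, e, he, hι, ⟨i⟩⟩ := AlgStLib.exists_scheme_model
    (AlgStLib.repWith_neutral_iff.2 (AlgStLib.isClosedImm_diag_of_separated hd)) L y₀
  let j₀ : y₀.obj z ≅ (FibCat.inertiaNeutral (FibCat.toSelf 𝒳)).obj (y₀.obj z).pt :=
    { hom := ⟨𝟙 _, by
        show (y₀.obj z).aut.hom ≫ 𝟙 _ = 𝟙 _ ≫ 𝟙 _
        rw [haut]⟩
      inv := ⟨𝟙 _, by
        show 𝟙 _ ≫ 𝟙 _ = 𝟙 _ ≫ (y₀.obj z).aut.hom
        rw [haut]⟩
      hom_inv_id := FibCat.InertiaObj.hom_ext (Category.id_comp _)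
      inv_hom_id := FibCat.InertiaObj.hom_ext (Category.id_comp _) }
  let η : (FibCat.fp y₀ (FibCat.inertiaNeutral (FibCat.toSelf 𝒳))).obj :=
    ⟨⟨z, (y₀.obj z).pt, j₀⟩, fpProp_of_map y₀ _ _ rfl (𝒳.p.map_id _)⟩
  obtain ⟨w, iw, -, -⟩ := (isEquivOver_data he).2 η
  let jw : z ≅ (AlgSt.overMap ι).obj w :=
    ((FibCat.fpFst y₀ (FibCat.inertiaNeutral (FibCat.toSelf 𝒳))).toFunctor.mapIso iw).symm ≪≫
      ((BasedNatTrans.forgetful _ _).mapIso i).app w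
  have hk : (jw.hom.left ≫ w.hom).left ≫ ι.left = m.left := by
    have h' : jw.hom.left ≫ w.hom ≫ ι = m := Over.w jw.hom
    rw [← Over.comp_left, Category.assoc, h']
  haveI : IsIso ι.left := hm ι.left _ hι hk
  haveI : IsIso ((Over.forget S).map ι) := ‹IsIso ι.left›
  haveI : IsIso ι := isIso_of_reflects_iso ι (Over.forget S)
  let w₁ : Over V := Over.mk (inv ι)
  let η₁ := e.obj w₁
  let f₁ : η₁.obj.fst ≅ top := ((BasedNatTrans.forgetful _ _).mapIso i).app w₁ ≪≫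
    Over.isoMk (Iso.refl _) (show 𝟙 _ ≫ 𝟙 L = inv ι ≫ ι by rw [Category.id_comp, IsIso.inv_hom_id])
  let φ : o ≅ (FibCat.inertiaNeutral (FibCat.toSelf 𝒳)).obj η₁.obj.snd :=
    ε.symm ≪≫ y₀.toFunctor.mapIso f₁.symm ≪≫ η₁.obj.iso
  have hφ : σ ≫ φ.hom.hom = φ.hom.hom ≫ 𝟙 _ := φ.hom.comm
  rw [Category.comp_id] at hφ
  haveI : IsIso φ.hom.hom := ⟨φ.inv.hom, congrArg FibCat.InertiaObj.Hom.hom φ.hom_inv_id,
    congrArg FibCat.InertiaObj.Hom.hom φ.inv_hom_id⟩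
  exact (cancel_mono φ.hom.hom).1 (hφ.trans (Category.id_comp _).symm)

/-- single fppf coverings cover -/
theorem mem_J_singleton {T T' : Over S} (π : T' ⟶ T) [Flat π.left] [Surjective π.left]
    [LocallyOfFinitePresentation π.left] :
    Sieve.generate (Presieve.ofArrows (fun _ : PUnit.{u + 1} => T') (fun _ => π)) ∈ Jf S T := by
  refine AlgSpLib.generate_ofArrows_mem_J _ ?_
  rw [Scheme.fppfPrecoverage, Scheme.ofArrows_mem_precoverage_iff]
  refine ⟨fun t => ?_, fun _ => ⟨inferInstance, inferInstance⟩⟩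
  obtain ⟨s, hs⟩ := π.left.surjective t
  exact ⟨⟨⟩, s, hs⟩

theorem eq_of_clean (h𝒳 : FibCat.IsFibGrpd 𝒳.p) (hc : ∀ η : 𝒳.obj, IsoNat.IsClean η) {a b : 𝒳.obj}
    (α β : a ⟶ b) (hp : 𝒳.p.map α = 𝒳.p.map β) : α = β := by
  obtain ⟨χ, ⟨hχ, hc'⟩, -⟩ := existsUnique_cart h𝒳 α β (𝟙 _) (by rw [Category.id_comp, hp])
  rw [← hc', hc a a (𝟙 a) χ hχ, Category.id_comp]

/-- without automorphisms, isomorphism classes are separated -/
theorem sepIsoCl_of_clean (hS : Stk.IsStack (Jf S) 𝒳) (hc : ∀ η : 𝒳.obj, IsoNat.IsClean η) : SepIsoCl 𝒳 := by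
  intro T T' π _ _ _ x₁ x₂ x₁' x₂' a₁ a₂ h₁ h₂ hi
  obtain ⟨i⟩ := hi
  have hg := hS.1
  haveI := h₁
  haveI := h₂
  obtain ⟨G₁, hG₁⟩ := exists_objCls hg (IsoNat.cls x₁)
  obtain ⟨G₂, hG₂⟩ := exists_objCls hg (IsoNat.cls x₂)
  obtain ⟨e₁⟩ := Quotient.exact hG₁
  obtain ⟨e₂⟩ := Quotient.exact hG₂
  let R : Sieve T := Sieve.generate (Presieve.ofArrows (fun _ : PUnit.{u + 1} => T') (fun _ => π))
  have hex : ∀ w : (Stk.sieveCat R).obj, ∃ χ : G₁.obj w.obj ⟶ G₂.obj w.obj,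
      𝒳.p.map χ = eqToHom ((G₁.w_obj w.obj).trans (G₂.w_obj w.obj).symm) := by
    intro w
    obtain ⟨Z, c, _, ⟨⟩, hc'⟩ := w.property
    let m : w.obj ⟶ Over.mk (𝟙 T) := Over.homMk w.obj.hom (Category.comp_id _)
    have f₁ := IsHomLift.fac' 𝒳.p π a₁
    have f₂ := IsHomLift.fac' 𝒳.p π a₂
    have g₁ : 𝒳.p.map e₁.hom.1 = eqToHom ((G₁.w_obj (Over.mk (𝟙 T))).trans x₁.2.symm) := map_of_fiber e₁.hom
    have g₂ : 𝒳.p.map e₂.hom.1 = eqToHom ((G₂.w_obj (Over.mk (𝟙 T))).trans x₂.2.symm) := map_of_fiber e₂.hom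
    have gi : 𝒳.p.map i.hom.1 = eqToHom (x₁'.2.trans x₂'.2.symm) := map_of_fiber i.hom
    have hm : (FibCat.overCat T).p.map m = c ≫ π := hc'.symm
    obtain ⟨b₁, ⟨hb₁, -⟩, -⟩ := existsUnique_cart hg a₁ (G₁.map m ≫ e₁.hom.1)
      (eqToHom (G₁.w_obj w.obj) ≫ c ≫ eqToHom x₁'.2.symm) (by
        rw [Functor.map_comp, map_map, g₁, f₁]
        rw [hm]
        simp)
    obtain ⟨χ, ⟨hχ, -⟩, -⟩ := existsUnique_cart hg (G₂.map m ≫ e₂.hom.1) (b₁ ≫ i.hom.1 ≫ a₂)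
      (eqToHom ((G₁.w_obj w.obj).trans (G₂.w_obj w.obj).symm)) (by
        rw [Functor.map_comp, Functor.map_comp, Functor.map_comp, map_map, g₂, f₂, gi, hb₁]
        rw [hm]
        simp)
    exact ⟨χ, hχ⟩
  choose χ hχ using hex
  let γ : (Stk.resSieve R 𝒳).obj G₁ ⟶ (Stk.resSieve R 𝒳).obj G₂ :=
    { app := χ
      naturality := fun w w' n => eq_of_clean hg hc _ _ (by
        show 𝒳.p.map (G₁.map n.hom ≫ χ w') = 𝒳.p.map (χ w ≫ G₂.map n.hom)
        simp [map_map, hχ])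
      isHomLift' := fun w => IsHomLift.of_fac' 𝒳.p _ _ (G₁.w_obj w.obj) (G₂.w_obj w.obj)
        ((hχ w).trans (by simp)) }
  haveI : (Stk.resSieve R 𝒳).IsEquivalence := hS.2 R (mem_J_singleton π)
  obtain ⟨δ, -⟩ := (Stk.resSieve R 𝒳).map_surjective γ
  exact Quotient.exact ((hG₁.symm.trans (cls_eq_of_vertical hg _ _ (δ.toNatTrans.app (Over.mk (𝟙 T)))
    (map_app δ (Over.mk (𝟙 T))))).trans hG₂)

end Groth.Agent.IsoNatLib

end
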