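import Groth.Agent.IsoNatLib.LiftDVR
import Groth.Agent.IsoNatLib.Separated

/-!
# Lifts along diagonals are read from isomorphism classes on doublings
-/

set_option autoImplicit false
set_option backward.isDefEq.respectTransparency false
set_option backward.isDefEq.respectTransparency.types false
set_option linter.style.haveILetI false
set_option maxHeartbeats 1000000
universe u

noncomputable section

namespace Groth.Agent.IsoNatLib.DiagCrit

open CategoryTheory CategoryTheory.Limits AlgebraicGeometry Opposite Groth.Agent.FibCatRep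
  Groth.Agent.FibCat2Misc Groth.Agent.AlgStLib
open Groth.Agent.IsoNatLib.DoubleGlue Groth.Agent.IsoNatLib.LiftDVR

variable {S : Scheme.{u}} {𝒳 𝒴 𝒳' 𝒴' : AlgSt.Cat S} {f : 𝒳 ⥤ᵇ 𝒴} {f' : 𝒳' ⥤ᵇ 𝒴'} {T W : Over S}

/-- an object over the doubling whose image comes from below comes from below -/
def Crit (f : 𝒳 ⥤ᵇ 𝒴) (j : W ⟶ T) [IsOpenImmersion j.left] : Prop :=
  ∀ c : FibCat.overCat (dbl (Vj j)) ⥤ᵇ 𝒳,
    (∃ η : FibCat.overCat T ⥤ᵇ 𝒴,
      Nonempty (BasedFunctor.comp c f ≅ BasedFunctor.comp (AlgSt.overMap (dp (Vj j))) η)) →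
    ∃ ξ : FibCat.overCat T ⥤ᵇ 𝒳, Nonempty (c ≅ BasedFunctor.comp (AlgSt.overMap (dp (Vj j))) ξ)

variable (j : W ⟶ T) [IsOpenImmersion j.left]

theorem Crit.transport (h𝒳 : FibCat.IsFibGrpd 𝒳.p) (h𝒴 : FibCat.IsFibGrpd 𝒴.p) (h𝒳' : FibCat.IsFibGrpd 𝒳'.p)
    (h𝒴' : FibCat.IsFibGrpd 𝒴'.p) (φ : IsoNat.FIsoSq f f') (h : Crit f j) : Crit f' j := by
  rintro c' ⟨η', hη'⟩
  obtain ⟨c, hc⟩ := Rel.exists_left h𝒳 φ.src c'
  obtain ⟨η, hη⟩ := Rel.exists_left h𝒴 φ.tgt η'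
  obtain ⟨ξ, hξ⟩ := h c ⟨η, Rel.nonempty_iso_symm h𝒴 h𝒴' (hc.comp φ) (hη.overMap h𝒴' _) hη'⟩
  obtain ⟨ξ', hξ'⟩ := Rel.exists_right h𝒳' φ.src ξ
  exact ⟨ξ', Rel.nonempty_iso h𝒳' hc (hξ'.overMap h𝒳' _) hξ⟩

omit [IsOpenImmersion j.left] in
lemma snd_map (o : (FibCat.fp f f).obj) {o' : (FibCat.fp f f).obj} (M : o ⟶ o') {h}
    (hM : (FibCat.fp f f).p.map M = eqToHom h) : ∃ h', 𝒳.p.map M.hom.snd = eqToHom h' := by
  have hl : 𝒳.p.IsHomLift ((FibCat.fp f f).p.map M) M.hom.snd := FibCat.fp_isHomLift_snd f f M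
  have := IsHomLift.fac' 𝒳.p ((FibCat.fp f f).p.map M) M.hom.snd
  exact ⟨((IsHomLift.domain_eq 𝒳.p ((FibCat.fp f f).p.map M) M.hom.snd).trans h).trans
    (IsHomLift.codomain_eq 𝒳.p ((FibCat.fp f f).p.map M) M.hom.snd).symm,
    this.trans ((congrArg (fun k => eqToHom _ ≫ k ≫ eqToHom _) hM).trans (by simp))⟩

/-- lifts along the diagonal give the criterion -/
theorem crit_of_liftAt (h𝒳 : Stk.IsStack (Jf S) 𝒳)
    (h : ∀ x : FibCat.overCat T ⥤ᵇ FibCat.fp f f, LiftAt (FibCat.diag f) x j) : Crit f j := by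
  rintro c ⟨η, ⟨i⟩⟩
  have hg := h𝒳.1
  let djb := dj (Vj j)
  let x₁ := BasedFunctor.comp (AlgSt.overMap (djb true)) c
  let x₂ := BasedFunctor.comp (AlgSt.overMap (djb false)) c
  let I : ∀ w, f.obj (c.obj w) ≅ η.obj ((AlgSt.overMap (dp (Vj j))).obj w) := fun w =>
    ((BasedNatTrans.forgetful _ _).mapIso i).app w
  let δ : ∀ o : Over T, (AlgSt.overMap (dp (Vj j))).obj ((AlgSt.overMap (djb true)).obj o) ≅
      (AlgSt.overMap (dp (Vj j))).obj ((AlgSt.overMap (djb false)).obj o) := fun o =>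
    Over.isoMk (Iso.refl _) (by
      show 𝟙 _ ≫ (o.hom ≫ djb false) ≫ dp (Vj j) = (o.hom ≫ djb true) ≫ dp (Vj j)
      rw [Category.id_comp, Category.assoc o.hom, Category.assoc o.hom, dj_dp, dj_dp])
  let eI : BasedFunctor.comp x₁ f ≅ BasedFunctor.comp x₂ f := BasedNatIso.mkNatIso
    (NatIso.ofComponents
      (fun o => I _ ≪≫ η.toFunctor.mapIso (δ o) ≪≫ (I _).symm)
      (fun {o' o} m => by
        have n₁ := i.hom.toNatTrans.naturality ((AlgSt.overMap (djb true)).map m)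
        have n₂ := i.hom.toNatTrans.naturality ((AlgSt.overMap (djb false)).map m)
        show f.map (c.map _) ≫ (I _).hom ≫ η.map (δ o).hom ≫ (I _).inv =
          ((I _).hom ≫ η.map (δ o').hom ≫ (I _).inv) ≫ f.map (c.map _)
        change f.map (c.map _) ≫ (I _).hom = (I _).hom ≫ η.map _ at n₁
        change f.map (c.map _) ≫ (I _).hom = (I _).hom ≫ η.map _ at n₂
        rw [reassoc_of% n₁, Category.assoc, Category.assoc]
        congr 1
        have n₂' : (I _).inv ≫ f.map (c.map ((AlgSt.overMap (djb false)).map m)) =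
            η.map ((AlgSt.overMap (dp (Vj j))).map ((AlgSt.overMap (djb false)).map m)) ≫ (I _).inv := by
          rw [Iso.inv_comp_eq, ← Category.assoc, ← n₂, Category.assoc, Iso.hom_inv_id, Category.comp_id]
        rw [n₂', ← Category.assoc, ← Category.assoc, ← Functor.map_comp, ← Functor.map_comp]
        congr 2))
    (fun o => IsHomLift.of_fac' 𝒴.p _ _ ((f.w_obj _).trans (x₁.w_obj o)) ((f.w_obj _).trans (x₂.w_obj o)) (by
      show 𝒴.p.map ((I _).hom ≫ η.map (δ o).hom ≫ (I _).inv) = _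
      rw [Functor.map_comp, Functor.map_comp, FibCatRep.map_map]
      show 𝒴.p.map (i.hom.toNatTrans.app _) ≫ (_ ≫ 𝟙 _ ≫ _) ≫ 𝒴.p.map (i.inv.toNatTrans.app _) = _
      rw [map_app, map_app]
      simp))
  let x := FibCat.fpLift x₁ x₂ eI
  let ξK := c.obj (Over.mk (j ≫ djb true))
  let sw₀ : (Over.mk (j ≫ djb false) : Over (dbl (Vj j))) ≅ Over.mk (j ≫ djb true) := Over.isoMk (Iso.refl _) (by
    show 𝟙 _ ≫ j ≫ djb true = j ≫ djb false
    rw [Category.id_comp, dj_eq j true false])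
  let iK : x.obj (Over.mk j) ≅ (FibCat.diag f).obj ξK :=
    ObjectProperty.isoMk _ (CategoricalPullback.mkIso (Iso.refl _) (c.toFunctor.mapIso sw₀) (by
      show f.map (𝟙 _) ≫ 𝟙 _ = ((I (Over.mk (j ≫ djb true))).hom ≫ η.map (δ (Over.mk j)).hom ≫
        (I (Over.mk (j ≫ djb false))).inv) ≫ f.map (c.map sw₀.hom)
      have n : f.map (c.map sw₀.hom) ≫ (I _).hom = (I _).hom ≫ η.map ((AlgSt.overMap (dp (Vj j))).map sw₀.hom) :=
        i.hom.toNatTrans.naturality sw₀.hom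
      rw [← Iso.eq_comp_inv, Category.assoc] at n
      rw [Category.comp_id, f.toFunctor.map_id, n, Category.assoc, Category.assoc, Iso.inv_hom_id_assoc,
        ← Functor.map_comp_assoc]
      have e : (δ (Over.mk j)).hom ≫ (AlgSt.overMap (dp (Vj j))).map sw₀.hom = 𝟙 _ :=
        Over.OverMorphism.ext (Category.id_comp _)
      have e' := (congrArg (fun k => η.map k) e).trans (η.toFunctor.map_id _)
      exact ((congrArg ((I _).hom ≫ ·) ((congrArg (· ≫ _) e').trans (Category.id_comp _))).trans (Iso.hom_inv_id _)).symm))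
  obtain ⟨ξ, iA, μ, ⟨hA, hA'⟩, hμ⟩ := h x ξK iK ⟨rfl, by
    show 𝒳.p.map (𝟙 _) = _
    rw [CategoryTheory.Functor.map_id]
    rfl⟩
  let k₁ : x₁.obj (Over.mk (𝟙 T)) ⟶ ξ := iA.hom.hom.fst
  let k₂ : x₂.obj (Over.mk (𝟙 T)) ⟶ ξ := iA.hom.hom.snd
  have hk₁ : 𝒳.p.map k₁ = eqToHom hA := hA'
  obtain ⟨hA₂, hk₂⟩ := snd_map _ iA.hom hA'
  change 𝒳.p.map k₂ = _ at hk₂
  haveI : IsIso (𝒳.p.map k₂) := by rw [hk₂]; infer_instance
  haveI := isIso_of_map hg k₂
  have m₁ : μ = x₁.map (toId j) ≫ k₁ := (Category.id_comp μ).symm.trans (congrArg (fun t => t.hom.fst) hμ)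
  have m₂ : c.map sw₀.hom ≫ μ = x₂.map (toId j) ≫ k₂ := congrArg (fun t => t.hom.snd) hμ
  let κ : ∀ b, (Over.mk (djb b) : Over (dbl (Vj j))) ⟶ (AlgSt.overMap (djb b)).obj (Over.mk (𝟙 T)) := fun b =>
    Over.homMk (𝟙 T) (by
      show 𝟙 T ≫ 𝟙 T ≫ djb b = djb b
      simp)
  let e : ∀ b, c.obj (Over.mk (djb b)) ⟶ x₂.obj (Over.mk (𝟙 T)) := fun b => match b with
    | true => c.map (κ true) ≫ k₁ ≫ inv k₂
    | false => c.map (κ false)
  refine ⟨x₂, nonempty_iso_pullback h𝒳 c x₂ e (fun b => ?_) ?_⟩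
  · cases b
    · show 𝒳.p.map (c.map (κ false)) = _
      rw [FibCatRep.map_map]
      show _ ≫ 𝟙 T ≫ _ = _
      simp
      rfl
    · show 𝒳.p.map (c.map (κ true) ≫ k₁ ≫ inv k₂) = _
      rw [Functor.map_comp, Functor.map_comp, hk₁, map_inv_of_eqToHom k₂ hk₂, FibCatRep.map_map]
      show (_ ≫ 𝟙 T ≫ _) ≫ _ = _
      simp
  · have e₁ : c.map (swp j true) ≫ c.map (κ true) = x₁.map (toId j) := by
      rw [← Functor.map_comp]
      show _ = c.map _
      congr 1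
    have e₂ : c.map (swp j false) ≫ c.map (κ false) = c.map sw₀.inv ≫ x₂.map (toId j) := by
      show _ = c.map _ ≫ c.map _
      rw [← Functor.map_comp, ← Functor.map_comp]
      congr 1
    show c.map (swp j true) ≫ c.map (κ true) ≫ k₁ ≫ inv k₂ = c.map (swp j false) ≫ c.map (κ false)
    rw [reassoc_of% e₁, e₂, ← Category.assoc (x₁.map (toId j)), ← m₁, IsIso.comp_inv_eq,
      Category.assoc, ← m₂, ← Category.assoc, ← Functor.map_comp, Iso.inv_hom_id, c.toFunctor.map_id]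
    exact (Category.id_comp μ).symm

/-- the criterion gives lifts along the diagonal -/
theorem liftAt_of_crit (h𝒳 : Stk.IsStack (Jf S) 𝒳) (h𝒴 : Stk.IsStack (Jf S) 𝒴)
    (hd : AlgSt.RepByAlgSpWith AlgSp.IsSeparatedMor (FibCat.diag (FibCat.toSelf 𝒴)))
    (hdense : ∀ {Z : Scheme.{u}} (ι : Z ⟶ T.left) (k : W.left ⟶ Z), IsClosedImmersion ι → k ≫ ι = j.left → IsIso ι)
    (h : Crit f j) (x : FibCat.overCat T ⥤ᵇ FibCat.fp f f) : LiftAt (FibCat.diag f) x j := by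
  intro ξK iK hiK
  obtain ⟨hK, hK'⟩ := hiK
  have hg := h𝒳.1
  let x₁ := BasedFunctor.comp x (FibCat.fpFst f f)
  let x₂ := BasedFunctor.comp x (FibCat.fpSnd f f)
  let βi := (x.obj (Over.mk (𝟙 T))).obj.iso
  let k₁ : x₁.obj (Over.mk j) ⟶ ξK := iK.hom.hom.fst
  let k₂ : x₂.obj (Over.mk j) ⟶ ξK := iK.hom.hom.snd
  have hk₁ : 𝒳.p.map k₁ = eqToHom hK := hK'
  obtain ⟨hK₂, hk₂⟩ := snd_map _ iK.hom hK'
  change 𝒳.p.map k₂ = _ at hk₂
  haveI : IsIso (𝒳.p.map k₁) := by rw [hk₁]; infer_instance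
  haveI := isIso_of_map hg k₁
  haveI : IsIso (𝒳.p.map k₂) := by rw [hk₂]; infer_instance
  haveI := isIso_of_map hg k₂
  have hw : f.map k₁ ≫ 𝟙 _ = (x.obj (Over.mk j)).obj.iso.hom ≫ f.map k₂ := iK.hom.hom.w
  rw [Category.comp_id] at hw
  let α : x₁.obj (Over.mk j) ⟶ x₂.obj (Over.mk j) := k₁ ≫ inv k₂
  have hβj : f.map α = (x.obj (Over.mk j)).obj.iso.hom := by
    rw [Functor.map_comp, hw, Category.assoc, ← Functor.map_comp, IsIso.hom_inv_id, f.toFunctor.map_id,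
      Category.comp_id]
  have hnat : f.map (x₁.map (toId j)) ≫ βi.hom = f.map α ≫ f.map (x₂.map (toId j)) := by
    rw [hβj]
    exact (x.map (toId j)).hom.w
  obtain ⟨c, e, ρ, he, hρ, ht, hf⟩ := exists_glue (j := j) h𝒳 (fun b => cond b x₁ x₂) α (by
    show 𝒳.p.map (k₁ ≫ inv k₂) = _
    rw [Functor.map_comp, hk₁, map_inv_of_eqToHom k₂ hk₂]
    simp)
  have het : 𝒳.p.map (e true) = eqToHom ((c.w_obj (Over.mk (dj (Vj j) true))).trans (x₁.w_obj (Over.mk (𝟙 T))).symm) :=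
    he true
  have hef : 𝒳.p.map (e false) = eqToHom ((c.w_obj (Over.mk (dj (Vj j) false))).trans (x₂.w_obj (Over.mk (𝟙 T))).symm) :=
    he false
  obtain ⟨hb, hb'⟩ := map_iso_hom (x.obj (Over.mk (𝟙 T)))
  -- the image comes from below
  have himg := nonempty_iso_pullback h𝒴 (BasedFunctor.comp c f) (BasedFunctor.comp x₂ f)
    (fun b => match b with
      | true => f.map (e true) ≫ βi.hom
      | false => f.map (e false)) (fun b => by
      cases b
      · show 𝒴.p.map (f.map (e false)) = _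
        rw [FibCatRep.map_map, hef]
        simp
      · show 𝒴.p.map (f.map (e true) ≫ βi.hom) = _
        rw [Functor.map_comp, FibCatRep.map_map, het, hb']
        simp) (by
      show f.map (c.map (swp j true)) ≫ f.map (e true) ≫ βi.hom = f.map (c.map (swp j false)) ≫ f.map (e false)
      have ht' : f.map (c.map (swp j true)) ≫ f.map (e true) = f.map ρ ≫ f.map (x₁.map (toId j)) := by
        rw [← Functor.map_comp, ← Functor.map_comp]
        exact congrArg _ ht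
      have hf' : f.map (c.map (swp j false)) ≫ f.map (e false) = f.map ρ ≫ f.map α ≫ f.map (x₂.map (toId j)) := by
        rw [← Functor.map_comp, ← Functor.map_comp, ← Functor.map_comp]
        exact congrArg _ hf
      rw [reassoc_of% ht', hf', hnat])
  obtain ⟨ξ, ⟨i⟩⟩ := h c ⟨_, himg⟩
  let τ : ∀ b, c.obj (Over.mk (dj (Vj j) b)) ⟶ ξ.obj (Over.mk (𝟙 T)) := fun b =>
    i.hom.toNatTrans.app (Over.mk (dj (Vj j) b)) ≫
      ξ.map (toId (dj (Vj j) b ≫ dp (Vj j)) :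
        (AlgSt.overMap (dp (Vj j))).obj (Over.mk (dj (Vj j) b)) ⟶ Over.mk (𝟙 T))
  have hτ : ∀ b, 𝒳.p.map (τ b) = eqToHom ((c.w_obj (Over.mk (dj (Vj j) b))).trans (ξ.w_obj (Over.mk (𝟙 T))).symm) := by
    intro b
    show 𝒳.p.map (_ ≫ _) = _
    rw [Functor.map_comp, map_app, FibCatRep.map_map]
    show eqToHom _ ≫ eqToHom _ ≫ (dj (Vj j) b ≫ dp (Vj j)) ≫ eqToHom _ = _
    rw [dj_dp]
    simp
  have hτc : c.map (swp j true) ≫ τ true = c.map (swp j false) ≫ τ false := by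
    have n : ∀ b, c.map (swp j b) ≫ τ b = i.hom.toNatTrans.app (Over.mk (j ≫ dj (Vj j) true)) ≫
        ξ.map ((AlgSt.overMap (dp (Vj j))).map (swp j b) ≫ toId (dj (Vj j) b ≫ dp (Vj j))) := fun b => by
      rw [Functor.map_comp, ← Category.assoc, ← Category.assoc]
      exact congrArg (· ≫ _) (i.hom.toNatTrans.naturality (swp j b))
    rw [n true, n false]
    congr 2
    exact Over.OverMorphism.ext (show j ≫ dj (Vj j) true ≫ dp (Vj j) = j ≫ dj (Vj j) false ≫ dp (Vj j) by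
      rw [dj_dp, dj_dp])
  clear_value τ
  haveI : ∀ b, IsIso (τ b) := fun b => by
    haveI : IsIso (𝒳.p.map (τ b)) := by rw [hτ]; infer_instance
    exact isIso_of_map hg _
  haveI : IsIso (e true) := by
    haveI : IsIso (𝒳.p.map (e true)) := by rw [het]; infer_instance
    exact isIso_of_map hg _
  haveI : IsIso (e false) := by
    haveI : IsIso (𝒳.p.map (e false)) := by rw [hef]; infer_instance
    exact isIso_of_map hg _
  haveI : IsIso ρ := by
    haveI : IsIso (𝒳.p.map ρ) := by rw [hρ]; infer_instance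
    exact isIso_of_map hg _
  let σ : x₁.obj (Over.mk (𝟙 T)) ⟶ x₂.obj (Over.mk (𝟙 T)) := inv (e true) ≫ τ true ≫ inv (τ false) ≫ e false
  have hσ : 𝒳.p.map σ = eqToHom ((x₁.w_obj (Over.mk (𝟙 T))).trans (x₂.w_obj (Over.mk (𝟙 T))).symm) := by
    show 𝒳.p.map (_ ≫ _ ≫ _ ≫ _) = _
    rw [Functor.map_comp, Functor.map_comp, Functor.map_comp, map_inv_of_eqToHom _ het, hτ,
      map_inv_of_eqToHom _ (hτ false), hef]
    simp
  have hσj : x₁.map (toId j) ≫ σ = α ≫ x₂.map (toId j) := by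
    refine (cancel_epi ρ).1 ?_
    show ρ ≫ x₁.map (toId j) ≫ inv (e true) ≫ τ true ≫ inv (τ false) ≫ e false = ρ ≫ α ≫ x₂.map (toId j)
    have ht' : ρ ≫ x₁.map (toId j) = c.map (swp j true) ≫ e true := ht.symm
    have hf' : c.map (swp j false) ≫ e false = ρ ≫ α ≫ x₂.map (toId j) := hf
    rw [reassoc_of% ht', IsIso.hom_inv_id_assoc, reassoc_of% hτc, IsIso.hom_inv_id_assoc, hf']
  have hfσ : f.map σ = βi.hom := by
    refine eq_of_dense h𝒴.1 hd j hdense ((f.w_obj _).trans (x₁.w_obj (Over.mk (𝟙 T)))) (f.map σ) βi.hom ?_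
      (f.map (x₁.map (toId j))) ((f.w_obj _).trans (x₁.w_obj (Over.mk j))) ?_ ?_
    · rw [FibCatRep.map_map, hσ, hb']
      simp
    · rw [FibCatRep.map_map, FibCatRep.map_map x₁]
      simp
      rfl
    · rw [← Functor.map_comp, hσj, Functor.map_comp]
      exact hnat.symm
  haveI : IsIso σ := inferInstance
  let iA : x.obj (Over.mk (𝟙 T)) ≅ (FibCat.diag f).obj (x₂.obj (Over.mk (𝟙 T))) :=
    ObjectProperty.isoMk _ (CategoricalPullback.mkIso (asIso σ) (Iso.refl _) (by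
      show f.map σ ≫ 𝟙 _ = βi.hom ≫ f.map (𝟙 _)
      rw [f.toFunctor.map_id, hfσ]
      rfl))
  refine ⟨x₂.obj (Over.mk (𝟙 T)), iA, inv k₂ ≫ x₂.map (toId j),
    ⟨(x₁.w_obj (Over.mk (𝟙 T))).trans (x₂.w_obj (Over.mk (𝟙 T))).symm, hσ⟩, ?_⟩
  refine ObjectProperty.hom_ext _ (CategoricalPullback.hom_ext ?_ ?_)
  · show k₁ ≫ inv k₂ ≫ x₂.map (toId j) = x₁.map (toId j) ≫ σ
    rw [hσj, Category.assoc]
  · show k₂ ≫ inv k₂ ≫ x₂.map (toId j) = x₂.map (toId j) ≫ 𝟙 _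
    rw [IsIso.hom_inv_id_assoc, Category.comp_id]

end Groth.Agent.IsoNatLib.DiagCrit

end
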