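import Groth.Agent.AlgStLib.QC2
import Groth.Prelude.Def_W4c2isonaturalstkIso

/-!
# Transport of charts along isomorphisms of presheaves of isomorphism classes
-/

set_option autoImplicit false
set_option backward.isDefEq.respectTransparency false
set_option backward.isDefEq.respectTransparency.types false
set_option linter.style.haveILetI false
universe u

noncomputable section

namespace Groth.Agent.IsoNatLib

open CategoryTheory AlgebraicGeometry Groth.Agent.FibCatRep Groth.Agent.FibCat2Misc Groth.Agent.AlgStLib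
  Groth.Agent.StkBasic

variable {S : Scheme.{u}} {𝒳 𝒴 𝒳' 𝒴' : AlgSt.Cat S}

theorem cls_eq_of_vertical (h𝒳 : FibCat.IsFibGrpd 𝒳.p) {T : Over S} (x y : 𝒳.p.Fiber T) (χ : x.1 ⟶ y.1)
    (hχ : 𝒳.p.map χ = eqToHom (x.2.trans y.2.symm)) : IsoNat.cls x = IsoNat.cls y := by
  haveI : IsIso (𝒳.p.map χ) := by rw [hχ]; infer_instance
  haveI := isIso_of_map h𝒳 χ
  exact Quotient.sound ⟨
    { hom := ⟨χ, IsHomLift.of_fac' 𝒳.p _ _ x.2 y.2 (by rw [hχ]; simp)⟩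
      inv := ⟨inv χ, IsHomLift.of_fac' 𝒳.p _ _ y.2 x.2
        (by rw [Functor.map_inv, IsIso.inv_eq_of_hom_inv_id]; rw [hχ]; simp)⟩
      hom_inv_id := Subtype.ext (IsIso.hom_inv_id χ)
      inv_hom_id := Subtype.ext (IsIso.inv_hom_id χ) }⟩

theorem exists_objCls (h𝒳 : FibCat.IsFibGrpd 𝒳.p) {U : Over S} (c : IsoNat.IsoCl 𝒳 U) :
    ∃ x : FibCat.overCat U ⥤ᵇ 𝒳, IsoNat.objCls x = c := by
  induction c using Quotient.inductionOn with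
  | h z =>
    haveI := Groth.Agent.S6409.result h𝒳 U
    exact ⟨(FibCat.evalAtId 𝒳 U).objPreimage z,
      Quotient.sound ⟨(FibCat.evalAtId 𝒳 U).objObjPreimageIso z⟩⟩

theorem nonempty_iso_iff (h𝒳 : FibCat.IsFibGrpd 𝒳.p) {U : Over S} (x y : FibCat.overCat U ⥤ᵇ 𝒳) :
    Nonempty (x ≅ y) ↔ IsoNat.objCls x = IsoNat.objCls y := by
  haveI := Groth.Agent.S6409.result h𝒳 U
  exact ⟨fun ⟨i⟩ => Quotient.sound ⟨(FibCat.evalAtId 𝒳 U).mapIso i⟩,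
    fun h => (Quotient.exact h).elim fun i => ⟨(FibCat.evalAtId 𝒳 U).preimageIso i⟩⟩

theorem mapCls_objCls (f : 𝒳 ⥤ᵇ 𝒴) {U : Over S} (x : FibCat.overCat U ⥤ᵇ 𝒳) :
    IsoNat.mapCls f U (IsoNat.objCls x) = IsoNat.objCls (BasedFunctor.comp x f) := rfl

/-- corresponding charts -/
def Rel (φ : IsoNat.FIso 𝒳 𝒳') {U : Over S} (x : FibCat.overCat U ⥤ᵇ 𝒳) (x' : FibCat.overCat U ⥤ᵇ 𝒳') : Prop :=
  φ.toEquiv U (IsoNat.objCls x) = IsoNat.objCls x'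

theorem Rel.exists_right (h𝒳' : FibCat.IsFibGrpd 𝒳'.p) (φ : IsoNat.FIso 𝒳 𝒳') {U : Over S}
    (x : FibCat.overCat U ⥤ᵇ 𝒳) : ∃ x', Rel φ x x' :=
  (exists_objCls h𝒳' (φ.toEquiv U (IsoNat.objCls x))).imp fun _ h => h.symm

theorem Rel.exists_left (h𝒳 : FibCat.IsFibGrpd 𝒳.p) (φ : IsoNat.FIso 𝒳 𝒳') {U : Over S}
    (x' : FibCat.overCat U ⥤ᵇ 𝒳') : ∃ x, Rel φ x x' :=
  (exists_objCls h𝒳 ((φ.toEquiv U).symm (IsoNat.objCls x'))).imp fun x h => by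
    show φ.toEquiv U _ = _
    rw [h, Equiv.apply_symm_apply]

theorem Rel.comp {f : 𝒳 ⥤ᵇ 𝒴} {f' : 𝒳' ⥤ᵇ 𝒴'} (φ : IsoNat.FIsoSq f f') {U : Over S}
    {x : FibCat.overCat U ⥤ᵇ 𝒳} {x' : FibCat.overCat U ⥤ᵇ 𝒳'} (h : Rel φ.src x x') :
    Rel φ.tgt (BasedFunctor.comp x f) (BasedFunctor.comp x' f') := by
  show φ.tgt.toEquiv U _ = _
  rw [← mapCls_objCls, φ.comm, h, mapCls_objCls]

theorem Rel.overMap (h𝒳' : FibCat.IsFibGrpd 𝒳'.p) {φ : IsoNat.FIso 𝒳 𝒳'} {U W : Over S}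
    {x : FibCat.overCat U ⥤ᵇ 𝒳} {x' : FibCat.overCat U ⥤ᵇ 𝒳'} (h : Rel φ x x') (a : W ⟶ U) :
    Rel φ (BasedFunctor.comp (AlgSt.overMap a) x) (BasedFunctor.comp (AlgSt.overMap a) x') := by
  let m : (AlgSt.overMap a).obj (Over.mk (𝟙 W)) ⟶ Over.mk (𝟙 U) :=
    Over.homMk a (show a ≫ 𝟙 U = 𝟙 W ≫ a by rw [Category.comp_id, Category.id_comp])
  haveI : (FibCat.overCat U).p.IsHomLift a m := IsHomLift.of_fac' _ _ _ rfl rfl (by simp [m]; rfl)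
  have hm : 𝒳.p.IsHomLift a (x.map m) := BasedFunctor.preserves_isHomLift x a m
  have hm' : 𝒳'.p.IsHomLift a (x'.map m) := BasedFunctor.preserves_isHomLift x' a m
  obtain ⟨y', y, b, hb, hy', hy⟩ := φ.natural a
    ((FibCat.evalAtId 𝒳 W).obj (BasedFunctor.comp (AlgSt.overMap a) x)) ((FibCat.evalAtId 𝒳 U).obj x) (x.map m) hm
  obtain ⟨e⟩ := Quotient.exact (hy.symm.trans h)
  haveI := e.hom.2
  haveI := hb
  have hbe : 𝒳'.p.IsHomLift a (b ≫ e.hom.1) := inferInstance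
  let z := (FibCat.evalAtId 𝒳' W).obj (BasedFunctor.comp (AlgSt.overMap a) x')
  obtain ⟨χ, ⟨hχ, -⟩, -⟩ := existsUnique_cart h𝒳' (x'.map m) (b ≫ e.hom.1)
    (eqToHom (y'.2.trans z.2.symm)) (by
      have f₁ := IsHomLift.fac' 𝒳'.p a (b ≫ e.hom.1)
      have f₂ := IsHomLift.fac' 𝒳'.p a (x'.map m)
      rw [f₂, f₁]
      simp)
  exact hy'.trans (cls_eq_of_vertical h𝒳' y' z χ hχ)

theorem Rel.nonempty_iso (h𝒳' : FibCat.IsFibGrpd 𝒳'.p) {φ : IsoNat.FIso 𝒳 𝒳'} {U : Over S}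
    {x y : FibCat.overCat U ⥤ᵇ 𝒳} {x' y' : FibCat.overCat U ⥤ᵇ 𝒳'} (hx : Rel φ x x') (hy : Rel φ y y')
    (i : Nonempty (x ≅ y)) : Nonempty (x' ≅ y') := by
  rw [nonempty_iso_iff h𝒳', ← hx, ← hy]
  exact congrArg _ (Quotient.sound (i.map (FibCat.evalAtId 𝒳 U).mapIso))

theorem Rel.nonempty_iso_symm (h𝒳 : FibCat.IsFibGrpd 𝒳.p) (h𝒳' : FibCat.IsFibGrpd 𝒳'.p) {φ : IsoNat.FIso 𝒳 𝒳'}
    {U : Over S} {x y : FibCat.overCat U ⥤ᵇ 𝒳} {x' y' : FibCat.overCat U ⥤ᵇ 𝒳'} (hx : Rel φ x x')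
    (hy : Rel φ y y') (i : Nonempty (x' ≅ y')) : Nonempty (x ≅ y) := by
  rw [nonempty_iso_iff h𝒳]
  refine (φ.toEquiv U).injective ?_
  rw [hx, hy]
  exact (nonempty_iso_iff h𝒳' x' y').1 i

theorem Rel.congr_left (h𝒳 : FibCat.IsFibGrpd 𝒳.p) {φ : IsoNat.FIso 𝒳 𝒳'} {U : Over S}
    {x y : FibCat.overCat U ⥤ᵇ 𝒳} {x' : FibCat.overCat U ⥤ᵇ 𝒳'} (i : x ≅ y) (hx : Rel φ x x') : Rel φ y x' := by
  show φ.toEquiv U _ = _
  rw [← (nonempty_iso_iff h𝒳 x y).1 ⟨i⟩]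
  exact hx

theorem exists_overMap_iso {U V : Over S} (Φ : FibCat.overCat U ⥤ᵇ FibCat.overCat V) :
    ∃ g : U ⟶ V, Nonempty (Φ ≅ AlgSt.overMap g) := by
  let T : Over U := Over.mk (𝟙 U)
  let g : U ⟶ V := eqToHom (Φ.w_obj T).symm ≫ (Φ.obj T).hom
  let A := Φ.obj T
  refine ⟨g, nonempty_iso_of_top (isFibGrpd_overCat V) Φ (AlgSt.overMap g)
    (Over.homMk (eqToHom (Φ.w_obj T)) ?_) rfl⟩
  show eqToHom _ ≫ (𝟙 U ≫ g) = A.hom
  simp [g, A]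

/-- surjectivity is detected by the induced map of presheaves -/
theorem isSurjective_transport (h𝒳 : FibCat.IsFibGrpd 𝒳.p) (h𝒴 : FibCat.IsFibGrpd 𝒴.p)
    (h𝒳' : FibCat.IsFibGrpd 𝒳'.p) (h𝒴' : FibCat.IsFibGrpd 𝒴'.p) {f : 𝒳 ⥤ᵇ 𝒴} {f' : 𝒳' ⥤ᵇ 𝒴'}
    (φ : IsoNat.FIsoSq f f') (hf : AlgSt.IsSurjective f) : AlgSt.IsSurjective f' := fun p => by
  obtain ⟨U, y', t, rfl⟩ := exists_ofChart h𝒴' p
  obtain ⟨y, hy⟩ := Rel.exists_left h𝒴 φ.tgt y'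
  obtain ⟨q, hq⟩ := hf (AlgSt.Points.ofChart y t)
  obtain ⟨V, x, s, rfl⟩ := exists_ofChart h𝒳 q
  obtain ⟨x', hx⟩ := Rel.exists_right h𝒳' φ.src x
  rw [map_ofChart] at hq
  obtain ⟨K, α, β, k, i, rfl, rfl⟩ := exists_common_point h𝒴 hq
  obtain ⟨j⟩ := Rel.nonempty_iso h𝒴' ((hx.comp φ).overMap h𝒴' α) (hy.overMap h𝒴' β) i
  refine ⟨AlgSt.Points.ofChart x' (α.left k), ?_⟩
  rw [map_ofChart, ← ofChart_overMap, ← ofChart_overMap]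
  exact ofChart_congr j k

/-- quasi-compactness is detected by the induced map of presheaves -/
theorem isQuasiCompactMor_transport [QuasiSeparatedSpace S]
    (h𝒳 : AlgSt.IsAlgStack Scheme.fppfPrecoverage 𝒳) (h𝒴 : AlgSt.IsAlgStack Scheme.fppfPrecoverage 𝒴)
    (h𝒳' : AlgSt.IsAlgStack Scheme.fppfPrecoverage 𝒳') (h𝒴' : AlgSt.IsAlgStack Scheme.fppfPrecoverage 𝒴')
    (h𝒴'd : AlgSt.RepByAlgSpWith AlgSp.IsQuasiCompactMor (FibCat.diag (FibCat.toSelf 𝒴')))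
    {f : 𝒳 ⥤ᵇ 𝒴} {f' : 𝒳' ⥤ᵇ 𝒴'} (φ : IsoNat.FIsoSq f f')
    (hf : AlgSt.IsQuasiCompactMor Scheme.fppfPrecoverage f) :
    AlgSt.IsQuasiCompactMor Scheme.fppfPrecoverage f' := by
  have gX := h𝒳.isStack.1
  have gY := h𝒴.isStack.1
  have gX' := h𝒳'.isStack.1
  have gY' := h𝒴'.isStack.1
  refine isQuasiCompactMor_of_affine h𝒳' h𝒴' fun Z z' hZ => ?_
  haveI := hZ
  obtain ⟨z, hz⟩ := Rel.exists_left gY φ.tgt z'
  obtain ⟨W, P, hW, -, hP⟩ := isQuasiCompact_fp_overCat hf Z z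
  haveI := hW
  have gF := (algFp h𝒴 (isAlgStack_overCat Z) h𝒳 z f).isStack.1
  obtain ⟨g, ⟨ig⟩⟩ := exists_overMap_iso (BasedFunctor.comp P (FibCat.fpFst z f))
  let x := BasedFunctor.comp P (FibCat.fpSnd z f)
  obtain ⟨x', hx⟩ := Rel.exists_right gX' φ.src x
  obtain ⟨i'⟩ := Rel.nonempty_iso gY' (hz.overMap gY' g) (hx.comp φ)
    ⟨(post _ z).mapIso ig.symm ≪≫ (Stk.restr P _).mapIso (FibCat.fpIso z f)⟩
  let G := BasedFunctor.comp (AlgSt.overMap g) z'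
  have hQ : AlgSt.IsQuasiCompact (FibCat.fp G z') :=
    isQuasiCompact_fp_overCat (isQuasiCompactMor_of_comp (isAlgStack_overCat Z) h𝒴' isAlgStack_self
      (f := z') (g := FibCat.toSelf 𝒴') (by rw [comp_toSelf]; exact isQuasiCompactMor_toSelf_overCat Z) h𝒴'd) W G
  let pW := FibCat.fpFst G z'
  let pZ := FibCat.fpSnd G z'
  let e : BasedFunctor.comp pZ z' ≅ BasedFunctor.comp (BasedFunctor.comp pW x') f' :=
    (FibCat.fpIso G z').symm ≪≫ (Stk.restr pW _).mapIso i'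
  let L : FibCat.fp G z' ⥤ᵇ FibCat.fp z' f' := FibCat.fpLift pZ (BasedFunctor.comp pW x') e
  refine isQuasiCompact_of_isSurjective (f := L) (algFp h𝒴' (isAlgStack_overCat W) (isAlgStack_overCat Z) G z')
    (algFp h𝒴' (isAlgStack_overCat Z) h𝒳' z' f') (fun p => ?_) hQ
  obtain ⟨T, P₀, t, rfl⟩ := exists_ofChart (algFp h𝒴' (isAlgStack_overCat Z) h𝒳' z' f').isStack.1 p
  obtain ⟨a, ⟨ia⟩⟩ := exists_overMap_iso (BasedFunctor.comp P₀ (FibCat.fpFst z' f'))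
  let ξ := BasedFunctor.comp P₀ (FibCat.fpSnd z' f')
  obtain ⟨ξ₀, hξ⟩ := Rel.exists_left gX φ.src ξ
  obtain ⟨γ₀⟩ := Rel.nonempty_iso_symm gY gY' (hz.overMap gY' a) (hξ.comp φ)
    ⟨(post _ z').mapIso ia.symm ≪≫ (Stk.restr P₀ _).mapIso (FibCat.fpIso z' f')⟩
  obtain ⟨w, hw⟩ := exists_point_of_surjective gF P hP
    (AlgSt.Points.ofChart (FibCat.fpLift (F := z) (G := f) (AlgSt.overMap a) ξ₀ γ₀) t)
  obtain ⟨K, β, α, k, ⟨c⟩, -, rfl⟩ := exists_common_point gF hw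
  obtain ⟨j⟩ := Rel.nonempty_iso gX' (hξ.overMap gX' α) (hx.overMap gX' β)
    ⟨((post _ (FibCat.fpSnd z f)).mapIso c).symm⟩
  let P₁ := BasedFunctor.comp (AlgSt.overMap α) P₀
  let eQ : BasedFunctor.comp (AlgSt.overMap β) G ≅ BasedFunctor.comp (BasedFunctor.comp P₁ (FibCat.fpFst z' f')) z' :=
    (Stk.restr (AlgSt.overMap β) _).mapIso i' ≪≫ (post _ f').mapIso j.symm ≪≫
      ((Stk.restr P₁ _).mapIso (FibCat.fpIso z' f')).symm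
  refine ⟨AlgSt.Points.ofChart (FibCat.fpLift (F := G) (G := z') (AlgSt.overMap β)
    (BasedFunctor.comp P₁ (FibCat.fpFst z' f')) eQ) k, ?_⟩
  rw [map_ofChart, ← ofChart_overMap]
  refine ofChart_congr (fpExt (a := BasedFunctor.comp (FibCat.fpLift (F := G) (G := z') (AlgSt.overMap β)
      (BasedFunctor.comp P₁ (FibCat.fpFst z' f')) eQ) L) (b := P₁) (Iso.refl _) j.symm fun o => ?_) k
  show z'.map (𝟙 _) ≫ (P₁.obj o).obj.iso.hom = (eQ.inv.toNatTrans.app o ≫ i'.hom.toNatTrans.app _) ≫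
    f'.map (j.inv.toNatTrans.app o)
  rw [z'.toFunctor.map_id, Category.id_comp]
  have h1 : eQ.hom.toNatTrans.app o = i'.hom.toNatTrans.app ((AlgSt.overMap β).obj o) ≫
      f'.map (j.inv.toNatTrans.app o) ≫ (P₁.obj o).obj.iso.inv := rfl
  have h2 : eQ.inv.toNatTrans.app o ≫ eQ.hom.toNatTrans.app o = 𝟙 _ :=
    congrArg (fun η => BasedNatTrans.toNatTrans η |>.app o) eQ.inv_hom_id
  rw [h1] at h2
  rw [← cancel_mono (P₁.obj o).obj.iso.inv, Iso.hom_inv_id]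
  exact (Category.assoc _ _ _).trans ((Category.assoc _ _ _).trans h2) |>.symm

end Groth.Agent.IsoNatLib

end
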