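import Groth.Agent.IsoNatLib.Sections
import Groth.Agent.IsoNatLib.Transport

/-!
# Objects over a scheme doubled along the image of an open immersion

Two objects over `T` with an isomorphism over an open subscheme glue to an object over the doubling of `T`, and
an object over the doubling whose restrictions to the two copies are compatibly isomorphic to one object over
`T` is the pullback of that object.
-/

set_option autoImplicit false
set_option backward.isDefEq.respectTransparency false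
set_option backward.isDefEq.respectTransparency.types false
set_option linter.style.haveILetI false
set_option maxHeartbeats 1000000
universe u

noncomputable section

namespace Groth.Agent.IsoNatLib.DoubleGlue

open CategoryTheory CategoryTheory.Limits AlgebraicGeometry Groth.Agent.FibCatRep

variable {S : Scheme.{u}} {𝒳 : AlgSt.Cat S} {T W : Over S} (j : W ⟶ T) [IsOpenImmersion j.left]

/-- the open subscheme along which we double -/
abbrev Vj : T.left.Opens := j.left.opensRange

/-- the morphism to the identity -/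
abbrev toId {o : Over S} (k : o ⟶ T) : (Over.mk k : Over T) ⟶ Over.mk (𝟙 T) :=
  Over.homMk k (Category.comp_id k)

lemma dj_eq (b b' : Bool) : j ≫ dj (Vj j) b = j ≫ dj (Vj j) b' := dj_eq_of_mem _ j (fun _ h => h) b b'

/-- the open subscheme in the copy `b` -/
abbrev swp (b : Bool) : (Over.mk (j ≫ dj (Vj j) true) : Over (dbl (Vj j))) ⟶ Over.mk (dj (Vj j) b) :=
  Over.homMk j (dj_eq j b true)

variable {j}

lemma fac_piece {b : Bool} {w : Over (dbl (Vj j))} (h : InPiece (dj (Vj j)) b w) :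
    (w.hom ≫ dp (Vj j)) ≫ dj (Vj j) b = w.hom := by
  haveI := isOpenImmersion_dj (Vj j) b
  let l : w.left ⟶ T := Over.homMk (IsOpenImmersion.lift (dj (Vj j) b).left w.hom.left h) (by
    rw [← Over.w (dj (Vj j) b), IsOpenImmersion.lift_fac_assoc, Over.w w.hom])
  have hl : l ≫ dj (Vj j) b = w.hom := Over.OverMorphism.ext (IsOpenImmersion.lift_fac _ _ _)
  rw [← hl, Category.assoc l, dj_dp, Category.comp_id]

lemma exists_lift_meet {w : Over (dbl (Vj j))} {b b' : Bool} (hb : b ≠ b') (h : InPiece (dj (Vj j)) b w)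
    (h' : InPiece (dj (Vj j)) b' w) : ∃ l : w.left ⟶ W, l ≫ j = w.hom ≫ dp (Vj j) := by
  have hr : Set.range (w.hom ≫ dp (Vj j)).left ⊆ (Vj j : Set T.left) := by
    have key : ∀ (_ : InPiece (dj (Vj j)) true w) (_ : InPiece (dj (Vj j)) false w),
        Set.range (w.hom ≫ dp (Vj j)).left ⊆ (Vj j : Set T.left) := by
      rintro ht hf _ ⟨p, rfl⟩
      obtain ⟨s, hs⟩ := ht ⟨p, rfl⟩
      obtain ⟨s', hs'⟩ := hf ⟨p, rfl⟩
      show (dp (Vj j)).left (w.hom.left p) ∈ Vj j
      rw [← hs, show (dp (Vj j)).left ((dj (Vj j) true).left s) = s from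
        congrArg (fun k : T ⟶ T => k.left s) (dj_dp (Vj j) true)]
      exact dj_meet (Vj j) (hs.trans hs'.symm)
    cases b <;> cases b'
    · exact absurd rfl hb
    · exact key h' h
    · exact key h h'
    · exact absurd rfl hb
  refine ⟨Over.homMk (IsOpenImmersion.lift j.left (w.hom ≫ dp (Vj j)).left hr) ?_,
    Over.OverMorphism.ext (IsOpenImmersion.lift_fac _ _ _)⟩
  rw [← Over.w j, IsOpenImmersion.lift_fac_assoc, Over.w (w.hom ≫ dp (Vj j))]

variable (hS : Stk.IsStack (Jf S) 𝒳)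
include hS

/-- compatible isomorphisms on the two copies descend to the doubling -/
theorem nonempty_iso_pullback (c : FibCat.overCat (dbl (Vj j)) ⥤ᵇ 𝒳) (x : FibCat.overCat T ⥤ᵇ 𝒳)
    (e : ∀ b, c.obj (Over.mk (dj (Vj j) b)) ⟶ x.obj (Over.mk (𝟙 T)))
    (he : ∀ b, 𝒳.p.map (e b) = eqToHom ((c.w_obj (Over.mk (dj (Vj j) b))).trans (x.w_obj (Over.mk (𝟙 T))).symm))
    (compat : c.map (swp j true) ≫ e true = c.map (swp j false) ≫ e false) :
    Nonempty (c ≅ BasedFunctor.comp (AlgSt.overMap (dp (Vj j))) x) := by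
  classical
  have hg := hS.1
  let G := BasedFunctor.comp (AlgSt.overMap (dp (Vj j))) x
  let up : ∀ (b : Bool) (w : Over (dbl (Vj j))), InPiece (dj (Vj j)) b w → (w ⟶ Over.mk (dj (Vj j) b)) :=
    fun b w h => Over.homMk (w.hom ≫ dp (Vj j)) (fac_piece h)
  let tw : ∀ w : Over (dbl (Vj j)), G.obj w ⟶ x.obj (Over.mk (𝟙 T)) := fun w =>
    x.map (toId (w.hom ≫ dp (Vj j)) : (AlgSt.overMap (dp (Vj j))).obj w ⟶ Over.mk (𝟙 T))
  choose χ hχ hχu using fun (b : Bool) (w : Over (dbl (Vj j))) (h : InPiece (dj (Vj j)) b w) =>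
    existsUnique_cart hg (tw w) (c.map (up b w h) ≫ e b) (eqToHom ((c.w_obj w).trans (G.w_obj w).symm)) (by
      rw [Functor.map_comp, he, map_map, map_map]
      simp [up]
      rfl)
  have hindep : ∀ (b b' : Bool) w (h : InPiece (dj (Vj j)) b w) (h' : InPiece (dj (Vj j)) b' w),
      c.map (up b w h) ≫ e b = c.map (up b' w h') ≫ e b' := by
    intro b b' w h h'
    by_cases hb : b = b'
    · subst hb; rfl
    obtain ⟨l, hl⟩ := exists_lift_meet hb h h'
    have hq : l ≫ j ≫ dj (Vj j) true = w.hom := by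
      rw [dj_eq j true b, ← Category.assoc, hl, fac_piece h]
    let q : w ⟶ Over.mk (j ≫ dj (Vj j) true) := Over.homMk l hq
    have hu : ∀ (b₀ : Bool) (h₀ : InPiece (dj (Vj j)) b₀ w), up b₀ w h₀ = q ≫ swp j b₀ := fun b₀ h₀ =>
      Over.OverMorphism.ext (show w.hom ≫ dp (Vj j) = l ≫ j from hl.symm)
    rw [hu b h, hu b' h', Functor.map_comp, Functor.map_comp, Category.assoc, Category.assoc]
    congr 1
    cases b <;> cases b'
    · exact absurd rfl hb
    · exact compat.symm
    · exact compat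
    · exact absurd rfl hb
  let R : Sieve (dbl (Vj j)) := Sieve.generate (Presieve.ofArrows (fun _ : Bool => T) (dj (Vj j)))
  have hR : R ∈ Jf S (dbl (Vj j)) := mem_J_of_opens (dj (Vj j)) (isOpenImmersion_dj (Vj j)) (dj_cover (Vj j))
  have hchoice : ∀ w : (Stk.sieveCat R).obj, ∃ b, InPiece (dj (Vj j)) b w.obj := fun w => by
    obtain ⟨Z, a, _, ⟨b⟩, hab⟩ := w.property
    refine ⟨b, ?_⟩
    rintro _ ⟨p, rfl⟩
    exact ⟨a.left p, by rw [← hab]; rfl⟩
  choose β hβ using hchoice
  let η : (Stk.resSieve R 𝒳).obj c ⟶ (Stk.resSieve R 𝒳).obj G :=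
    { app := fun w => χ (β w) w.obj (hβ w)
      naturality := fun w' w m => by
        refine cancel hg (tw w.obj) ?_ ?_
        · show 𝒳.p.map (c.map m.hom ≫ χ _ _ _) = 𝒳.p.map (χ _ _ _ ≫ G.map m.hom)
          rw [Functor.map_comp, Functor.map_comp, (hχ _ _ _).1, (hχ _ _ _).1, map_map, map_map]
          simp
        · show (c.map m.hom ≫ χ _ _ _) ≫ tw w.obj = (χ _ _ _ ≫ G.map m.hom) ≫ tw w.obj
          rw [Category.assoc, Category.assoc, (hχ _ _ _).2]
          have e₁ : G.map m.hom ≫ tw w.obj = tw w'.obj := by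
            show x.map _ ≫ x.map _ = x.map _
            rw [← Functor.map_comp]
            congr 1
            exact Over.OverMorphism.ext (show m.hom.left ≫ w.obj.hom ≫ dp (Vj j) = w'.obj.hom ≫ dp (Vj j) by
              rw [← Category.assoc, Over.w m.hom])
          rw [e₁, (hχ _ _ _).2, hindep (β w') (β w) w'.obj (hβ w') ((hβ w).of_hom m.hom), ← Category.assoc,
            ← Functor.map_comp]
          congr 2
          exact Over.OverMorphism.ext (show m.hom.left ≫ w.obj.hom ≫ dp (Vj j) = w'.obj.hom ≫ dp (Vj j) by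
            rw [← Category.assoc, Over.w m.hom])
      isHomLift' := fun w => IsHomLift.of_fac' 𝒳.p _ _ (c.w_obj w.obj) (G.w_obj w.obj) (by
        rw [(hχ _ _ _).1]
        simp) }
  haveI : (Stk.resSieve R 𝒳).IsEquivalence := hS.2 R hR
  obtain ⟨δ, -⟩ := (Stk.resSieve R 𝒳).map_surjective η
  exact (nonempty_iso_iff hg c G).2 (Quotient.sound (Quotient.exact (cls_eq_of_vertical hg _ _
    (δ.toNatTrans.app (Over.mk (𝟙 _))) (map_app δ (Over.mk (𝟙 _))))))

/-- two objects isomorphic over the open subscheme glue to an object over the doubling -/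
theorem exists_glue (x : Bool → (FibCat.overCat T ⥤ᵇ 𝒳))
    (α : (x true).obj (Over.mk j) ⟶ (x false).obj (Over.mk j))
    (hα : 𝒳.p.map α = eqToHom (((x true).w_obj (Over.mk j)).trans ((x false).w_obj (Over.mk j)).symm)) :
    ∃ (c : FibCat.overCat (dbl (Vj j)) ⥤ᵇ 𝒳) (e : ∀ b, c.obj (Over.mk (dj (Vj j) b)) ⟶ (x b).obj (Over.mk (𝟙 T)))
      (ρ : c.obj (Over.mk (j ≫ dj (Vj j) true)) ⟶ (x true).obj (Over.mk j)),
      (∀ b, 𝒳.p.map (e b) = eqToHom ((c.w_obj (Over.mk (dj (Vj j) b))).trans ((x b).w_obj (Over.mk (𝟙 T))).symm)) ∧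
      𝒳.p.map ρ = eqToHom ((c.w_obj (Over.mk (j ≫ dj (Vj j) true))).trans ((x true).w_obj (Over.mk j)).symm) ∧
      c.map (swp j true) ≫ e true = ρ ≫ (x true).map (toId j) ∧
      c.map (swp j false) ≫ e false = ρ ≫ α ≫ (x false).map (toId j) := by
  classical
  have hg := hS.1
  let D := dbl (Vj j)
  haveI : IsIso (𝒳.p.map α) := by rw [hα]; infer_instance
  haveI := isIso_of_map hg α
  haveI : Mono j := (Over.forget S).mono_of_mono_map (inferInstanceAs (Mono j.left))
  -- the isomorphism over schemes mapping to the open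
  have hlift : ∀ o : {o : Over T // ∃ l : o.left ⟶ W, l ≫ j = o.hom},
      ∃! χ : (x true).obj o.1 ⟶ (x false).obj o.1,
        𝒳.p.map χ = eqToHom (((x true).w_obj o.1).trans ((x false).w_obj o.1).symm) ∧
        χ ≫ (x false).map (Over.homMk o.2.choose o.2.choose_spec : o.1 ⟶ Over.mk j) =
          (x true).map (Over.homMk o.2.choose o.2.choose_spec : o.1 ⟶ Over.mk j) ≫ α := fun o =>
    existsUnique_cart hg _ _ _ (by
      rw [Functor.map_comp, map_map, map_map, hα]
      simp)
  choose A hA hAu using hlift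
  have hAn : ∀ {o' o : Over T} (m : o' ⟶ o) (h' : ∃ l : o'.left ⟶ W, l ≫ j = o'.hom)
      (h : ∃ l : o.left ⟶ W, l ≫ j = o.hom),
      (x true).map m ≫ A ⟨o, h⟩ = A ⟨o', h'⟩ ≫ (x false).map m := by
    intro o' o m h' h
    refine cancel hg ((x false).map (Over.homMk h.choose h.choose_spec : o ⟶ Over.mk j)) ?_ ?_
    · rw [Functor.map_comp, Functor.map_comp, (hA _).1, (hA _).1, map_map, map_map]
      simp
    · have em : m ≫ (Over.homMk h.choose h.choose_spec : o ⟶ Over.mk j) = Over.homMk h'.choose h'.choose_spec :=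
        Over.OverMorphism.ext ((cancel_mono j).1 (by
          show (m.left ≫ h.choose) ≫ j = h'.choose ≫ j
          rw [Category.assoc, h.choose_spec, h'.choose_spec, Over.w m]))
      rw [Category.assoc, Category.assoc, (hA _).2, ← Functor.map_comp, em, ← Category.assoc, ← Functor.map_comp,
        em, (hA ⟨o', h'⟩).2]
  have hAiso : ∀ o, IsIso (A o) := fun o => by
    haveI : IsIso (𝒳.p.map (A o)) := by rw [(hA o).1]; infer_instance
    exact isIso_of_map hg _
  let P : Bool → (FibCat.overCat D ⥤ᵇ 𝒳) := fun b => BasedFunctor.comp (AlgSt.overMap (dp (Vj j))) (x b)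
  have hmeet : ∀ {w : Over D}, InPiece (dj (Vj j)) true w → InPiece (dj (Vj j)) false w →
      ∃ l : ((AlgSt.overMap (dp (Vj j))).obj w).left ⟶ W, l ≫ j = ((AlgSt.overMap (dp (Vj j))).obj w).hom :=
    fun ht hf => exists_lift_meet (by decide) ht hf
  let chg : ∀ (a b : Bool) (w : Over D), InPiece (dj (Vj j)) a w → InPiece (dj (Vj j)) b w →
      ((P a).obj w ⟶ (P b).obj w) := fun a b w =>
    match a, b with
    | true, true => fun _ _ => 𝟙 _
    | false, false => fun _ _ => 𝟙 _
    | true, false => fun h h' => A ⟨_, hmeet h h'⟩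
    | false, true => fun h h' => haveI := hAiso ⟨_, hmeet h' h⟩; inv (A ⟨_, hmeet h' h⟩)
  have chg_map : ∀ a b w h h', 𝒳.p.map (chg a b w h h') = eqToHom (((P a).w_obj w).trans ((P b).w_obj w).symm) := by
    intro a b w h h'
    cases a <;> cases b
    · show 𝒳.p.map (𝟙 _) = _
      rw [CategoryTheory.Functor.map_id]; simp
    · show 𝒳.p.map (@inv _ _ _ _ _ (hAiso _)) = _
      haveI := hAiso ⟨_, hmeet h' h⟩
      exact map_inv_of_eqToHom _ (hA ⟨_, hmeet h' h⟩).1
    · exact (hA _).1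
    · show 𝒳.p.map (𝟙 _) = _
      rw [CategoryTheory.Functor.map_id]; simp
  have chg_nat : ∀ a b {w' w : Over D} (m : w' ⟶ w) (h : InPiece (dj (Vj j)) a w) (h' : InPiece (dj (Vj j)) b w),
      (P a).map m ≫ chg a b w h h' = chg a b w' (h.of_hom m) (h'.of_hom m) ≫ (P b).map m := by
    intro a b w' w m h h'
    cases a <;> cases b
    · show _ ≫ 𝟙 _ = 𝟙 _ ≫ _
      rw [Category.comp_id, Category.id_comp]
    · haveI := hAiso ⟨_, hmeet h' h⟩
      haveI := hAiso ⟨_, hmeet (h'.of_hom m) (h.of_hom m)⟩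
      show _ ≫ inv (A ⟨_, hmeet h' h⟩) = inv (A ⟨_, hmeet (h'.of_hom m) (h.of_hom m)⟩) ≫ _
      rw [IsIso.comp_inv_eq, Category.assoc, IsIso.eq_inv_comp]
      exact (hAn _ _ _).symm
    · exact hAn _ _ _
    · show _ ≫ 𝟙 _ = 𝟙 _ ≫ _
      rw [Category.comp_id, Category.id_comp]
  have chg_self : ∀ a w h, chg a a w h h = 𝟙 _ := fun a w h => by cases a <;> rfl
  have chg_comp : ∀ a b d w h h' h'', chg a b w h h' ≫ chg b d w h' h'' = chg a d w h h'' := by
    intro a b d w h h' h''
    cases a <;> cases b <;> cases d <;> simp [chg]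
  let R : Sieve D := Sieve.generate (Presieve.ofArrows (fun _ : Bool => T) (dj (Vj j)))
  have hR : R ∈ Jf S D := mem_J_of_opens (dj (Vj j)) (isOpenImmersion_dj (Vj j)) (dj_cover (Vj j))
  have hchoice : ∀ w : (Stk.sieveCat R).obj, ∃ b, InPiece (dj (Vj j)) b w.obj := fun w => by
    obtain ⟨Z, a, _, ⟨b⟩, hab⟩ := w.property
    refine ⟨b, ?_⟩
    rintro _ ⟨p, rfl⟩
    exact ⟨a.left p, by rw [← hab]; rfl⟩
  choose idx hidx using hchoice
  let H : Stk.sieveCat R ⥤ᵇ 𝒳 :=
    { toFunctor :=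
        { obj := fun w => (P (idx w)).obj w.obj
          map := fun {w' w} m => chg (idx w') (idx w) w'.obj (hidx w') ((hidx w).of_hom m.hom) ≫ (P (idx w)).map m.hom
          map_id := fun w => by
            rw [chg_self, Category.id_comp]
            exact (P (idx w)).toFunctor.map_id w.obj
          map_comp := fun {w₂ w₁ w} m n => by
            rw [Category.assoc, reassoc_of% chg_nat (idx w₁) (idx w) m.hom (hidx w₁) ((hidx w).of_hom n.hom),
              reassoc_of% chg_comp (idx w₂) (idx w₁) (idx w) w₂.obj (hidx w₂) ((hidx w₁).of_hom m.hom)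
                (((hidx w).of_hom n.hom).of_hom m.hom)]
            exact congrArg (_ ≫ ·) ((P (idx w)).toFunctor.map_comp m.hom n.hom) }
      w := CategoryTheory.Functor.ext (fun w => (P (idx w)).w_obj w.obj) fun w' w m => by
        show 𝒳.p.map (chg _ _ _ _ _ ≫ (P (idx w)).map m.hom) = _
        rw [Functor.map_comp, chg_map, map_map]
        simp
        rfl }
  haveI : (Stk.resSieve R 𝒳).IsEquivalence := hS.2 R hR
  let G := (Stk.resSieve R 𝒳).objPreimage H
  let αi : (Stk.resSieve R 𝒳).obj G ⟶ H := ((Stk.resSieve R 𝒳).objObjPreimageIso H).hom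
  let wb : Bool → (Stk.sieveCat R).obj := fun b =>
    ⟨Over.mk (dj (Vj j) b), T, 𝟙 T, dj (Vj j) b, ⟨b⟩, Category.id_comp _⟩
  have hwb : ∀ b, InPiece (dj (Vj j)) b (wb b).obj := fun b => fun _ h => h
  let wm : (Stk.sieveCat R).obj :=
    ⟨Over.mk (j ≫ dj (Vj j) true), T, j, dj (Vj j) true, ⟨true⟩, rfl⟩
  have hwm : ∀ b, InPiece (dj (Vj j)) b wm.obj := fun b => (hwb b).of_hom (swp j b)
  let σ₀ : (AlgSt.overMap (dp (Vj j))).obj wm.obj ⟶ (Over.mk j : Over T) := Over.homMk (𝟙 W) (by
    show 𝟙 W ≫ j = (j ≫ dj (Vj j) true) ≫ dp (Vj j)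
    rw [Category.id_comp, Category.assoc j, dj_dp, Category.comp_id])
  let e : ∀ b, G.obj (Over.mk (dj (Vj j) b)) ⟶ (x b).obj (Over.mk (𝟙 T)) := fun b =>
    αi.toNatTrans.app (wb b) ≫ chg (idx (wb b)) b (wb b).obj (hidx (wb b)) (hwb b) ≫
      (x b).map (toId (dj (Vj j) b ≫ dp (Vj j)) : (AlgSt.overMap (dp (Vj j))).obj (wb b).obj ⟶ Over.mk (𝟙 T))
  have key : ∀ b, G.map (swp j b) ≫ e b =
      αi.toNatTrans.app wm ≫ chg (idx wm) b wm.obj (hidx wm) (hwm b) ≫ (x b).map (σ₀ ≫ toId j) := fun b => by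
    let m : wm ⟶ wb b := ObjectProperty.homMk (swp j b)
    have hn := αi.toNatTrans.naturality m
    show G.map (swp j b) ≫ αi.toNatTrans.app (wb b) ≫ _ = _
    refine ((reassoc_of% hn) _).trans (congrArg (αi.toNatTrans.app wm ≫ ·) ?_)
    show (chg (idx wm) (idx (wb b)) wm.obj _ _ ≫ (P (idx (wb b))).map (swp j b)) ≫ chg (idx (wb b)) b _ _ _ ≫ _ = _
    rw [Category.assoc, reassoc_of% chg_nat (idx (wb b)) b (swp j b) (hidx (wb b)) (hwb b),
      reassoc_of% chg_comp (idx wm) (idx (wb b)) b wm.obj (hidx wm) ((hidx (wb b)).of_hom (swp j b))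
        ((hwb b).of_hom (swp j b))]
    congr 1
    show (x b).map _ ≫ (x b).map _ = (x b).map _
    rw [← Functor.map_comp]
    congr 1
    refine Over.OverMorphism.ext ?_
    show j ≫ dj (Vj j) b ≫ dp (Vj j) = 𝟙 W ≫ j
    rw [dj_dp, Category.comp_id, Category.id_comp]
  refine ⟨G, e, αi.toNatTrans.app wm ≫ chg (idx wm) true wm.obj (hidx wm) (hwm true) ≫ (x true).map σ₀,
    fun b => ?_, ?_, ?_, ?_⟩
  · show 𝒳.p.map (_ ≫ _ ≫ _) = _
    rw [Functor.map_comp, Functor.map_comp, chg_map, map_map, map_app αi (wb b)]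
    simp [wb]
    show eqToHom _ ≫ (dj (Vj j) b ≫ dp (Vj j)) ≫ eqToHom _ = _
    rw [dj_dp]
    simp
  · rw [Functor.map_comp, Functor.map_comp, chg_map, map_map, map_app αi wm]
    simp [wm, σ₀]
    show eqToHom _ ≫ 𝟙 W ≫ eqToHom _ = _
    simp
  · rw [key true, Functor.map_comp, Category.assoc, Category.assoc]
  · rw [key false, Functor.map_comp, Category.assoc, Category.assoc]
    congr 1
    rw [← chg_comp (idx wm) true false wm.obj (hidx wm) (hwm true) (hwm false), Category.assoc]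
    congr 1
    show A ⟨_, hmeet (hwm true) (hwm false)⟩ ≫ (x false).map σ₀ ≫ (x false).map (toId j) =
      (x true).map σ₀ ≫ α ≫ (x false).map (toId j)
    have hσ : (Over.homMk (hmeet (hwm true) (hwm false)).choose (hmeet (hwm true) (hwm false)).choose_spec :
        (AlgSt.overMap (dp (Vj j))).obj wm.obj ⟶ Over.mk j) = σ₀ :=
      Over.OverMorphism.ext ((cancel_mono j).1 ((hmeet (hwm true) (hwm false)).choose_spec.trans (Over.w σ₀).symm))
    have h₂ := (hA ⟨_, hmeet (hwm true) (hwm false)⟩).2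
    rw [hσ] at h₂
    exact (reassoc_of% h₂) _

end Groth.Agent.IsoNatLib.DoubleGlue

end
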