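import Groth.Agent.IsoNatLib.Separated
import Mathlib.RingTheory.Localization.Away.Basic
import Mathlib.Algebra.Polynomial.AlgebraMap
import Mathlib.AlgebraicGeometry.Limits
import Mathlib.AlgebraicGeometry.Gluing

/-!
# Separated isomorphism classes force trivial automorphisms

Two affine lines meeting at the origin, doubled outside the origin: an automorphism twists the pullback
of an object along the doubled scheme.
-/

set_option autoImplicit false
set_option backward.isDefEq.respectTransparency false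
set_option backward.isDefEq.respectTransparency.types false
set_option linter.style.haveILetI false
universe u

noncomputable section

set_option maxHeartbeats 400000

namespace Groth.Agent.IsoNatLib

open CategoryTheory CategoryTheory.Limits AlgebraicGeometry Groth.Agent.FibCatRep Polynomial

section ring

variable (R : Type u) [CommRing R]

/-- two lines meeting at their origins -/
abbrev Axes : Subalgebra R (R[X] × R[X]) :=
  AlgHom.equalizer ((Polynomial.aeval (0 : R)).comp (AlgHom.fst R R[X] R[X]))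
    ((Polynomial.aeval (0 : R)).comp (AlgHom.snd R R[X] R[X]))

/-- first coordinate -/
abbrev axA : Axes R := ⟨(X, 0), by simp⟩

/-- second coordinate -/
abbrev axB : Axes R := ⟨(0, X), by simp⟩

lemma axA_mul_axB : axA R * axB R = 0 := Subtype.ext (by simp)

/-- the two lines -/
abbrev lineHom : Bool → (Axes R →+* R[X])
  | true => ((AlgHom.fst R R[X] R[X]).comp (Axes R).val).toRingHom
  | false => ((AlgHom.snd R R[X] R[X]).comp (Axes R).val).toRingHom

lemma origin_lineHom : ((Polynomial.aeval (0 : R)).toRingHom.comp (lineHom R true)) =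
    (Polynomial.aeval (0 : R)).toRingHom.comp (lineHom R false) := by
  ext x
  exact x.2

end ring

variable {S : Scheme.{u}} {𝒳 : AlgSt.Cat S}

/-- with separated isomorphism classes the glued automorphism is a quotient of two automorphisms extending to all of `U` -/
theorem exists_pair (hS : Stk.IsStack (Jf S) 𝒳) (hsep : SepIsoCl 𝒳) {U : Over S} (E : FibCat.overCat U ⥤ᵇ 𝒳)
    (gE : E ⟶ E) (Oa Ob : U.left.Opens) (hab : Disjoint (Oa : Set U.left) Ob) :
    ∃ Aut : Bool → ∀ z : Over U, E.obj z ⟶ E.obj z, (∀ b z, 𝒳.p.map (Aut b z) = 𝟙 _) ∧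
      (∀ b {z' z : Over U} (m : z' ⟶ z), E.map m ≫ Aut b z = Aut b z' ≫ E.map m) ∧
      (∀ z, InOpen z (Oa : Set U.left) → Aut false z = gE.toNatTrans.app z ≫ Aut true z) ∧
      ∀ z, InOpen z (Ob : Set U.left) → Aut false z = Aut true z := by
  classical
  obtain ⟨Γ, hΓ, hΓn, hΓA, hΓB⟩ := exists_system hS E Oa Ob hab gE
  let V : U.left.Opens := Oa ⊔ Ob
  -- the doubled scheme
  let Xd : Over S := Over.mk (pushout.desc U.hom U.hom (rfl : V.ι ≫ U.hom = V.ι ≫ U.hom))
  let j : Bool → (U ⟶ Xd) := fun b => match b with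
    | true => Over.homMk (pushout.inl V.ι V.ι) (pushout.inl_desc _ _ _)
    | false => Over.homMk (pushout.inr V.ι V.ι) (pushout.inr_desc _ _ _)
  let p : Xd ⟶ U := Over.homMk (pushout.desc (𝟙 U.left) (𝟙 U.left) rfl)
    (pushout.hom_ext (by simp [Xd]) (by simp [Xd]))
  have hjp : ∀ b, j b ≫ p = 𝟙 U := fun b => by
    cases b
    · ext1; exact pushout.inr_desc _ _ _
    · ext1; exact pushout.inl_desc _ _ _
  have hj : ∀ b, IsOpenImmersion (j b).left := fun b => match b with
    | true => inferInstanceAs (IsOpenImmersion (colimit.ι (span V.ι V.ι) WalkingSpan.left))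
    | false => inferInstanceAs (IsOpenImmersion (colimit.ι (span V.ι V.ι) WalkingSpan.right))
  have hcov : ∀ t : Xd.left, ∃ b, t ∈ Set.range (j b).left := fun t => by
    obtain ⟨i, s, hs⟩ := Scheme.IsLocallyDirected.ι_jointly_surjective (span V.ι V.ι) t
    match i, s, hs with
    | none, s, hs =>
      refine ⟨true, V.ι s, ?_⟩
      rw [← hs, ← colimit.w (span V.ι V.ι) WalkingSpan.Hom.fst]
      rfl
    | some WalkingPair.left, s, hs => exact ⟨true, s, hs⟩
    | some WalkingPair.right, s, hs => exact ⟨false, s, hs⟩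
  have hmeet : ∀ s s' : U.left, (j true).left s = (j false).left s' → s = s' ∧ s ∈ V := fun s s' h => by
    obtain ⟨k, fi, fj, y, hy, hy'⟩ := (Scheme.IsLocallyDirected.ι_eq_ι_iff (span V.ι V.ι)
      (i := WalkingSpan.left) (j := WalkingSpan.right)).1 h
    rcases k with _ | (_ | _)
    · obtain rfl : fi = WalkingSpan.Hom.fst := Subsingleton.elim _ _
      obtain rfl : fj = WalkingSpan.Hom.snd := Subsingleton.elim _ _
      subst hy hy'
      exact ⟨rfl, y.2⟩
    · exact nomatch fj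
    · exact nomatch fi
  let G₀ := BasedFunctor.comp (AlgSt.overMap p) E
  let Γ₀ : ∀ w : Over Xd, G₀.obj w ≅ G₀.obj w := fun w => Γ ((AlgSt.overMap p).obj w)
  have hin : ∀ w : Over Xd, InOpen w (Set.range (j true).left) → InOpen w (Set.range (j false).left) →
      InOpen ((AlgSt.overMap p).obj w) (V : Set U.left) := by
    rintro w ht hf _ ⟨t, rfl⟩
    obtain ⟨s, hs⟩ := ht ⟨t, rfl⟩
    obtain ⟨s', hs'⟩ := hf ⟨t, rfl⟩
    obtain ⟨-, h⟩ := hmeet s s' (hs.trans hs'.symm)
    show p.left (w.hom.left t) ∈ V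
    rw [← hs, show p.left ((j true).left s) = s from congrArg (fun k : U ⟶ U => k.left s) (hjp true)]
    exact h
  obtain ⟨a, ha, han, hag⟩ := exists_coboundary hS j hj hcov G₀ Γ₀ (fun w => hΓ _)
    (fun {w' w} m ht hf => hΓn ((AlgSt.overMap p).map m) (hin w ht hf)) hsep
  -- the automorphisms on the two copies
  let w : Bool → Over U → Over Xd := fun b z => Over.mk (z.hom ≫ j b)
  let c : ∀ b z, z ≅ (AlgSt.overMap p).obj (w b z) := fun b z => Over.isoMk (Iso.refl _) (by
    show 𝟙 _ ≫ (z.hom ≫ j b) ≫ p = z.hom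
    rw [Category.id_comp, Category.assoc, hjp, Category.comp_id])
  have hw : ∀ b z, InOpen (w b z) (Set.range (j b).left) := fun b z => by
    rintro _ ⟨t, rfl⟩
    exact ⟨z.hom.left t, rfl⟩
  let Aut : ∀ b z, E.obj z ⟶ E.obj z := fun b z =>
    E.map (c b z).hom ≫ a b (w b z) (hw b z) ≫ E.map (c b z).inv
  have hAutb : ∀ b z, 𝒳.p.map (Aut b z) = 𝟙 _ := fun b z => by
    show 𝒳.p.map (E.map (c b z).hom ≫ a b (w b z) (hw b z) ≫ E.map (c b z).inv) = _
    rw [𝒳.p.map_comp, 𝒳.p.map_comp]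
    erw [ha b (w b z) (hw b z), Category.id_comp]
    rw [← 𝒳.p.map_comp, ← E.toFunctor.map_comp, Iso.hom_inv_id, E.toFunctor.map_id, 𝒳.p.map_id]
  have hAutn : ∀ b {z' z : Over U} (m : z' ⟶ z), E.map m ≫ Aut b z = Aut b z' ≫ E.map m := fun b z' z m => by
    let n : w b z' ⟶ w b z := Over.homMk m.left (by
      show m.left ≫ z.hom ≫ j b = z'.hom ≫ j b
      rw [← Category.assoc, Over.w m])
    have e₁ : m ≫ (c b z).hom = (c b z').hom ≫ (AlgSt.overMap p).map n := by refine Over.OverMorphism.ext ?_; exact (Category.comp_id _).trans (Category.id_comp _).symm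
    have e₂ : (c b z').inv ≫ m = (AlgSt.overMap p).map n ≫ (c b z).inv := by refine Over.OverMorphism.ext ?_; exact (Category.id_comp _).trans (Category.comp_id _).symm
    show E.map m ≫ E.map _ ≫ a b _ _ ≫ E.map _ = (E.map _ ≫ a b _ _ ≫ E.map _) ≫ E.map m
    rw [← Functor.map_comp_assoc, e₁, Functor.map_comp, Category.assoc, Category.assoc, Category.assoc,
      ← Functor.map_comp, e₂, Functor.map_comp]
    exact congrArg (E.map (c b z').hom ≫ ·) ((reassoc_of% (han b n (hw b z))) (E.map (c b z).inv))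
  have hrel : ∀ z : Over U, InOpen z (V : Set U.left) → Aut false z = (Γ z).hom ≫ Aut true z := fun z hz => by
    have hsub : Set.range z.hom.left ⊆ Set.range V.ι := by rwa [Scheme.Opens.range_ι]
    have e : (w false z).hom = (w true z).hom := by
      ext1
      show z.hom.left ≫ pushout.inr V.ι V.ι = z.hom.left ≫ pushout.inl V.ι V.ι
      rw [← IsOpenImmersion.lift_fac V.ι z.hom.left hsub, Category.assoc, Category.assoc, pushout.condition]
    let n : w false z ⟶ w true z := Over.homMk (𝟙 z.left) ((Category.id_comp _).trans e.symm)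
    let n' : w true z ⟶ w false z := Over.homMk (𝟙 z.left) ((Category.id_comp _).trans e)
    have ht : InOpen (w true z) (Set.range (j false).left) := (hw false z).of_hom n'
    have e₁ : (c true z).hom = (c false z).hom ≫ (AlgSt.overMap p).map n := by refine Over.OverMorphism.ext ?_; exact (Category.id_comp _).symm
    have e₂ : (c false z).inv = (AlgSt.overMap p).map n ≫ (c true z).inv := by refine Over.OverMorphism.ext ?_; exact (Category.id_comp _).symm
    have hn := han false n ht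
    have hΓz : E.map (c true z).hom ≫ (Γ₀ (w true z)).hom = (Γ z).hom ≫ E.map (c true z).hom :=
      hΓn _ (hin _ (hw true z) ht)
    show E.map _ ≫ a false _ _ ≫ E.map _ = _ ≫ E.map _ ≫ a true _ _ ≫ E.map _
    rw [← reassoc_of% hΓz, ← reassoc_of% hag (w true z) (hw true z) ht, e₁, e₂, Functor.map_comp,
      Functor.map_comp, Category.assoc]
    exact congrArg (E.map (c false z).hom ≫ ·) ((reassoc_of% hn) (E.map (c true z).inv)).symm
  refine ⟨Aut, hAutb, hAutn, fun z h => ?_, fun z h => ?_⟩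
  · rw [hrel z (h.trans fun t ht => Or.inl ht), hΓA z h]
  · rw [hrel z (h.trans fun t ht => Or.inr ht), hΓB z h, Category.id_comp]

/-- with separated isomorphism classes, objects over affine schemes have no automorphisms -/
theorem app_top_eq_id (hS : Stk.IsStack (Jf S) 𝒳)
    (hd : AlgSt.RepByAlgSpWith AlgSp.IsSeparatedMor (FibCat.diag (FibCat.toSelf 𝒳))) (hsep : SepIsoCl 𝒳)
    (R : CommRingCat.{u}) (f : Spec R ⟶ S) (x : FibCat.overCat (Over.mk f) ⥤ᵇ 𝒳) (g : x ⟶ x) :
    g.toNatTrans.app (Over.mk (𝟙 (Over.mk f))) = 𝟙 _ := by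
  classical
  have hg := hS.1
  let A : CommRingCat.{u} := CommRingCat.of (Axes R)
  let φ : R ⟶ A := CommRingCat.ofHom (algebraMap R (Axes R))
  let T : Over S := Over.mk f
  let U : Over S := Over.mk (Spec.map φ ≫ f)
  let q : U ⟶ T := Over.homMk (Spec.map φ) rfl
  let E := BasedFunctor.comp (AlgSt.overMap q) x
  let gE : E ⟶ E := BasedCategory.whiskerLeft (AlgSt.overMap q) g
  let Oa : U.left.Opens := PrimeSpectrum.basicOpen (axA R : Axes R)
  let Ob : U.left.Opens := PrimeSpectrum.basicOpen (axB R : Axes R)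
  have hab : Disjoint (Oa : Set U.left) Ob := by
    rw [Set.disjoint_left]
    intro t ha hb
    have h : (axA R * axB R : Axes R) ∈ t.asIdeal := by rw [axA_mul_axB]; exact t.asIdeal.zero_mem
    exact (t.isPrime.mem_or_mem h).elim (fun h => ha h) fun h => hb h
  obtain ⟨Aut, hAutb, hAutn, hAutA, hAutB⟩ := exists_pair hS hsep E gE Oa Ob hab
  -- the two lines
  let P : CommRingCat.{u} := CommRingCat.of R[X]
  let P₀ : CommRingCat.{u} := CommRingCat.of (Localization.Away (Polynomial.X : R[X]))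
  let loc : P ⟶ P₀ := CommRingCat.ofHom (algebraMap R[X] (Localization.Away (Polynomial.X : R[X])))
  let l : Bool → (A ⟶ P) := fun b => CommRingCat.ofHom (lineHom R b)
  let zl : Bool → Over U := fun b => Over.mk (Over.homMk (Spec.map (l b)) rfl : Over.mk (Spec.map (l b) ≫ U.hom) ⟶ U)
  let zl₀ : Bool → Over U := fun b =>
    Over.mk ((Over.homMk (U := Over.mk (Spec.map loc ≫ (zl b).left.hom)) (V := (zl b).left) (Spec.map loc) rfl) ≫ (zl b).hom)
  let m : ∀ b, zl₀ b ⟶ zl b := fun b =>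
    Over.homMk (U := zl₀ b) (V := zl b)
      (Over.homMk (U := Over.mk (Spec.map loc ≫ (zl b).left.hom)) (V := (zl b).left) (Spec.map loc) rfl) rfl
  have hunit : IsUnit (loc.hom (Polynomial.X : R[X])) :=
    IsLocalization.map_units (Localization.Away (Polynomial.X : R[X]))
      (⟨Polynomial.X, Submonoid.mem_powers _⟩ : Submonoid.powers (Polynomial.X : R[X]))
  have hzl : ∀ b, InOpen (zl₀ b) (cond b Oa Ob : Set U.left) := fun b => by
    rintro _ ⟨t, rfl⟩
    cases b
    · intro h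
      exact t.isPrime.ne_top (Ideal.eq_top_of_isUnit_mem _ h hunit)
    · intro h
      exact t.isPrime.ne_top (Ideal.eq_top_of_isUnit_mem _ h hunit)
  have hinj : Function.Injective loc.hom := IsLocalization.injective _ (by
    rw [Submonoid.powers_le]
    exact Polynomial.isRegular_X.mem_nonZeroDivisors)
  have hdense : ∀ b {t : 𝒳.obj} (α β : E.obj (zl b) ⟶ t), 𝒳.p.map α = 𝒳.p.map β →
      E.map (m b) ≫ α = E.map (m b) ≫ β → α = β := fun b t α β hp h => by
    refine eq_of_dense hg hd (m b).left (fun {Z} ι k hι hk => ?_) (E.w_obj (zl b)) α β hp (E.map (m b))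
      (E.w_obj (zl₀ b)) (FibCatRep.map_map E (m b)) h
    haveI : IsAffine (zl b).left.left := inferInstanceAs (IsAffine (Spec P))
    refine isIso_of_factor (Spec.map loc) ?_ ι k hι hk
    intro a b e
    have e' := congrArg (Scheme.ΓSpecIso P₀).hom e
    rw [← ConcreteCategory.comp_apply, ← ConcreteCategory.comp_apply, Scheme.ΓSpecIso_naturality,
      ConcreteCategory.comp_apply, ConcreteCategory.comp_apply] at e'
    exact (ConcreteCategory.bijective_of_isIso (Scheme.ΓSpecIso P).hom).injective (hinj e')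
  have ht : Aut false (zl true) = gE.toNatTrans.app (zl true) ≫ Aut true (zl true) := by
    refine hdense true _ _ (by simp [hAutb, map_app]) ?_
    rw [hAutn, hAutA _ (hzl true), reassoc_of% gE.toNatTrans.naturality (m true),
      hAutn, Category.assoc]
  have hf : Aut false (zl false) = Aut true (zl false) := by
    refine hdense false _ _ (by simp [hAutb]) ?_
    rw [hAutn, hAutB _ (hzl false), hAutn]
  -- the origin
  let ev : P ⟶ R := CommRingCat.ofHom (Polynomial.aeval (0 : R)).toRingHom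
  have hφev : φ ≫ l true ≫ ev = 𝟙 R := by
    ext r
    show (Polynomial.aeval (0 : R)) (Polynomial.C r) = r
    simp
  let Z₀ : Over S := Over.mk (Spec.map ev ≫ (zl true).left.hom)
  let z₀ : Over U := Over.mk (Over.homMk (U := Z₀) (V := (zl true).left) (Spec.map ev) rfl ≫ (zl true).hom)
  let n₁ : z₀ ⟶ zl true := Over.homMk (U := z₀) (V := zl true) (Over.homMk (U := Z₀) (V := (zl true).left) (Spec.map ev) rfl) rfl
  have hor : l true ≫ ev = l false ≫ ev := CommRingCat.hom_ext (origin_lineHom R)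
  let n₂ : z₀ ⟶ zl false := Over.homMk (U := z₀) (V := zl false) (Over.homMk (U := Z₀) (V := (zl false).left) (Spec.map ev) (by
      show Spec.map ev ≫ Spec.map (l false) ≫ U.hom = Spec.map ev ≫ Spec.map (l true) ≫ U.hom
      rw [← Spec.map_comp_assoc, ← hor, Spec.map_comp_assoc])) (by
    ext1
    show Spec.map ev ≫ Spec.map (l false) = Spec.map ev ≫ Spec.map (l true)
    rw [← Spec.map_comp, ← hor, Spec.map_comp])
  have e₁ : Aut false z₀ = gE.toNatTrans.app z₀ ≫ Aut true z₀ := by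
    refine cancel hg (E.map n₁) (by simp [hAutb, map_app]) ?_
    rw [← hAutn, ht, reassoc_of% gE.toNatTrans.naturality n₁, hAutn, Category.assoc]
  have e₂ : Aut false z₀ = Aut true z₀ := by
    refine cancel hg (E.map n₂) (by simp [hAutb]) ?_
    rw [← hAutn, hf, hAutn]
  haveI : IsIso (𝒳.p.map (Aut true z₀)) := by rw [hAutb]; infer_instance
  haveI := isIso_of_map hg (Aut true z₀)
  have e₃ : gE.toNatTrans.app z₀ = 𝟙 _ := by
    rw [← cancel_mono (Aut true z₀), Category.id_comp, ← e₁, e₂]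
  let k : (AlgSt.overMap q).obj z₀ ≅ Over.mk (𝟙 T) := Over.isoMk (Over.isoMk (Iso.refl _) (by
      show 𝟙 _ ≫ f = Spec.map ev ≫ Spec.map (l true) ≫ Spec.map φ ≫ f
      rw [← Spec.map_comp_assoc, ← Spec.map_comp_assoc, hφev, Spec.map_id])) (by
    ext1
    show 𝟙 _ ≫ 𝟙 (Spec R) = (Spec.map ev ≫ Spec.map (l true)) ≫ Spec.map φ
    rw [← Spec.map_comp, ← Spec.map_comp, hφev, Spec.map_id, Category.id_comp])
  have e₄ := g.toNatTrans.naturality k.hom
  rw [show g.toNatTrans.app ((AlgSt.overMap q).obj z₀) = 𝟙 _ from e₃, Category.id_comp] at e₄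
  exact (cancel_epi (x.map k.hom)).1 (e₄.trans (Category.comp_id _).symm)

/-- separated isomorphism classes force objects to be clean -/
theorem isClean_of_sepIsoCl (hS : Stk.IsStack (Jf S) 𝒳)
    (hd : AlgSt.RepByAlgSpWith AlgSp.IsSeparatedMor (FibCat.diag (FibCat.toSelf 𝒳))) (hsep : SepIsoCl 𝒳)
    (η : 𝒳.obj) : IsoNat.IsClean η := by
  intro a _ s hs
  have hg := hS.1
  let T := 𝒳.p.obj a
  haveI := Groth.Agent.S6409.result hg T
  let pt : 𝒳.p.Fiber T := ⟨a, rfl⟩
  let x := (FibCat.evalAtId 𝒳 T).objPreimage pt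
  let ε := (FibCat.evalAtId 𝒳 T).objObjPreimageIso pt
  let g : x ⟶ x := (FibCat.evalAtId 𝒳 T).preimage (ε.hom ≫ fibHom pt pt s (hs.trans (eqToHom_refl _ rfl).symm) ≫ ε.inv)
  let top : (FibCat.overCat T).obj := Over.mk (𝟙 T)
  suffices h : g.toNatTrans.app top = 𝟙 _ by
    have e : (FibCat.evalAtId 𝒳 T).map g = 𝟙 _ := Functor.Fiber.hom_ext h
    rw [Functor.map_preimage, ← Category.assoc, Iso.comp_inv_eq, Category.id_comp, ← Iso.eq_inv_comp,
      Iso.inv_hom_id] at e
    exact congrArg Subtype.val e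
  let V : T.left.affineOpens → Over S := fun W => Over.mk (W.1.ι ≫ T.hom)
  let ι : ∀ W, V W ⟶ T := fun W => Over.homMk W.1.ι rfl
  have hR := mem_J_of_opens ι (fun W => inferInstanceAs (IsOpenImmersion W.1.ι)) fun t => by
    obtain ⟨W, hW, htW, -⟩ := TopologicalSpace.Opens.isBasis_iff_nbhd.mp T.left.isBasis_affineOpens
      (show t ∈ (⊤ : T.left.Opens) from trivial)
    exact ⟨⟨W, hW⟩, ⟨t, htW⟩, rfl⟩
  refine FibCat2Misc.eq_of_locally hg (x.w_obj top) _ (faithful_resSieve hS _ hR) _ _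
    (by rw [map_app, CategoryTheory.Functor.map_id]; simp) ?_
  rintro W f ⟨Z, c, _, ⟨O⟩, rfl⟩
  let Rg := Γ(T.left, O.1)
  let u : Over.mk (O.2.fromSpec ≫ T.hom) ⟶ T := Over.homMk O.2.fromSpec rfl
  let d : W ⟶ Over.mk (O.2.fromSpec ≫ T.hom) := Over.homMk (c.left ≫ O.2.isoSpec.hom) (by
    show (c.left ≫ O.2.isoSpec.hom) ≫ O.2.fromSpec ≫ T.hom = W.hom
    rw [Category.assoc, O.2.isoSpec_hom_fromSpec_assoc]
    exact Over.w c)
  have hdu : d ≫ u = c ≫ ι O := by
    ext1
    show (c.left ≫ O.2.isoSpec.hom) ≫ O.2.fromSpec = c.left ≫ O.1.ι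
    rw [Category.assoc, O.2.isoSpec_hom_fromSpec]
  have h₁ := app_top_eq_id hS hd hsep Rg (O.2.fromSpec ≫ T.hom) (BasedFunctor.comp (AlgSt.overMap u) x)
    (BasedCategory.whiskerLeft (AlgSt.overMap u) g)
  let n : (Over.mk (c ≫ ι O) : Over T) ⟶ (AlgSt.overMap u).obj (Over.mk (𝟙 _)) :=
    Over.homMk d (by show d ≫ 𝟙 _ ≫ u = c ≫ ι O; rw [Category.id_comp, hdu])
  let m : (Over.mk (c ≫ ι O) : Over T) ⟶ top := Over.homMk (c ≫ ι O) (Category.comp_id _)
  refine ⟨x.obj (Over.mk (c ≫ ι O)), x.map m, x.w_obj _, FibCatRep.map_map x m, ?_⟩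
  have h₂ : g.toNatTrans.app (Over.mk (c ≫ ι O)) = 𝟙 _ := by
    refine cancel hg (x.map n) (by rw [map_app, CategoryTheory.Functor.map_id]; simp) ?_
    rw [← g.toNatTrans.naturality n, Category.id_comp]
    exact (congrArg (x.map n ≫ ·) h₁).trans (Category.comp_id _)
  rw [g.toNatTrans.naturality m, h₂, Category.id_comp, Category.comp_id]

end Groth.Agent.IsoNatLib

end

namespace Groth.Agent.IsoNatLib

open CategoryTheory AlgebraicGeometry Groth.Agent.FibCatRep

variable {S : Scheme.{u}} {𝒳 𝒴 : AlgSt.Cat S}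

/-- separatedness of isomorphism classes transports along isomorphisms of their presheaves -/
theorem SepIsoCl.transport (h𝒳 : FibCat.IsFibGrpd 𝒳.p) (h𝒴 : FibCat.IsFibGrpd 𝒴.p) (φ : IsoNat.FIso 𝒳 𝒴)
    (h : SepIsoCl 𝒳) : SepIsoCl 𝒴 := by
  intro T T' π _ _ _ y₁ y₂ y₁' y₂' a₁ a₂ h₁ h₂ hi
  have key : ∀ (y : 𝒴.p.Fiber T) (y' : 𝒴.p.Fiber T') (a : y'.1 ⟶ y.1), 𝒴.p.IsHomLift π a →
      ∃ (x : 𝒳.p.Fiber T) (x' : 𝒳.p.Fiber T') (c : x'.1 ⟶ x.1), 𝒳.p.IsHomLift π c ∧
        φ.toEquiv T (IsoNat.cls x) = IsoNat.cls y ∧ φ.toEquiv T' (IsoNat.cls x') = IsoNat.cls y' := by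
    intro y y' a ha
    obtain ⟨x, hx⟩ : ∃ x : 𝒳.p.Fiber T, IsoNat.cls x = (φ.toEquiv T).symm (IsoNat.cls y) :=
      Quotient.exists_rep _
    obtain ⟨o, c, ho, hc⟩ := exists_lift h𝒳 (x := x.1) (π ≫ eqToHom x.2.symm)
    have hl : 𝒳.p.IsHomLift π c := IsHomLift.of_fac' 𝒳.p _ _ ho x.2 hc
    obtain ⟨z', z, b, hb, hz', hz⟩ := φ.natural π ⟨o, ho⟩ x c hl
    have hxy : φ.toEquiv T (IsoNat.cls x) = IsoNat.cls y := by rw [hx, Equiv.apply_symm_apply]
    refine ⟨x, ⟨o, ho⟩, c, hl, hxy, hz'.trans ?_⟩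
    obtain ⟨e⟩ := Quotient.exact (hz.symm.trans hxy)
    haveI := e.hom.2
    haveI := hb
    haveI := ha
    have hbe : 𝒴.p.IsHomLift π (b ≫ e.hom.1) := inferInstance
    obtain ⟨χ, ⟨hχ, -⟩, -⟩ := existsUnique_cart h𝒴 a (b ≫ e.hom.1) (eqToHom (z'.2.trans y'.2.symm)) (by
      rw [IsHomLift.fac' 𝒴.p π (b ≫ e.hom.1), IsHomLift.fac' 𝒴.p π a]
      simp)
    exact cls_eq_of_vertical h𝒴 z' y' χ hχ
  obtain ⟨x₁, x₁', c₁, hc₁, e₁, e₁'⟩ := key y₁ y₁' a₁ h₁
  obtain ⟨x₂, x₂', c₂, hc₂, e₂, e₂'⟩ := key y₂ y₂' a₂ h₂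
  have hx := h T T' π x₁ x₂ x₁' x₂' c₁ c₂ hc₁ hc₂ (Quotient.exact ((φ.toEquiv T').injective
    ((e₁'.trans (Quotient.sound hi)).trans e₂'.symm)))
  exact Quotient.exact ((e₁.symm.trans (congrArg (φ.toEquiv T) (Quotient.sound hx))).trans e₂)

end Groth.Agent.IsoNatLib
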