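import Groth.Agent.GerbLib.BandSheaf
import Groth.Agent.FibCat2Misc.Stack
import Groth.Agent.AlgSpLib.Sigma
import Groth.Prelude.Def_AlgSt2

/-!
# Gluing automorphisms on two disjoint opens

For a functor `E : (Sch/U) ⟶ 𝒳`, an automorphism `g` of it and two disjoint opens `A`, `B` of `U` there is a
natural system of automorphisms over the schemes mapping to `A ∪ B` equal to `g` on `A` and to `1` on `B`.
-/

set_option autoImplicit false
set_option backward.isDefEq.respectTransparency false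
set_option backward.isDefEq.respectTransparency.types false
set_option linter.style.haveILetI false
universe u

noncomputable section

namespace Groth.Agent.IsoNatLib

open CategoryTheory AlgebraicGeometry Groth.Agent.FibCatRep

variable {S : Scheme.{u}} {𝒳 : AlgSt.Cat S}

/-- the fppf topology over the base -/
abbrev Jf (S : Scheme.{u}) : GrothendieckTopology (Over S) := QuotSh.J Scheme.fppfPrecoverage S

/-- open immersions with jointly surjective images cover -/
theorem mem_J_of_opens {ι : Type*} {U : Over S} {V : ι → Over S} (q : ∀ i, V i ⟶ U)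
    (ho : ∀ i, IsOpenImmersion (q i).left) (h : ∀ t : U.left, ∃ i, t ∈ Set.range (q i).left) :
    Sieve.generate (Presieve.ofArrows V q) ∈ Jf S U := by
  refine AlgSpLib.generate_ofArrows_mem_J q (Scheme.zariskiPrecoverage_le_fppfPrecoverage _ ?_)
  rw [Scheme.zariskiPrecoverage, Scheme.ofArrows_mem_precoverage_iff]
  exact ⟨h, ho⟩

theorem faithful_resSieve (hS : Stk.IsStack (Jf S) 𝒳) {U : Over S} (R : Sieve U) (hR : R ∈ Jf S U) :
    (Stk.resSieve R 𝒳).Faithful := by
  haveI : (Stk.resSieve R 𝒳).IsEquivalence := hS.2 R hR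
  infer_instance

/-- morphisms out of an object over the empty scheme are determined by their base -/
theorem eq_of_isEmpty (hS : Stk.IsStack (Jf S) 𝒳) {t t' : 𝒳.obj} [IsEmpty (𝒳.p.obj t).left] (α β : t ⟶ t')
    (hp : 𝒳.p.map α = 𝒳.p.map β) : α = β := by
  let V : PEmpty.{u + 1} → Over S := fun i => i.elim
  let q : ∀ i, V i ⟶ 𝒳.p.obj t := fun i => i.elim
  have hR := mem_J_of_opens q (fun i => i.elim) fun t => isEmptyElim t
  refine FibCat2Misc.eq_of_locally hS.1 rfl _ (faithful_resSieve hS _ hR) α β hp ?_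
  rintro W f ⟨Y, a, b, ⟨i⟩, -⟩
  exact i.elim

section

variable (hS : Stk.IsStack (Jf S) 𝒳) {U : Over S} (E : FibCat.overCat U ⥤ᵇ 𝒳) (A B : U.left.Opens)

/-- the image of the test scheme lies in `A` -/
abbrev InOpen (z : Over U) (A : Set U.left) : Prop := Set.range z.hom.left ⊆ A

theorem InOpen.of_hom {z' z : Over U} (m : z' ⟶ z) {A : Set U.left} (h : InOpen z A) : InOpen z' A := by
  rintro _ ⟨t, rfl⟩
  refine h ⟨m.left.left t, ?_⟩
  rw [← Over.w m]
  rfl

theorem isEmpty_of_inOpen {z : Over U} {A B : Set U.left} (hAB : Disjoint A B) (h₁ : InOpen z A)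
    (h₂ : InOpen z B) : IsEmpty z.left.left :=
  ⟨fun t => hAB.le_bot ⟨h₁ ⟨t, rfl⟩, h₂ ⟨t, rfl⟩⟩⟩

/-- the covering sieve of the two pieces -/
def pieces (z : Over U) : Sieve z.left :=
  Sieve.generate (Presieve.ofArrows (fun b : Bool => Over.mk ((z.hom.left ⁻¹ᵁ (cond b A B)).ι ≫ z.left.hom))
    (fun b : Bool => Over.homMk ((z.hom.left ⁻¹ᵁ (cond b A B)).ι) rfl))

theorem pieces_mem {z : Over U} (hz : InOpen z (A ⊔ B : U.left.Opens)) : pieces A B z ∈ Jf S z.left := by
  refine mem_J_of_opens _ (fun b => inferInstanceAs (IsOpenImmersion (Scheme.Opens.ι _))) fun t => ?_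
  obtain h | h := (hz ⟨t, rfl⟩ : z.hom.left t ∈ (A : Set U.left) ∪ B)
  · exact ⟨true, ⟨t, h⟩, rfl⟩
  · exact ⟨false, ⟨t, h⟩, rfl⟩

theorem pieces_cases {z : Over U} {W : Over S} {f : W ⟶ z.left} (h : pieces A B z f) :
    InOpen (Over.mk (f ≫ z.hom)) (A : Set U.left) ∨ InOpen (Over.mk (f ≫ z.hom)) (B : Set U.left) := by
  obtain ⟨Y, a, b, ⟨i⟩, rfl⟩ := h
  have key : InOpen (Over.mk ((a ≫ Over.homMk ((z.hom.left ⁻¹ᵁ (cond i A B)).ι) rfl) ≫ z.hom))
      (cond i A B : Set U.left) := by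
    rintro _ ⟨t, rfl⟩
    have := (a.left t).2
    cases i <;> exact this
  cases i
  · exact Or.inr key
  · exact Or.inl key

include hS

/-- morphisms out of a value of `E` over `A ∪ B` are determined on the two pieces -/
theorem eq_of_pieces {z : Over U} (hz : InOpen z (A ⊔ B : U.left.Opens)) {t : 𝒳.obj} (α β : E.obj z ⟶ t)
    (hp : 𝒳.p.map α = 𝒳.p.map β)
    (h : ∀ (z' : Over U) (m : z' ⟶ z), InOpen z' (A : Set U.left) ∨ InOpen z' (B : Set U.left) →
      E.map m ≫ α = E.map m ≫ β) : α = β := by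
  refine FibCat2Misc.eq_of_locally hS.1 (E.w_obj z) (pieces A B z)
    (faithful_resSieve hS _ (pieces_mem A B hz)) α β hp fun W f hf => ?_
  let m : Over.mk (f ≫ z.hom) ⟶ z := Over.homMk f rfl
  refine ⟨E.obj (Over.mk (f ≫ z.hom)), E.map m, E.w_obj _, ?_, h _ m (pieces_cases A B hf)⟩
  exact map_map E m

variable (hAB : Disjoint (A : Set U.left) B) (g : E ⟶ E)

include hAB in
/-- the automorphism equal to `g` over `A` and to the identity over `B` -/
theorem exists_gamma (z : Over U) (hz : InOpen z (A ⊔ B : U.left.Opens)) :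
    ∃ σ : E.obj z ≅ E.obj z, 𝒳.p.map σ.hom = 𝟙 _ ∧
      ∀ (z' : Over U) (m : z' ⟶ z), (InOpen z' (A : Set U.left) → E.map m ≫ σ.hom = g.toNatTrans.app z' ≫ E.map m) ∧
        (InOpen z' (B : Set U.left) → E.map m ≫ σ.hom = E.map m) := by
  classical
  have hg := hS.1
  obtain ⟨α₀, hα₀⟩ := GerbLib.Band.exists_autO hg (g.toNatTrans.app z)
    ((map_app g z).trans (eqToHom_refl _ ((E.w_obj z).trans (E.w_obj z).symm)))
  choose c hc hc' using fun (y : 𝒳.obj) (φ : y ⟶ E.obj z) => GerbLib.Band.existsUnique_conj hg φ α₀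
  let base : ∀ (y : 𝒳.obj), (y ⟶ E.obj z) → Over U := fun y φ =>
    Over.mk ((𝒳.p.map φ ≫ eqToHom (E.w_obj z)) ≫ z.hom)
  let a : ∀ (y : 𝒳.obj) (φ : y ⟶ E.obj z), Gerb.AutO y := fun y φ =>
    if InOpen (base y φ) (A : Set U.left) then c y φ else 1
  let R : Sieve (𝒳.p.obj (E.obj z)) := (pieces A B z).pullback (eqToHom (E.w_obj z))
  have hR : R ∈ Jf S _ := (Jf S).pullback_stable _ (pieces_mem A B hz)
  have hbase : ∀ {y' y : 𝒳.obj} (ψ : y' ⟶ y) (φ : y ⟶ E.obj z),
      ∃ m : base y' (ψ ≫ φ) ⟶ base y φ, True := fun ψ φ =>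
    ⟨Over.homMk (𝒳.p.map ψ) (by simp [base]), trivial⟩
  obtain ⟨α, hα, -⟩ := GerbLib.Band.existsUnique_glue hS hR (fun y φ _ => a y φ) (by
    intro y' y ψ φ h h'
    obtain ⟨m, -⟩ := hbase ψ φ
    simp only [a]
    by_cases hA : InOpen (base y φ) (A : Set U.left)
    · rw [if_pos hA, if_pos (hA.of_hom m)]
      obtain ⟨β, hβ, -⟩ := GerbLib.Band.existsUnique_conj hg ψ (c y φ)
      have e : β = c y' (ψ ≫ φ) := hc' y' (ψ ≫ φ) β (by
        show GerbLib.Band.ah β ≫ ψ ≫ φ = (ψ ≫ φ) ≫ GerbLib.Band.ah α₀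
        rw [reassoc_of% hβ, hc y φ, Category.assoc])
      rw [← e]
      exact hβ
    · rw [if_neg hA, GerbLib.Band.ah_one, Category.comp_id]
      by_cases hA' : InOpen (base y' (ψ ≫ φ)) (A : Set U.left)
      · rw [if_pos hA']
        have hB : InOpen (base y φ) (B : Set U.left) := (pieces_cases A B h).resolve_left hA
        haveI : IsEmpty (𝒳.p.obj y').left := isEmpty_of_inOpen hAB hA' (hB.of_hom m)
        exact eq_of_isEmpty hS _ _ (by simp [GerbLib.Band.map_ah])
      · rw [if_neg hA', GerbLib.Band.ah_one, Category.id_comp])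
  refine ⟨{ hom := GerbLib.Band.ah α, inv := GerbLib.Band.ah α⁻¹
            hom_inv_id := GerbLib.Band.ah_comp_inv α, inv_hom_id := GerbLib.Band.ah_inv_comp α },
    GerbLib.Band.map_ah α, fun z' m => ?_⟩
  have hb : ∀ {C : Set U.left}, InOpen z' C → InOpen (base _ (E.map m)) C := fun hC => by
    refine hC.of_hom (Over.homMk (eqToHom (E.w_obj z')) ?_)
    show eqToHom (E.w_obj z') ≫ z'.hom = (𝒳.p.map (E.map m) ≫ eqToHom (E.w_obj z)) ≫ z.hom
    rw [map_map]
    simp only [eqToHom_trans, Category.assoc, eqToHom_refl, Category.comp_id, Category.id_comp]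
    exact congrArg (eqToHom _ ≫ ·) (Over.w m).symm
  have hR' : InOpen z' (A : Set U.left) ∨ InOpen z' (B : Set U.left) → R (𝒳.p.map (E.map m)) := by
    intro h
    show pieces A B z (𝒳.p.map (E.map m) ≫ eqToHom (E.w_obj z))
    have key : ∀ b : Bool, InOpen z' (cond b A B : Set U.left) →
        pieces A B z (𝒳.p.map (E.map m) ≫ eqToHom (E.w_obj z)) := fun b hb => by
      have hr : Set.range m.left.left ⊆ Set.range (z.hom.left ⁻¹ᵁ (cond b A B)).ι := by
        rintro _ ⟨t, rfl⟩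
        rw [Scheme.Opens.range_ι]
        show z.hom.left (m.left.left t) ∈ cond b A B
        have e : z.hom.left (m.left.left t) = z'.hom.left t := by rw [← Over.w m]; rfl
        rw [e]
        have := hb ⟨t, rfl⟩
        cases b <;> exact this
      have hfac := IsOpenImmersion.lift_fac (z.hom.left ⁻¹ᵁ (cond b A B)).ι m.left.left hr
      refine ⟨_, Over.homMk ((eqToHom (E.w_obj z')).left ≫
          IsOpenImmersion.lift (z.hom.left ⁻¹ᵁ (cond b A B)).ι m.left.left hr) ?_, _, ⟨b⟩, ?_⟩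
      · show (_ ≫ _) ≫ (z.hom.left ⁻¹ᵁ (cond b A B)).ι ≫ z.left.hom = _
        rw [Category.assoc, reassoc_of% hfac, Over.w m.left]
        exact Over.w (eqToHom (E.w_obj z'))
      · ext1
        rw [map_map]
        show (_ ≫ _) ≫ (z.hom.left ⁻¹ᵁ (cond b A B)).ι = _
        rw [Category.assoc, hfac]
        simp
        rfl
    obtain h | h := h
    · exact key true h
    · exact key false h
  refine ⟨fun h => ?_, fun h => ?_⟩
  · have e := hα _ (E.map m) (hR' (Or.inl h))
    simp only [a] at e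
    rw [if_pos (hb h)] at e
    rw [← e, hc, hα₀]
    exact g.toNatTrans.naturality m
  · have e := hα _ (E.map m) (hR' (Or.inr h))
    simp only [a] at e
    by_cases hA : InOpen (base _ (E.map m)) (A : Set U.left)
    · haveI : IsEmpty (𝒳.p.obj (E.obj z')).left := isEmpty_of_inOpen hAB hA (hb h)
      exact eq_of_isEmpty hS _ _ (by rw [Functor.map_comp, GerbLib.Band.map_ah, Category.comp_id])
    · rw [if_neg hA, GerbLib.Band.ah_one, Category.id_comp] at e
      exact e.symm

include hAB in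
/-- a natural system of automorphisms over `A ∪ B`, equal to `g` on `A` and to `1` on `B` -/
theorem exists_system :
    ∃ Γ : ∀ z : Over U, E.obj z ≅ E.obj z, (∀ z, 𝒳.p.map (Γ z).hom = 𝟙 _) ∧
      (∀ {z' z : Over U} (m : z' ⟶ z), InOpen z (A ⊔ B : U.left.Opens) →
        E.map m ≫ (Γ z).hom = (Γ z').hom ≫ E.map m) ∧
      (∀ z, InOpen z (A : Set U.left) → (Γ z).hom = g.toNatTrans.app z) ∧
      ∀ z, InOpen z (B : Set U.left) → (Γ z).hom = 𝟙 _ := by
  classical
  choose σ hσ hσ' using exists_gamma hS E A B hAB g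
  let Γ : ∀ z : Over U, E.obj z ≅ E.obj z := fun z =>
    if h : InOpen z (A ⊔ B : U.left.Opens) then σ z h else Iso.refl _
  have hpos : ∀ z (h : InOpen z (A ⊔ B : U.left.Opens)), Γ z = σ z h := fun z h => dif_pos h
  have hΓ : ∀ z, 𝒳.p.map (Γ z).hom = 𝟙 _ := fun z => by
    by_cases h : InOpen z (A ⊔ B : U.left.Opens)
    · rw [hpos z h, hσ]
    · rw [show Γ z = Iso.refl _ from dif_neg h, Iso.refl_hom, CategoryTheory.Functor.map_id]
  have hA : ∀ z, InOpen z (A : Set U.left) → (Γ z).hom = g.toNatTrans.app z := fun z h => by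
    have h' : InOpen z (A ⊔ B : U.left.Opens) := h.trans fun t ht => Or.inl ht
    simpa [hpos z h'] using (hσ' z h' z (𝟙 z)).1 h
  have hB : ∀ z, InOpen z (B : Set U.left) → (Γ z).hom = 𝟙 _ := fun z h => by
    have h' : InOpen z (A ⊔ B : U.left.Opens) := h.trans fun t ht => Or.inr ht
    simpa [hpos z h'] using (hσ' z h' z (𝟙 z)).2 h
  refine ⟨Γ, hΓ, fun {z' z} m hz => ?_, hA, hB⟩
  refine eq_of_pieces hS E A B (hz.of_hom m) _ _ (by simp [hΓ]) fun z'' n hn => ?_
  have e₁ : E.map n ≫ E.map m = E.map (n ≫ m) := (E.toFunctor.map_comp n m).symm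
  rw [reassoc_of% e₁]
  rw [hpos z hz, hpos z' (hz.of_hom m)]
  obtain hn | hn := hn
  · rw [(hσ' z hz z'' (n ≫ m)).1 hn, reassoc_of% (hσ' z' (hz.of_hom m) z'' n).1 hn, e₁]
  · rw [(hσ' z hz z'' (n ≫ m)).2 hn, reassoc_of% (hσ' z' (hz.of_hom m) z'' n).2 hn, e₁]

end

end Groth.Agent.IsoNatLib

end
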