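import Groth.Agent.IsoNatLib.DoubleGlue
import Groth.Agent.IsoNatLib.ExtDVR
import Groth.Agent.AlgStLib.LocQResults

/-!
# Separatedness of morphisms is read from isomorphism classes on doubled discrete valuation rings
-/

set_option autoImplicit false
set_option backward.isDefEq.respectTransparency false
set_option backward.isDefEq.respectTransparency.types false
set_option linter.style.haveILetI false
set_option maxHeartbeats 1000000
universe w₁ w₂ u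

noncomputable section

namespace Groth.Agent.IsoNatLib.LiftDVR

open CategoryTheory CategoryTheory.Limits AlgebraicGeometry Opposite Groth.Agent.FibCatRep
  Groth.Agent.FibCat2Misc Groth.Agent.AlgSpLib Groth.Agent.AlgStLib
open Groth.Agent.IsoNatLib.DoubleGlue (Vj toId swp)
open _root_.AlgSp _root_.AlgSt

variable {S : Scheme.{u}} {𝒵 𝒲 : AlgSt.Cat S}

/-- lifts along `F` of objects over `T` extending given lifts over `W` -/
def LiftAt (F : 𝒵 ⥤ᵇ 𝒲) {T W : Over S} (x : FibCat.overCat T ⥤ᵇ 𝒲) (j : W ⟶ T) : Prop :=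
  ∀ (ξK : 𝒵.obj) (iK : x.obj (Over.mk j) ≅ F.obj ξK), (∃ h, 𝒲.p.map iK.hom = eqToHom h) →
    ∃ (ξ : 𝒵.obj) (i : x.obj (Over.mk (𝟙 T)) ≅ F.obj ξ) (μ : ξK ⟶ ξ),
      (∃ h, 𝒲.p.map i.hom = eqToHom h) ∧ iK.hom ≫ F.map μ = x.map (toId j) ≫ i.hom

/-- the morphism from the generic point -/
abbrev gen (A : Type u) [CommRing A] (K : Type u) [CommRing K] [Algebra A K] (str : Spec (.of A) ⟶ S) :
    (Over.mk (Spec.map (CommRingCat.ofHom (algebraMap A K)) ≫ str) : Over S) ⟶ Over.mk str :=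
  Over.homMk (Spec.map (CommRingCat.ofHom (algebraMap A K))) rfl

/-- lifts over discrete valuation rings -/
def LiftDVR (F : 𝒵 ⥤ᵇ 𝒲) : Prop :=
  ∀ (A : Type u) [CommRing A] [IsDomain A] [IsDiscreteValuationRing A] (K : Type u) [Field K] [Algebra A K]
    [IsFractionRing A K] (str : Spec (.of A) ⟶ S) (x : FibCat.overCat (Over.mk str) ⥤ᵇ 𝒲),
    LiftAt F x (gen A K str)

variable {F : 𝒵 ⥤ᵇ 𝒲}

section model

variable {Z : Sp S} {y₀ : AlgSt.ofSp Z ⥤ᵇ 𝒲} {V : Sp S} {a : V ⟶ Z} {e : AlgSt.ofSp V ⥤ᵇ FibCat.fp y₀ F}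
  (jf : BasedFunctor.comp e (FibCat.fpFst y₀ _) ≅ AlgSt.ofSpMap a) (he : FibCat.IsEquivOver e)

include jf in
lemma fst_sec (o : (AlgSt.ofSp V).obj) :
    Z.obj.map (eqToHom (e.w_obj o).symm).op (e.obj o).obj.fst.sec = a.hom.app (op o.base) o.sec :=
  (secOf_congr jf o).trans (secOf_ofPshMap _ o)

include he in
lemma exists_elt (ω : (FibCat.fp y₀ F).obj) {U : Over S} (hU : ω.obj.fst.base = U) :
    ∃ (s : V.obj.obj (op U)) (M : e.obj (⟨U, s⟩ : (AlgSt.ofSp V).obj) ≅ ω),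
      (FibCat.fp y₀ F).p.map M.hom = eqToHom
        (show (FibCat.fp y₀ F).p.obj (e.obj (⟨U, s⟩ : (AlgSt.ofSp V).obj)) = (FibCat.fp y₀ F).p.obj ω from
          (e.w_obj _).trans hU.symm) := by
  obtain ⟨⟨W', s⟩, M, hξ, hM⟩ := (isEquivOver_data he).2 ω
  have h₁ : W' = U := ((e.w_obj (⟨W', s⟩ : (AlgSt.ofSp V).obj)).symm.trans hξ).trans hU
  subst h₁
  exact ⟨s, M, hM⟩

include jf in
lemma app_elt {U : Over S} (s : V.obj.obj (op U)) {ω : (FibCat.fp y₀ F).obj} (hU : ω.obj.fst.base = U)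
    (M : e.obj (⟨U, s⟩ : (AlgSt.ofSp V).obj) ≅ ω)
    (hM : (FibCat.fp y₀ F).p.map M.hom = eqToHom
        (show (FibCat.fp y₀ F).p.obj (e.obj (⟨U, s⟩ : (AlgSt.ofSp V).obj)) = (FibCat.fp y₀ F).p.obj ω from
          (e.w_obj _).trans hU.symm)) :
    a.hom.app (op U) s = Z.obj.map (eqToHom hU.symm).op ω.obj.fst.sec := by
  have h₁ := M.hom.hom.fst.map_sec
  have hM' : M.hom.hom.fst.hom = eqToHom (show (e.obj (⟨U, s⟩ : (AlgSt.ofSp V).obj)).obj.fst.base = ω.obj.fst.base from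
    (e.w_obj (⟨U, s⟩ : (AlgSt.ofSp V).obj)).trans hU.symm) := hM
  rw [hM'] at h₁
  rw [← fst_sec jf (⟨U, s⟩ : (AlgSt.ofSp V).obj), ← h₁]
  exact ExtDVR.map_eqToHom_eqToHom _ _ _ _

include jf he in
/-- valuative squares lift when objects lift -/
theorem hasLift_of_liftDVR (h : LiftDVR F) (sq : ValSq a) [IsDiscreteValuationRing sq.A] : sq.HasLift := by
  haveI := (isEquivOver_data he).1
  let x : FibCat.overCat sq.ptA ⥤ᵇ 𝒲 :=
    BasedFunctor.comp (BasedFunctor.comp (AlgSt.ofOverCat sq.ptA) (Stk.ofPshMap sq.bot.hom)) y₀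
  let oK : (AlgSt.ofSp V).obj := ⟨sq.ptK, (J S).uliftYonedaEquiv sq.top⟩
  let ω := e.obj oK
  let bA : (AlgSt.ofSp Z).obj := ⟨sq.ptA, sq.bot.hom.app (op sq.ptA) ⟨𝟙 _⟩⟩
  let bK : (AlgSt.ofSp Z).obj := ⟨sq.ptK, sq.bot.hom.app (op sq.ptK) ⟨sq.j⟩⟩
  let n : bK ⟶ bA := (Stk.ofPshMap sq.bot.hom).map ((AlgSt.ofOverCat sq.ptA).map (toId sq.j))
  have hsec : a.hom.app (op sq.ptK) oK.sec = bK.sec := by
    show a.hom.app _ ((J S).uliftYonedaEquiv sq.top) = _
    rw [← GrothendieckTopology.uliftYonedaEquiv_comp, sq.comm, GrothendieckTopology.uliftYonedaEquiv_comp]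
    exact congrArg _ (GrothendieckTopology.uliftYonedaEquiv_uliftYoneda_map _ _)
  have hw : ω.obj.fst.base = sq.ptK := e.w_obj oK
  let δ : ω.obj.fst ≅ bK :=
    { hom := ⟨eqToHom hw, by rw [← hsec, ← fst_sec jf oK]; exact ExtDVR.map_eqToHom_cancel _ _ _⟩
      inv := ⟨eqToHom hw.symm, by rw [← hsec, ← fst_sec jf oK]; rfl⟩
      hom_inv_id := Stk.EltObj.hom_ext (eqToHom_trans hw hw.symm)
      inv_hom_id := Stk.EltObj.hom_ext (eqToHom_trans hw.symm hw) }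
  let iK : x.obj (Over.mk sq.j) ≅ F.obj ω.obj.snd := y₀.toFunctor.mapIso δ.symm ≪≫ ω.obj.iso
  have hiK : ∃ h, 𝒲.p.map iK.hom = eqToHom h := by
    obtain ⟨hj, hj'⟩ := map_iso_hom ω
    refine ⟨(y₀.w_obj bK).trans (hw.symm.trans ((y₀.w_obj ω.obj.fst).symm.trans hj)), ?_⟩
    show 𝒲.p.map (y₀.map δ.inv ≫ ω.obj.iso.hom) = _
    rw [Functor.map_comp, map_map, hj']
    show (eqToHom _ ≫ eqToHom hw.symm ≫ eqToHom _) ≫ eqToHom _ = _
    simp
  obtain ⟨ξ, i, μ, ⟨hi, hi'⟩, hμ⟩ := h sq.A sq.K sq.str x ω.obj.snd iK hiK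
  let ωA : (FibCat.fp y₀ F).obj := ⟨⟨bA, ξ, i⟩, fpProp_of_map y₀ F _ hi hi'⟩
  obtain ⟨s, M, hM⟩ := exists_elt he ωA (U := sq.ptA) rfl
  let N : ω ⟶ ωA := ObjectProperty.homMk ⟨δ.hom ≫ n, μ, by
      show y₀.map (δ.hom ≫ n) ≫ i.hom = ω.obj.iso.hom ≫ F.map μ
      have h₁ : (y₀.map δ.inv ≫ ω.obj.iso.hom) ≫ F.map μ = y₀.map n ≫ i.hom := hμ
      rw [Functor.map_comp, Category.assoc, ← h₁, ← Category.assoc (y₀.map δ.hom), ← Category.assoc (y₀.map δ.hom),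
        ← Functor.map_comp, Iso.hom_inv_id, y₀.toFunctor.map_id, Category.id_comp]⟩
  obtain ⟨N', hN'⟩ := e.toFunctor.map_surjective (N ≫ M.inv)
  have hNM : e.map N' ≫ M.hom = N := by rw [hN', Category.assoc, Iso.inv_hom_id, Category.comp_id]
  have hN₂ : N'.hom = sq.j := by
    have e₁ := congrArg (FibCat.fp y₀ F).p.map hNM
    rw [Functor.map_comp, map_map e N', hM] at e₁
    have e₂ : (FibCat.fp y₀ F).p.map N = eqToHom hw ≫ sq.j := rfl
    rw [e₂] at e₁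
    simp [ωA, bA] at e₁
    exact (cancel_epi (eqToHom hw)).1 e₁
  refine ⟨(J S).uliftYonedaEquiv.symm s, (J S).uliftYonedaEquiv.injective ?_, (J S).uliftYonedaEquiv.injective ?_⟩
  · rw [← GrothendieckTopology.uliftYonedaEquiv_naturality, Equiv.apply_symm_apply, ← hN₂]
    exact N'.map_sec
  · rw [GrothendieckTopology.uliftYonedaEquiv_comp, Equiv.apply_symm_apply, app_elt jf s rfl M hM]
    exact (ConcreteCategory.congr_hom (Z.obj.map_id _) _).trans (congrArg _ rfl)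

end model

/-- proper functors lift objects over discrete valuation rings -/
theorem liftDVR_of_proper (h𝒵 : FibCat.IsFibGrpd 𝒵.p) (h𝒲 : FibCat.IsFibGrpd 𝒲.p)
    (hp : RepByAlgSpWith (AlgSp.IsProperMor (S := S)) F) : LiftDVR F := fun A _ _ _ K _ _ _ str x ξK iK hiK => by
  obtain ⟨hK, hK'⟩ := hiK
  let T : Over S := Over.mk str
  let y₀ : AlgSt.ofSp (spOf T).obj ⥤ᵇ 𝒲 := BasedFunctor.comp (AlgSt.toOverCat T) x
  obtain ⟨V, a, e, he, ⟨jf⟩, ha⟩ :=
    exists_model_of_repWith cls_proper.bc cls_proper.loc h𝒵 h𝒲 hp (spOf T) y₀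
  have hqs : IsQuasiSeparatedMor a.hom :=
    AlgSpLib.repWith_mono (fun _ _ r (hr : IsClosedImmersion r) => inferInstanceAs (QuasiCompact r)) ha.1
  have hN : IsLocNoethSp ((yon S).obj T) := by
    refine ⟨T, (yon S).map (𝟙 T), (repWith_yon_iff _).2 ?_, (repWith_yon_iff _).2 ?_,
      inferInstanceAs (IsLocallyNoetherian (Spec (.of A)))⟩
    · exact inferInstanceAs (Etale (𝟙 T.left))
    · exact inferInstanceAs (Surjective (𝟙 T.left))
  let bK : (AlgSt.ofSp (spOf T).obj).obj := ⟨_, ⟨gen A K str⟩⟩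
  let ωK : (FibCat.fp y₀ F).obj := ⟨⟨bK, ξK, iK⟩, fpProp_of_map y₀ F _ hK hK'⟩
  obtain ⟨s, M, hM⟩ := exists_elt he ωK (U := Over.mk (Spec.map (CommRingCat.ofHom (algebraMap A K)) ≫ str)) rfl
  let sq : ValSq a.hom :=
    { A := A, K := K, str := str, top := (J S).uliftYonedaEquiv.symm s, bot := 𝟙 _
      comm := (J S).uliftYonedaEquiv.injective (by
        rw [GrothendieckTopology.uliftYonedaEquiv_comp, Equiv.apply_symm_apply, app_elt jf s rfl M hM,
          Category.comp_id]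
        exact (ConcreteCategory.congr_hom ((spOf T).obj.obj.map_id _) _).trans
          (GrothendieckTopology.uliftYonedaEquiv_uliftYoneda_map _ _).symm) }
  obtain ⟨l, hl₁, hl₂⟩ :=
    ((ValLib.isProperMor_iff_dvr V.property (spOf T).property a.hom hqs ha.2.1 hN).1 ha sq
      (inferInstanceAs (IsDiscreteValuationRing A))).1
  let oA : (AlgSt.ofSp V.obj).obj := ⟨T, (J S).uliftYonedaEquiv l⟩
  let P : (⟨_, s⟩ : (AlgSt.ofSp V.obj).obj) ⟶ oA := ⟨gen A K str, by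
    show V.obj.obj.map (gen A K str).op ((J S).uliftYonedaEquiv l) = s
    rw [GrothendieckTopology.uliftYonedaEquiv_naturality]
    exact (congrArg (J S).uliftYonedaEquiv hl₁).trans (Equiv.apply_symm_apply _ _)⟩
  let ω := e.obj oA
  let N : ωK ⟶ ω := M.inv ≫ e.map P
  have hw : ω.obj.fst.base = T := e.w_obj oA
  have h₁ : a.hom.hom.app (op T) oA.sec = (AlgStLib.pt T).sec := by
    show a.hom.hom.app _ ((J S).uliftYonedaEquiv l) = _
    rw [← GrothendieckTopology.uliftYonedaEquiv_comp, hl₂, show sq.bot = (yon S).map (𝟙 T) from ((yon S).map_id T).symm]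
    exact GrothendieckTopology.uliftYonedaEquiv_uliftYoneda_map _ _
  let δ : ω.obj.fst ≅ AlgStLib.pt T :=
    { hom := ⟨eqToHom hw, by rw [← h₁, ← fst_sec jf oA]; exact ExtDVR.map_eqToHom_cancel _ _ _⟩
      inv := ⟨eqToHom hw.symm, by rw [← h₁, ← fst_sec jf oA]; rfl⟩
      hom_inv_id := Stk.EltObj.hom_ext (eqToHom_trans hw hw.symm)
      inv_hom_id := Stk.EltObj.hom_ext (eqToHom_trans hw.symm hw) }
  obtain ⟨hj, hj'⟩ := map_iso_hom ω
  refine ⟨ω.obj.snd, y₀.toFunctor.mapIso δ.symm ≪≫ ω.obj.iso, N.hom.snd,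
    ⟨(y₀.w_obj (AlgStLib.pt T)).trans (hw.symm.trans ((y₀.w_obj ω.obj.fst).symm.trans hj)), ?_⟩, ?_⟩
  · show 𝒲.p.map (y₀.map δ.inv ≫ ω.obj.iso.hom) = _
    rw [Functor.map_comp, map_map, hj']
    show (eqToHom _ ≫ eqToHom hw.symm ≫ eqToHom _) ≫ eqToHom _ = _
    simp
  · have hw' : y₀.map N.hom.fst ≫ ω.obj.iso.hom = iK.hom ≫ F.map N.hom.snd := N.hom.w
    have hm : N.hom.fst ≫ δ.hom = (⟨gen A K str, ULift.ext _ _ (Category.comp_id (gen A K str))⟩ : bK ⟶ AlgStLib.pt T) := by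
      refine Stk.EltObj.hom_ext ?_
      have h₂ : (N.hom.fst ≫ δ.hom).hom ≫ 𝟙 T = gen A K str := congrArg ULift.down (N.hom.fst ≫ δ.hom).map_sec
      rw [Category.comp_id] at h₂
      exact h₂
    show iK.hom ≫ F.map N.hom.snd = x.map (toId (gen A K str)) ≫ y₀.map δ.inv ≫ ω.obj.iso.hom
    rw [← hw', show x.map (toId (gen A K str)) = y₀.map (N.hom.fst ≫ δ.hom) from ?_, ← Category.assoc,
      ← Functor.map_comp, Category.assoc, Iso.hom_inv_id, Category.comp_id]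
    rw [hm]
    rfl

/-- lifts over discrete valuation rings give properness of functors to locally noetherian stacks -/
theorem proper_of_liftDVR (h𝒵 : IsAlgStack Scheme.fppfPrecoverage 𝒵) (h𝒲 : IsAlgStack Scheme.fppfPrecoverage 𝒲)
    (hs : RepByAlgSpWith (AlgSp.IsSeparatedMor (S := S)) F) (hqc : RepByAlgSpWith (AlgSp.IsQuasiCompactMor (S := S)) F)
    (hlft : RepByAlgSpWith (LocP (S := S) @LocallyOfFiniteType) F)
    (hN : AlgSt.SmoothLocally (fun X => IsLocallyNoetherian X) 𝒲) (h : LiftDVR F) :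
    RepByAlgSpWith (AlgSp.IsProperMor (S := S)) F := by
  let Q : MorphismProperty (Sp S) := LocP @LocallyOfFiniteType ⊓ (AlgSp.IsSeparatedMor ⊓ AlgSp.IsQuasiCompactMor)
  have hb : BCStable Q := fun _ _ _ _ hX₁ hY₁ hX₂ hY₂ a b a' b' sq h =>
    ⟨cls_lft.bc hX₁ hY₁ hX₂ hY₂ a b a' b' sq h.1, cls_separated.bc hX₁ hY₁ hX₂ hY₂ a b a' b' sq h.2.1,
      cls_qc.bc hX₁ hY₁ hX₂ hY₂ a b a' b' sq h.2.2⟩
  have hloc : IsLocalOnBase (IsFppfCover (S := S)) Q :=
    isLocalOnBase_and cls_lft.loc (isLocalOnBase_and cls_separated.loc cls_qc.loc)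
  have hq : RepByAlgSpWith Q F := by
    haveI := respectsIso_onSp (cls_lft (S := S)).bc
    haveI := respectsIso_onSp (cls_separated (S := S)).bc
    haveI := respectsIso_onSp (cls_qc (S := S)).bc
    haveI := respectsIso_and (onSp (AlgSp.IsSeparatedMor (S := S))) (onSp (AlgSp.IsQuasiCompactMor (S := S)))
    exact AlgStLib.repWith_mono (repWith_and (repWith_onSp_iff.2 hlft)
      (repWith_and (repWith_onSp_iff.2 hs) (repWith_onSp_iff.2 hqc)))
      fun F U _ hF ha => ⟨ha.1 hF (IsAlgSpace.yon_obj _), ha.2.1 hF (IsAlgSpace.yon_obj _),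
        ha.2.2 hF (IsAlgSpace.yon_obj _)⟩
  obtain ⟨X, x, hx, hxs⟩ := exists_space_atlas h𝒲
  obtain ⟨V, a, e, he, ⟨jf⟩, hft, hsepa, hqca⟩ := exists_model_of_repWith hb hloc h𝒵.isStack.1 h𝒲.isStack.1 hq X x
  have hXN : IsLocNoethSp X.obj := etaleLocally_of_smoothLocally h𝒲.isStack.1 hN X x hx
  have hqs : IsQuasiSeparatedMor a.hom :=
    AlgSpLib.repWith_mono (fun _ _ r (hr : IsClosedImmersion r) => inferInstanceAs (QuasiCompact r)) hsepa
  have hp : AlgSp.IsProperMor a.hom :=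
    (ValLib.isProperMor_iff_dvr V.property X.property a.hom hqs ⟨hft, hqca⟩ hXN).2 fun sq hA => by
      haveI := hA
      exact ⟨hasLift_of_liftDVR jf he h sq, ValLib.uniqVC_of_separated a.hom hsepa sq⟩
  exact (repWith_iff_exists_model cls_proper.bc cls_proper.loc h𝒵 h𝒲 F X x (repWith_flat_of_smooth hx)
    (repWith_lfp_of_smooth hx) hxs).2 ⟨V, a, e, he, ⟨jf⟩, hp⟩

end Groth.Agent.IsoNatLib.LiftDVR

end
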