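import Groth.Agent.IsoNatLib.AtlasTransfer
import Groth.Agent.IsoNatLib.Transport
import Groth.Agent.AlgStLib.QC
import Groth.Agent.AlgStLib.DiagProps
import Groth.Agent.AlgStLib.Props
import Groth.Agent.AlgStLib.PointsBasic
import Groth.Agent.IsoNatLib.Separated

/-!
# Isomorphisms between values of a chart are determined on smooth charts
-/

set_option autoImplicit false
set_option backward.isDefEq.respectTransparency false
set_option backward.isDefEq.respectTransparency.types false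
set_option linter.style.haveILetI false
set_option maxHeartbeats 1000000
universe u

noncomputable section

namespace Groth.Agent.IsoNatLib.RigidPairs

open CategoryTheory CategoryTheory.Limits AlgebraicGeometry Opposite Groth.Agent.FibCatRep
  Groth.Agent.IsoNatLib.AtlasTransfer
open Groth.Agent.AlgStLib (nonempty_iso_of_top)

variable {S : Scheme.{u}}

/-- smooth charts -/
abbrev Sm {U : Over S} {𝒳 : AlgSt.Cat S} (x : FibCat.overCat U ⥤ᵇ 𝒳) {W : Over S} (a : W ⟶ U) : Prop :=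
  AlgSt.RepByAlgSpWith (AlgSp.LocP @Smooth) (BasedFunctor.comp (AlgSt.overMap a) x)

lemma overMap_comp {U V W : Over S} (a : U ⟶ V) (b : V ⟶ W) :
    Nonempty (AlgSt.overMap (a ≫ b) ≅ BasedFunctor.comp (AlgSt.overMap a) (AlgSt.overMap b)) :=
  nonempty_iso_of_top (isFibGrpd_overCat W) _ _ (Over.homMk (𝟙 U) (by
    show 𝟙 U ≫ (𝟙 U ≫ a) ≫ b = 𝟙 U ≫ a ≫ b
    simp)) ((eqToHom_refl _ rfl).symm.trans rfl)

/-- values of smooth charts over smooth maps are smooth charts -/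
theorem sm_comp {U : Over S} {𝒳 : AlgSt.Cat S} (x : FibCat.overCat U ⥤ᵇ 𝒳)
    {W W' : Over S} {a : W ⟶ U} (ha : Sm x a) (m : W' ⟶ W)
    (hm : AlgSt.RepByAlgSpWith (AlgSp.LocP @Smooth) (AlgSt.overMap m)) : Sm x (m ≫ a) := by
  obtain ⟨i⟩ := overMap_comp m a
  refine AlgStLib.repWith_congr _ ((StkBasic.post _ x).mapIso i) ?_
  exact AlgStLib.repWith_comp (isFibGrpd_overCat W') (isFibGrpd_overCat W) AlgStLib.cls_smooth.bc
    AlgStLib.cls_smooth.comp AlgStLib.cls_smooth.loc hm ha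

/-- objects are locally values of a smooth surjective chart -/
theorem cov_mem {C : Over S} {𝒬 : AlgSt.Cat S} (h𝒬 : FibCat.IsFibGrpd 𝒬.p) (r : FibCat.overCat C ⥤ᵇ 𝒬)
    (hr : AlgSt.RepByAlgSpWith (AlgSp.LocP @Smooth) r) (hs : AlgSt.RepByAlgSpWith AlgSp.IsSurjectiveMor r)
    (o : 𝒬.obj) : cov r o ∈ Jf S (𝒬.p.obj o) := by
  have hl := AlgStLib.lifts_of_fppf
    (AlgStLib.repWith_flat_of_smooth ((AlgStLib.repWith_overCat_iff _ C r).1 hr))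
    (AlgStLib.repWith_lfp_of_smooth ((AlgStLib.repWith_overCat_iff _ C r).1 hr))
    ((AlgStLib.repWith_overCat_iff _ C r).1 hs)
  let W := 𝒬.p.obj o
  haveI := Groth.Agent.S6409.result h𝒬 W
  let pt : 𝒬.p.Fiber W := ⟨o, rfl⟩
  let q := (FibCat.evalAtId 𝒬 W).objPreimage pt
  let ε : q.obj (Over.mk (𝟙 W)) ≅ o :=
    Functor.Fiber.fiberInclusion.mapIso ((FibCat.evalAtId 𝒬 W).objObjPreimageIso pt)
  have hε : 𝒬.p.map ε.hom = eqToHom (q.w_obj (Over.mk (𝟙 W))) :=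
    (map_of_fiber ((FibCat.evalAtId 𝒬 W).objObjPreimageIso pt).hom).trans rfl
  obtain ⟨V, d, h₁, h₂, h₃, z, ⟨i⟩⟩ := hl W (BasedFunctor.comp (AlgSt.toOverCat W) q)
  haveI := h₁; haveI := h₂; haveI := h₃
  refine (Jf S).superset_covering ?_ (IsoNatLib.mem_J_singleton d)
  rw [Sieve.generate_le_iff]
  rintro _ _ ⟨⟨⟩⟩
  let e : (Stk.ofPsh ((AlgSp.pyon S).obj V)).obj := ⟨V, ⟨𝟙 V⟩⟩
  let w := (AlgSt.toOverCat C).obj (z.obj e)
  have hw : w.left = V := z.w_obj e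
  let n : V ⟶ C := eqToHom hw.symm ≫ w.hom
  let M₁ : (Over.mk n : Over C) ⟶ w := Over.homMk (eqToHom hw.symm) rfl
  let M₂ : (AlgSt.toOverCat W).obj ((Stk.ofPshMap ((AlgSp.pyon S).map d)).obj e) ⟶ (Over.mk (𝟙 W) : Over W) :=
    Over.homMk d (Category.comp_id _ |>.trans (Category.id_comp _).symm)
  refine ⟨n, r.map M₁ ≫ i.hom.toNatTrans.app e ≫ q.map M₂ ≫ ε.hom, ?_⟩
  show eqToHom _ ≫ 𝒬.p.map (_ ≫ _ ≫ _ ≫ _) = d
  rw [Functor.map_comp, Functor.map_comp, Functor.map_comp, map_map, map_app, map_map, hε,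
    show (FibCat.overCat C).p.map M₁ = eqToHom hw.symm from rfl,
    show (FibCat.overCat W).p.map M₂ = d from rfl]
  simp

/-- charts joining two maps to a stack -/
theorem exists_join {A B : Over S} {𝒬 : AlgSt.Cat S} (h𝒬 : AlgSt.IsAlgStack Scheme.fppfPrecoverage 𝒬)
    (g : FibCat.overCat A ⥤ᵇ 𝒬) (h : FibCat.overCat B ⥤ᵇ 𝒬) (hh : AlgSt.RepByAlgSpWith (AlgSp.LocP @Smooth) h) :
    ∃ (C : Over S) (m : C ⟶ A) (m' : C ⟶ B),
      AlgSt.RepByAlgSpWith (AlgSp.LocP @Smooth) (AlgSt.overMap m) ∧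
      (∃ M : g.obj (Over.mk m) ⟶ h.obj (Over.mk m'),
        𝒬.p.map M = eqToHom ((g.w_obj (Over.mk m)).trans (h.w_obj (Over.mk m')).symm)) ∧
      ∀ {W : Over S} (k : W ⟶ A) (l : W ⟶ B) (M : g.obj (Over.mk k) ⟶ h.obj (Over.mk l)),
        𝒬.p.map M = eqToHom ((g.w_obj (Over.mk k)).trans (h.w_obj (Over.mk l)).symm) →
          ∃ R ∈ Jf S W, ∀ ⦃W' : Over S⦄ (f : W' ⟶ W), R f → ∃ n : W' ⟶ C, n ≫ m = f ≫ k ∧ n ≫ m' = f ≫ l := by
  have hA := AlgStLib.isAlgStack_overCat A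
  have hB := AlgStLib.isAlgStack_overCat B
  have hP := AlgStLib.isAlgStack_fp h𝒬.isStack h𝒬.diag hA hB g h
  obtain ⟨C, q, hq, hq'⟩ := hP.atlas
  have hPg := hP.isStack.1
  let top : Over C := Over.mk (𝟙 C)
  let o := q.obj top
  have ho₁ : o.obj.fst.left = C := q.w_obj top
  have ho₂ : o.obj.snd.left = C := by
    obtain ⟨e, -⟩ := map_iso_hom o
    exact ((g.w_obj _).symm.trans (e.trans (h.w_obj _))).symm.trans ho₁
  let m : C ⟶ A := eqToHom ho₁.symm ≫ o.obj.fst.hom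
  let m' : C ⟶ B := eqToHom ho₂.symm ≫ o.obj.snd.hom
  let J₁ : (Over.mk m : Over A) ⟶ o.obj.fst := Over.homMk (eqToHom ho₁.symm) rfl
  let J₂ : o.obj.snd ⟶ (Over.mk m' : Over B) := Over.homMk (eqToHom ho₂) (by simp [m'])
  refine ⟨C, m, m', ?_, ⟨g.map J₁ ≫ o.obj.iso.hom ≫ h.map J₂, ?_⟩, ?_⟩
  · obtain ⟨i⟩ := nonempty_iso_of_top (isFibGrpd_overCat A) (AlgSt.overMap m)
      (BasedFunctor.comp q (FibCat.fpFst g h)) (Over.homMk (eqToHom ho₁.symm) (by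
        show eqToHom ho₁.symm ≫ o.obj.fst.hom = 𝟙 C ≫ m
        rw [Category.id_comp]) : (AlgSt.overMap m).obj top ⟶ o.obj.fst) rfl
    refine AlgStLib.repWith_congr _ i ?_
    exact AlgStLib.repWith_comp (isFibGrpd_overCat C) hPg AlgStLib.cls_smooth.bc
      AlgStLib.cls_smooth.comp AlgStLib.cls_smooth.loc hq (AlgStLib.repWith_fpFst _ h g hh)
  · obtain ⟨e, he⟩ := map_iso_hom o
    rw [Functor.map_comp, Functor.map_comp, map_map, map_map, he,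
      show (FibCat.overCat A).p.map J₁ = eqToHom ho₁.symm from rfl,
      show (FibCat.overCat B).p.map J₂ = eqToHom ho₂ from rfl]
    simp
  · intro W k l M hM
    haveI : IsIso (𝒬.p.map M) := by rw [hM]; infer_instance
    haveI := isIso_of_map h𝒬.isStack.1 M
    let ω : (FibCat.fp g h).obj := ⟨⟨Over.mk k, Over.mk l, asIso M⟩, fpProp_of_map g h _ _ hM⟩
    refine ⟨cov q ω, cov_mem hPg q hq hq' ω, ?_⟩
    rintro W' f ⟨n, μ, hμ⟩
    let M₁ : q.obj (Over.mk n) ⟶ o := q.map (Over.homMk n (Category.comp_id _) : (Over.mk n : Over C) ⟶ top)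
    let z := q.obj (Over.mk n)
    have hz₁ : z.obj.fst.left = W' := q.w_obj (Over.mk n)
    have hz₂ : z.obj.snd.left = W' := by
      obtain ⟨e, -⟩ := map_iso_hom z
      exact ((g.w_obj _).symm.trans (e.trans (h.w_obj _))).symm.trans hz₁
    have b₁ : M₁.hom.fst.left = eqToHom hz₁ ≫ n ≫ eqToHom ho₁.symm := map_map q _
    have b₂ : M₁.hom.snd.left = eqToHom hz₂ ≫ n ≫ eqToHom ho₂.symm := by
      have hl : (FibCat.overCat B).p.IsHomLift ((FibCat.fp g h).p.map M₁) M₁.hom.snd := FibCat.fp_isHomLift_snd g h M₁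
      have := IsHomLift.fac' (FibCat.overCat B).p ((FibCat.fp g h).p.map M₁) M₁.hom.snd
      refine this.trans ?_
      show _ ≫ M₁.hom.fst.left ≫ _ = _
      rw [b₁]
      simp
    have c₁ : μ.hom.fst.left = eqToHom hz₁ ≫ f := by
      rw [← hμ]
      simp [bo]
      rfl
    have c₂ : μ.hom.snd.left = eqToHom hz₂ ≫ f := by
      have hl : (FibCat.overCat B).p.IsHomLift ((FibCat.fp g h).p.map μ) μ.hom.snd := FibCat.fp_isHomLift_snd g h μ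
      have := IsHomLift.fac' (FibCat.overCat B).p ((FibCat.fp g h).p.map μ) μ.hom.snd
      refine this.trans ?_
      show _ ≫ μ.hom.fst.left ≫ _ = _
      rw [c₁]
      simp
      exact congrArg (eqToHom _ ≫ ·) (Category.comp_id f)
    refine ⟨n, ?_, ?_⟩
    · rw [← cancel_epi (eqToHom hz₁)]
      have e₁ := Over.w M₁.hom.fst
      have e₂ := Over.w μ.hom.fst
      rw [b₁] at e₁
      rw [c₁] at e₂
      simp only [Category.assoc] at e₁ e₂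
      exact e₁.trans e₂.symm
    · rw [← cancel_epi (eqToHom hz₂)]
      have e₁ := Over.w M₁.hom.snd
      have e₂ := Over.w μ.hom.snd
      rw [b₂] at e₁
      rw [c₂] at e₂
      simp only [Category.assoc] at e₁ e₂
      exact e₁.trans e₂.symm

variable {U : Over S} {𝒳 𝒴 : AlgSt.Cat S} (x : FibCat.overCat U ⥤ᵇ 𝒳) (y : FibCat.overCat U ⥤ᵇ 𝒴)

/-- vertical morphisms between values -/
def Ve {W : Over S} (a b : W ⟶ U) : Type u := {ρ : Xo x a ⟶ Xo x b // bh x ρ = 𝟙 W}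

/-- restriction of a value -/
abbrev Xk {W W' : Over S} (k : W' ⟶ W) {a' : W' ⟶ U} {a : W ⟶ U} (h : k ≫ a = a') : Xo x a' ⟶ Xo x a :=
  x.map (Over.homMk k h : (Over.mk a' : Over U) ⟶ Over.mk a)

lemma bh_Xk {W W' : Over S} (k : W' ⟶ W) {a' : W' ⟶ U} {a : W ⟶ U} (h : k ≫ a = a') : bh x (Xk x k h) = k := by
  rw [bh, map_map]
  simp
  rfl

lemma Xk_comp {W W' W'' : Over S} (f : W'' ⟶ W') (k : W' ⟶ W) {a'' : W'' ⟶ U} {a' : W' ⟶ U} {a : W ⟶ U}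
    (h' : f ≫ a' = a'') (h : k ≫ a = a') (h'' : (f ≫ k) ≫ a = a'') :
    Xk x f h' ≫ Xk x k h = Xk x (f ≫ k) h'' := by
  rw [← Functor.map_comp]
  exact congrArg _ (Over.OverMorphism.ext rfl)

variable {x}

/-- composition of vertical morphisms -/
def Ve.mul {W : Over S} {a b c : W ⟶ U} (ρ : Ve x a b) (σ : Ve x b c) : Ve x a c :=
  ⟨ρ.1 ≫ σ.1, by rw [bh_comp, ρ.2, σ.2, Category.id_comp]⟩

variable (hg : FibCat.IsFibGrpd 𝒳.p)

section res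

variable {W W' W'' : Over S} {a b c : W ⟶ U} {a' b' c' : W' ⟶ U}

/-- restriction of vertical morphisms -/
def Ve.res (ρ : Ve x a b) (k : W' ⟶ W) (ha : k ≫ a = a') (hb : k ≫ b = b') : Ve x a' b' :=
  have h := existsUnique_factor (a := a') (b := b') x hg (Xk x k ha ≫ ρ.1) (Xk x k hb) (𝟙 W') (by
    rw [Category.id_comp, bo_comp, bh_Xk]
    simp only [bo]
    rw [map_bh x ρ.1, ρ.2, map_bh x (Xk x k hb), bh_Xk]
    simp)
  ⟨h.choose, h.choose_spec.1.1⟩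

lemma Ve.res_spec (ρ : Ve x a b) (k : W' ⟶ W) (ha : k ≫ a = a') (hb : k ≫ b = b') :
    (ρ.res hg k ha hb).1 ≫ Xk x k hb = Xk x k ha ≫ ρ.1 :=
  (existsUnique_factor (a := a') (b := b') x hg (Xk x k ha ≫ ρ.1) (Xk x k hb) (𝟙 W') (by
    rw [Category.id_comp, bo_comp, bh_Xk]
    simp only [bo]
    rw [map_bh x ρ.1, ρ.2, map_bh x (Xk x k hb), bh_Xk]
    simp)).choose_spec.1.2

lemma Ve.res_eq (ρ : Ve x a b) (k : W' ⟶ W) (ha : k ≫ a = a') (hb : k ≫ b = b') (σ : Ve x a' b')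
    (h : σ.1 ≫ Xk x k hb = Xk x k ha ≫ ρ.1) : ρ.res hg k ha hb = σ := by
  refine Subtype.ext (cancel hg (Xk x k hb) ?_ ((ρ.res_spec hg k ha hb).trans h.symm))
  rw [map_bh x (ρ.res hg k ha hb).1, map_bh x σ.1, σ.2, (ρ.res hg k ha hb).2]

lemma Ve.res_res (ρ : Ve x a b) (k : W' ⟶ W) (ha : k ≫ a = a') (hb : k ≫ b = b') (f : W'' ⟶ W')
    {a'' b'' : W'' ⟶ U} (ha' : f ≫ a' = a'') (hb' : f ≫ b' = b'') :
    (ρ.res hg k ha hb).res hg f ha' hb' =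
      ρ.res hg (f ≫ k) (by rw [Category.assoc, ha, ha']) (by rw [Category.assoc, hb, hb']) := by
  symm
  refine Ve.res_eq hg _ _ _ _ _ ?_
  rw [← Xk_comp x f k hb' hb, ← Category.assoc, Ve.res_spec, Category.assoc, Ve.res_spec, ← Category.assoc,
    Xk_comp x f k ha' ha]

lemma Ve.res_congr (ρ : Ve x a b) {k k' : W' ⟶ W} (e : k = k') (ha : k ≫ a = a') (hb : k ≫ b = b') :
    ρ.res hg k ha hb = ρ.res hg k' (e ▸ ha) (e ▸ hb) := by
  subst e; rfl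

lemma Ve.res_mul (ρ : Ve x a b) (σ : Ve x b c) (k : W' ⟶ W) (ha : k ≫ a = a') (hb : k ≫ b = b')
    (hc : k ≫ c = c') : (ρ.mul σ).res hg k ha hc = (ρ.res hg k ha hb).mul (σ.res hg k hb hc) := by
  refine Ve.res_eq hg _ _ _ _ _ ?_
  show ((ρ.res hg k ha hb).1 ≫ (σ.res hg k hb hc).1) ≫ _ = _ ≫ ρ.1 ≫ σ.1
  rw [Category.assoc, Ve.res_spec, ← Category.assoc, Ve.res_spec, Category.assoc]

end res

/-- vertical morphisms are determined locally -/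
theorem Ve.ext_local (hS : Stk.IsStack (Jf S) 𝒳) {W : Over S} {a b : W ⟶ U} {ρ σ : Ve x a b} {R : Sieve W}
    (hR : R ∈ Jf S W)
    (h : ∀ ⦃W' : Over S⦄ (k : W' ⟶ W), R k → ρ.res hS.1 k rfl rfl = σ.res hS.1 k rfl rfl) : ρ = σ := by
  refine Subtype.ext (FibCat2Misc.eq_of_locally hS.1 (xw x a) R (faithful_resSieve hS _ hR) ρ.1 σ.1
    (by rw [map_bh x ρ.1, map_bh x σ.1, ρ.2, σ.2]) fun W' k hk => ?_)
  refine ⟨Xo x (k ≫ a), Xk x k rfl, xw x _, by rw [map_bh, bh_Xk], ?_⟩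
  rw [← Ve.res_spec hS.1 ρ k rfl rfl, h k hk, Ve.res_spec]

/-- vertical morphisms glue -/
theorem Ve.exists_glue (hS : Stk.IsStack (Jf S) 𝒳) {W : Over S} {a b : W ⟶ U} {R : Sieve W} (hR : R ∈ Jf S W)
    (σ : ∀ ⦃W' : Over S⦄ (k : W' ⟶ W), R k → Ve x (k ≫ a) (k ≫ b))
    (compat : ∀ ⦃W'' W' : Over S⦄ (f : W'' ⟶ W') (k : W' ⟶ W) (hk : R k) (h : R (f ≫ k)),
      (σ k hk).res hS.1 f (Category.assoc _ _ _).symm (Category.assoc _ _ _).symm = σ (f ≫ k) h) :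
    ∃ τ : Ve x a b, ∀ ⦃W' : Over S⦄ (k : W' ⟶ W) (hk : R k), τ.res hS.1 k rfl rfl = σ k hk := by
  have hg := hS.1
  let R' : Sieve (𝒳.p.obj (Xo x a)) := R.pullback (eqToHom (xw x a))
  have hR' : R' ∈ Jf S _ := (Jf S).pullback_stable _ hR
  let f : 𝒳.p.obj (Xo x a) ⟶ 𝒳.p.obj (Xo x b) := eqToHom ((xw x a).trans (xw x b).symm)
  let kk : ∀ {o : 𝒳.obj}, (o ⟶ Xo x a) → (𝒳.p.obj o ⟶ W) := fun φ => 𝒳.p.map φ ≫ eqToHom (xw x a)
  choose χ hχ using fun (o : 𝒳.obj) (φ : o ⟶ Xo x a) =>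
    (existsUnique_cart hg (Xk x (kk φ) rfl : Xo x (kk φ ≫ a) ⟶ Xo x a) φ (eqToHom (xw x (kk φ ≫ a)).symm)
      (by rw [map_bh, bh_Xk]; simp [kk])).exists
  obtain ⟨M, ⟨hM, hM'⟩, -⟩ := existsUnique_glueOver hS f hR'
    (fun o φ h => χ o φ ≫ (σ (kk φ) h).1 ≫ Xk x (kk φ) rfl)
    (fun o φ h => by
      rw [Functor.map_comp, Functor.map_comp, (hχ o φ).1, map_bh x (σ (kk φ) h).1, (σ (kk φ) h).2, map_bh, bh_Xk]
      simp [kk, f])
    (fun o' o ψ φ h h' => by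
      have e : kk (ψ ≫ φ) = 𝒳.p.map ψ ≫ kk φ := by simp [kk]
      have hk : ∀ t : W ⟶ U, 𝒳.p.map ψ ≫ kk φ ≫ t = kk (ψ ≫ φ) ≫ t := fun t => by rw [e]; exact (Category.assoc _ _ _).symm
      have hc : (σ (kk φ) h).res hg (𝒳.p.map ψ) (hk a) (hk b) = σ (kk (ψ ≫ φ)) h' := by
        have key : ∀ (k' : 𝒳.p.obj o' ⟶ W) (hk' : R k') (ee : k' = 𝒳.p.map ψ ≫ kk φ) (hA : _) (hB : _),
            (σ (kk φ) h).res hg (𝒳.p.map ψ) (a' := k' ≫ a) (b' := k' ≫ b) hA hB = σ k' hk' := by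
          rintro _ hk' rfl hA hB
          exact compat _ _ h hk'
        exact key _ h' e _ _
      have eL : χ o' (ψ ≫ φ) ≫ Xk x (𝒳.p.map ψ) (hk a) = ψ ≫ χ o φ := by
        refine cancel hg (Xk x (kk φ) rfl) ?_ ?_
        · refine (Functor.map_comp _ _ _).trans (Eq.trans ?_ (Functor.map_comp _ _ _).symm)
          rw [(hχ o' (ψ ≫ φ)).1, (hχ o φ).1, map_bh, bh_Xk]
          simp
        · refine (Category.assoc _ _ _).trans (Eq.trans ?_ (Category.assoc _ _ _).symm)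
          rw [(hχ o φ).2, Xk_comp x (𝒳.p.map ψ) (kk φ) (hk a) rfl (by rw [Category.assoc]; exact hk a)]
          refine Eq.trans ?_ (hχ o' (ψ ≫ φ)).2
          congr 1
          exact congrArg _ (Over.OverMorphism.ext e.symm)
      refine Eq.trans ?_ ((congrArg (· ≫ (σ (kk φ) h).1 ≫ Xk x (kk φ) rfl) eL).trans (Category.assoc _ _ _))
      refine Eq.trans ?_ (Category.assoc _ _ _).symm
      refine congrArg (χ o' (ψ ≫ φ) ≫ ·) ?_
      have r₁ := congrArg (· ≫ (Xk x (kk φ) rfl : Xo x (kk φ ≫ b) ⟶ Xo x b))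
        (Ve.res_spec hg (σ (kk φ) h) (𝒳.p.map ψ) (hk a) (hk b))
      refine Eq.trans ?_ (r₁.trans (Category.assoc _ _ _))
      refine Eq.trans ?_ (Category.assoc _ _ _).symm
      rw [hc, Xk_comp x (𝒳.p.map ψ) (kk φ) (hk b) rfl (by rw [Category.assoc]; exact hk b)]
      exact congrArg ((σ (kk (ψ ≫ φ)) h').1 ≫ ·) (congrArg _ (Over.OverMorphism.ext e)))
  refine ⟨⟨M, by rw [bh, hM]; simp [f]⟩, fun W' k hk => ?_⟩
  refine Ve.res_eq hg _ _ _ _ _ ?_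
  show _ = Xk x k rfl ≫ M
  have e : kk (Xk x k rfl : Xo x (k ≫ a) ⟶ Xo x a) = eqToHom (xw x (k ≫ a)) ≫ k := by
    simp only [kk]
    rw [map_bh, bh_Xk]
    simp
  have hmem : R' (𝒳.p.map (Xk x k rfl : Xo x (k ≫ a) ⟶ Xo x a)) := by
    show R (kk _)
    rw [e]
    exact R.downward_closed hk _
  rw [hM' _ _ hmem]
  have key : ∀ (k' : 𝒳.p.obj (Xo x (k ≫ a)) ⟶ W) (hk' : R k') (ee : k' = eqToHom (xw x (k ≫ a)) ≫ k)
      (χ' : Xo x (k ≫ a) ⟶ Xo x (k' ≫ a)) (_ : 𝒳.p.map χ' = eqToHom (xw x (k' ≫ a)).symm)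
      (_ : χ' ≫ Xk x k' rfl = Xk x k rfl), (σ k hk).1 ≫ Xk x k rfl = χ' ≫ (σ k' hk').1 ≫ Xk x k' rfl := by
    rintro _ hk' rfl χ' hb hc
    have hs := compat (eqToHom (xw x (k ≫ a))) k hk hk'
    rw [← hs]
    refine Eq.trans ?_ (congrArg (χ' ≫ (Ve.res _ _ _ _ _).1 ≫ ·)
      (Xk_comp x (eqToHom (xw x (k ≫ a))) k (Category.assoc _ _ _).symm rfl rfl))
    refine Eq.trans ?_ (congrArg (χ' ≫ ·) (Category.assoc _ _ _))
    refine Eq.trans ?_ (congrArg (fun t => χ' ≫ t ≫ Xk x k rfl) (Ve.res_spec _ _ _ _ _).symm)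
    refine Eq.trans ?_ (congrArg (χ' ≫ ·) (Category.assoc _ _ _)).symm
    refine Eq.trans ?_ (Category.assoc _ _ _)
    suffices e' : χ' ≫ Xk x (eqToHom (xw x (k ≫ a))) (Category.assoc _ _ _).symm = 𝟙 _ by
      rw [e', Category.id_comp]
    refine cancel hg (Xk x k rfl) ?_ ?_
    · rw [Functor.map_comp, hb, map_bh, bh_Xk]
      simp
    · rw [Category.assoc, Xk_comp x _ k _ rfl rfl, Category.id_comp, hc]
  exact key _ hmem e _ (hχ _ _).1 (hχ _ _).2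

variable (x)

/-- the object of pairs with an isomorphism -/
def ob {W : Over S} {a b : W ⟶ U} (ρ : Ve x a b) : (FibCat.fp x x).obj :=
  haveI : IsIso (𝒳.p.map ρ.1) := by rw [map_bh x ρ.1, ρ.2]; infer_instance
  haveI := isIso_of_map hg ρ.1
  ⟨⟨Over.mk a, Over.mk b, asIso ρ.1⟩, fpProp_of_map x x _ ((xw x a).trans (xw x b).symm) (by
    show 𝒳.p.map ρ.1 = _
    rw [map_bh x ρ.1, ρ.2]
    simp)⟩

/-- morphisms of pairs are restrictions -/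
theorem res_of_hom {W W' : Over S} {a b : W ⟶ U} {a' b' : W' ⟶ U} (ρ : Ve x a b) (σ : Ve x a' b')
    (M : ob x hg σ ⟶ ob x hg ρ) (k : W' ⟶ W) (hk : (FibCat.fp x x).p.map M = k) :
    ∃ (ha : k ≫ a = a') (hb : k ≫ b = b'), ρ.res hg k ha hb = σ := by
  have h₁ : M.hom.fst.left = k := hk
  have h₂ : M.hom.snd.left = k := by
    have hl : (FibCat.overCat U).p.IsHomLift ((FibCat.fp x x).p.map M) M.hom.snd := FibCat.fp_isHomLift_snd x x M
    have := IsHomLift.fac' (FibCat.overCat U).p ((FibCat.fp x x).p.map M) M.hom.snd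
    refine this.trans ?_
    show 𝟙 _ ≫ M.hom.fst.left ≫ 𝟙 _ = _
    rw [h₁, Category.comp_id]
    exact Category.id_comp _
  have ha : k ≫ a = a' := h₁ ▸ Over.w M.hom.fst
  have hb : k ≫ b = b' := h₂ ▸ Over.w M.hom.snd
  refine ⟨ha, hb, Ve.res_eq hg _ _ _ _ _ ?_⟩
  have e₁ : M.hom.fst = (Over.homMk k ha : (Over.mk a' : Over U) ⟶ Over.mk a) := Over.OverMorphism.ext h₁
  have e₂ : M.hom.snd = (Over.homMk k hb : (Over.mk b' : Over U) ⟶ Over.mk b) := Over.OverMorphism.ext h₂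
  have hw : x.map M.hom.fst ≫ ρ.1 = σ.1 ≫ x.map M.hom.snd := M.hom.w
  rw [e₁, e₂] at hw
  exact hw.symm

/-- restrictions are morphisms of pairs -/
theorem exists_hom {W W' : Over S} {a b : W ⟶ U} {a' b' : W' ⟶ U} (ρ : Ve x a b) (k : W' ⟶ W)
    (ha : k ≫ a = a') (hb : k ≫ b = b') :
    ∃ M : ob x hg (ρ.res hg k ha hb) ⟶ ob x hg ρ, (FibCat.fp x x).p.map M = k :=
  ⟨ObjectProperty.homMk ⟨Over.homMk k ha, Over.homMk k hb, (ρ.res_spec hg k ha hb).symm⟩, rfl⟩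

/-- every pair is normal -/
theorem exists_ob {W : Over S} (o : (FibCat.fp x x).obj) (ho : (FibCat.fp x x).p.obj o = W) :
    ∃ (a b : W ⟶ U) (ρ : Ve x a b) (e : ob x hg ρ ≅ o), (FibCat.fp x x).p.map e.hom = eqToHom ho.symm := by
  subst ho
  obtain ⟨⟨⟨wa, ⟨⟨⟩⟩, fa⟩, ⟨wb, ⟨⟨⟩⟩, fb⟩, i⟩, prop⟩ := o
  obtain ⟨e, he⟩ := map_iso_hom (⟨⟨⟨wa, ⟨⟨⟩⟩, fa⟩, ⟨wb, ⟨⟨⟩⟩, fb⟩, i⟩, prop⟩ : (FibCat.fp x x).obj)
  obtain rfl : wa = wb := (x.w_obj _).symm.trans (e.trans (x.w_obj _))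
  let ρ : Ve x fa fb := ⟨i.hom, by
    show eqToHom _ ≫ 𝒳.p.map i.hom ≫ eqToHom _ = _
    rw [show 𝒳.p.map i.hom = eqToHom e from he]
    simp⟩
  refine ⟨fa, fb, ρ, ObjectProperty.isoMk _ (CategoricalPullback.mkIso (Iso.refl _) (Iso.refl _) ?_), rfl⟩
  show x.map (𝟙 _) ≫ i.hom = i.hom ≫ x.map (𝟙 _)
  rw [CategoryTheory.Functor.map_id, CategoryTheory.Functor.map_id, Category.id_comp, Category.comp_id]

/-- a presentation of the pairs: a smooth chart through which every pair factors locally -/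
structure Pres (hS : Stk.IsStack (Jf S) 𝒳) where
  C : Over S
  v : C ⟶ U
  w : C ⟶ U
  sm : Sm x v
  hv : AlgSt.RepByAlgSpWith (AlgSp.LocP @Smooth) (AlgSt.overMap v)
  ρ₀ : Ve x v w
  cover : ∀ {W : Over S} {a b : W ⟶ U} (ρ : Ve x a b), ∃ R ∈ Jf S W, ∀ ⦃W' : Over S⦄ (k : W' ⟶ W), R k →
    ∃ (l : W' ⟶ C) (h₁ : l ≫ v = k ≫ a) (h₂ : l ≫ w = k ≫ b), ρ₀.res hS.1 l h₁ h₂ = ρ.res hS.1 k rfl rfl
  join : ∀ {A : Over S} {c d : A ⟶ U} (τ : Ve x c d), ∃ (D : Over S) (m : D ⟶ A) (m' : D ⟶ C)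
    (h₁ : m' ≫ v = m ≫ c) (h₂ : m' ≫ w = m ≫ d),
    AlgSt.RepByAlgSpWith (AlgSp.LocP @Smooth) (AlgSt.overMap m) ∧
      ρ₀.res hS.1 m' h₁ h₂ = τ.res hS.1 m rfl rfl ∧
      ∀ {W : Over S} {a b : W ⟶ U} (k : W ⟶ A) (l : W ⟶ C) (ha : k ≫ c = a) (hb : k ≫ d = b) (ha' : l ≫ v = a)
        (hb' : l ≫ w = b), ρ₀.res hS.1 l ha' hb' = τ.res hS.1 k ha hb →
          ∃ R ∈ Jf S W, ∀ ⦃W' : Over S⦄ (f : W' ⟶ W), R f → ∃ n : W' ⟶ D, n ≫ m = f ≫ k ∧ n ≫ m' = f ≫ l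

variable {x}

theorem exists_pres (h𝒳 : AlgSt.IsAlgStack Scheme.fppfPrecoverage 𝒳)
    (hx : AlgSt.RepByAlgSpWith (AlgSp.LocP @Smooth) x) : Nonempty (Pres x h𝒳.isStack) := by
  have hg := h𝒳.isStack.1
  have hU := AlgStLib.isAlgStack_overCat U
  have hP := AlgStLib.isAlgStack_fp h𝒳.isStack h𝒳.diag hU hU x x
  have hPg := hP.isStack.1
  obtain ⟨C, r, hr, hr'⟩ := hP.atlas
  let top : Over C := Over.mk (𝟙 C)
  obtain ⟨v, w, ρ₀, e₀, he₀⟩ := exists_ob x hg (r.obj top) (r.w_obj top)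
  have he₀' : (FibCat.fp x x).p.map e₀.inv = eqToHom (r.w_obj top) := by
    haveI : IsIso ((FibCat.fp x x).p.map e₀.hom) := inferInstance
    rw [← cancel_epi ((FibCat.fp x x).p.map e₀.hom), ← Functor.map_comp, e₀.hom_inv_id,
      CategoryTheory.Functor.map_id, he₀, eqToHom_trans]
    rfl
  have hsm : AlgSt.RepByAlgSpWith (AlgSp.LocP @Smooth) (AlgSt.overMap v) := by
    obtain ⟨i⟩ := nonempty_iso_of_top (isFibGrpd_overCat U) (AlgSt.overMap v)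
      (BasedFunctor.comp r (FibCat.fpFst x x))
      ((Over.homMk (𝟙 C) (by show 𝟙 C ≫ v = 𝟙 C ≫ v; rfl) : (AlgSt.overMap v).obj top ⟶ Over.mk v) ≫ e₀.hom.hom.fst)
      (by
        show 𝟙 C ≫ e₀.hom.hom.fst.left = _
        rw [Category.id_comp]
        exact he₀)
    refine AlgStLib.repWith_congr _ i ?_
    exact AlgStLib.repWith_comp (isFibGrpd_overCat C) hPg AlgStLib.cls_smooth.bc AlgStLib.cls_smooth.comp
      AlgStLib.cls_smooth.loc hr (AlgStLib.repWith_fpFst _ x x hx)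
  -- a morphism from a normal pair to the universal one, over every point
  have hpt : ∀ {W : Over S} (l : W ⟶ C) {a b : W ⟶ U} (σ : Ve x a b) (e : ob x hg σ ⟶ r.obj (Over.mk l)),
      (FibCat.fp x x).p.map e = eqToHom (r.w_obj (Over.mk l)).symm →
        ∃ (h₁ : l ≫ v = a) (h₂ : l ≫ w = b), ρ₀.res hg l h₁ h₂ = σ := fun l a b σ e he =>
    res_of_hom x hg ρ₀ σ (e ≫ r.map (Over.homMk l (Category.comp_id _) : (Over.mk l : Over C) ⟶ top) ≫ e₀.inv) l (by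
      rw [Functor.map_comp, Functor.map_comp, map_map, he, he₀']
      simp
      rfl)
  refine ⟨⟨C, v, w, ?_, hsm, ρ₀, fun {W a b} ρ => ?_, fun {A c d} τ => ?_⟩⟩
  · exact AlgStLib.repWith_comp (isFibGrpd_overCat C) (isFibGrpd_overCat U) AlgStLib.cls_smooth.bc
      AlgStLib.cls_smooth.comp AlgStLib.cls_smooth.loc hsm hx
  · refine ⟨cov r (ob x hg ρ), cov_mem hPg r hr hr' (ob x hg ρ), ?_⟩
    rintro W' k ⟨l, μ, hμ⟩
    obtain ⟨a', b', σ, e, he⟩ := exists_ob x hg (r.obj (Over.mk l)) (r.w_obj (Over.mk l))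
    obtain ⟨h₁, h₂, hσ⟩ := hpt l σ e.hom he
    obtain ⟨ha, hb, hσ'⟩ := res_of_hom x hg ρ σ (e.hom ≫ μ) k (by
      rw [Functor.map_comp, he, ← hμ]
      rfl)
    subst ha hb
    exact ⟨l, h₁, h₂, hσ.trans hσ'.symm⟩
  · haveI := Groth.Agent.S6409.result hPg A
    let pt : (FibCat.fp x x).p.Fiber A := ⟨ob x hg τ, rfl⟩
    let g := (FibCat.evalAtId (FibCat.fp x x) A).objPreimage pt
    let ε : g.obj (Over.mk (𝟙 A)) ≅ ob x hg τ :=
      Functor.Fiber.fiberInclusion.mapIso ((FibCat.evalAtId (FibCat.fp x x) A).objObjPreimageIso pt)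
    have hε : (FibCat.fp x x).p.map ε.hom = eqToHom (g.w_obj (Over.mk (𝟙 A))) :=
      (map_of_fiber ((FibCat.evalAtId (FibCat.fp x x) A).objObjPreimageIso pt).hom).trans rfl
    let ν : ∀ {W : Over S} (k : W ⟶ A), g.obj (Over.mk k) ⟶ ob x hg τ := fun k =>
      g.map (Over.homMk k (Category.comp_id _) : (Over.mk k : Over A) ⟶ Over.mk (𝟙 A)) ≫ ε.hom
    have hν : ∀ {W : Over S} (k : W ⟶ A), (FibCat.fp x x).p.map (ν k) = eqToHom (g.w_obj (Over.mk k)) ≫ k := fun k => by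
      show (FibCat.fp x x).p.map (_ ≫ _) = _
      rw [Functor.map_comp, map_map, hε]
      simp
      rfl
    obtain ⟨D, m, m', hm, ⟨M, hM⟩, hlift⟩ := exists_join hP g r hr
    obtain ⟨a', b', σ, e, he⟩ := exists_ob x hg (g.obj (Over.mk m)) (g.w_obj (Over.mk m))
    obtain ⟨h₁, h₂, hσ⟩ := hpt m' σ (e.hom ≫ M) (by rw [Functor.map_comp, he, hM]; simp)
    obtain ⟨ha, hb, hσ'⟩ := res_of_hom x hg τ σ (e.hom ≫ ν m) m (by
      rw [Functor.map_comp, he, hν]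
      simp)
    subst ha hb
    refine ⟨D, m, m', h₁, h₂, hm, hσ.trans hσ'.symm, ?_⟩
    intro W a b k l ha hb ha' hb' heq
    obtain ⟨a₁, b₁, σ₁, e₁, he₁⟩ := exists_ob x hg (g.obj (Over.mk k)) (g.w_obj (Over.mk k))
    obtain ⟨ha₁, hb₁, hσ₁⟩ := res_of_hom x hg τ σ₁ (e₁.hom ≫ ν k) k (by
      rw [Functor.map_comp, he₁, hν]
      simp)
    obtain ⟨a₂, b₂, σ₂, e₂, he₂⟩ := exists_ob x hg (r.obj (Over.mk l)) (r.w_obj (Over.mk l))
    obtain ⟨ha₂, hb₂, hσ₂⟩ := hpt l σ₂ e₂.hom he₂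
    obtain rfl : a₁ = a₂ := (ha₁.symm.trans ha).trans (ha₂.symm.trans ha').symm
    obtain rfl : b₁ = b₂ := (hb₁.symm.trans hb).trans (hb₂.symm.trans hb').symm
    obtain rfl : a = a₁ := ha.symm.trans ha₁
    obtain rfl : b = b₁ := hb.symm.trans hb₁
    obtain rfl : σ₁ = σ₂ := (hσ₁.symm.trans heq.symm).trans hσ₂
    refine hlift k l (e₁.inv ≫ e₂.hom) ?_
    haveI : IsIso ((FibCat.fp x x).p.map e₁.hom) := inferInstance
    rw [← cancel_epi ((FibCat.fp x x).p.map e₁.hom), ← Functor.map_comp, Iso.hom_inv_id_assoc, he₁, he₂,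
      eqToHom_trans]

end Groth.Agent.IsoNatLib.RigidPairs

end
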