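import Groth.Agent.IsoNatLib.Gadget

/-!
# Automorphism-valued sections and locally trivial objects on doubled schemes

For an object `x` over `T`, a scheme `q : Z ⟶ T` and an open `W` of `Z`, the group of natural systems of
automorphisms of `x` over test schemes mapping to `W`.  An object over the doubling of `Z` along `W` which is
trivial on both copies has a cocycle in this group, and two such objects are isomorphic exactly when the
cocycles differ by sections over the two copies.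
-/

set_option autoImplicit false
set_option backward.isDefEq.respectTransparency false
set_option backward.isDefEq.respectTransparency.types false
set_option linter.style.haveILetI false
universe u

noncomputable section

namespace Groth.Agent.IsoNatLib

open CategoryTheory CategoryTheory.Limits AlgebraicGeometry Groth.Agent.FibCatRep

variable {S : Scheme.{u}} {𝒳 : AlgSt.Cat S}

/-- test objects over `T` mapping to the open `W` of `Z` -/
structure Tst {T : Over S} {Z : Over S} (q : Z ⟶ T) (W : Z.left.Opens) where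
  o : Over T
  w : o.left ⟶ Z
  hw : w ≫ q = o.hom
  hin : Set.range w.left ⊆ (W : Set Z.left)

/-- natural systems of automorphisms -/
def sec {T : Over S} (x : FibCat.overCat T ⥤ᵇ 𝒳) {Z : Over S} (q : Z ⟶ T) (W : Z.left.Opens) :
    Subgroup (∀ t : Tst q W, Gerb.AutO (x.obj t.o)) where
  carrier := {a | ∀ (t' t : Tst q W) (m : t'.o ⟶ t.o), m.left ≫ t.w = t'.w →
    GerbLib.Band.ah (a t') ≫ x.map m = x.map m ≫ GerbLib.Band.ah (a t)}
  one_mem' t' t m _ := by simp [GerbLib.Band.ah_one]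
  mul_mem' {a b} ha hb t' t m h := by
    show GerbLib.Band.ah (a t' * b t') ≫ x.map m = x.map m ≫ GerbLib.Band.ah (a t * b t)
    rw [GerbLib.Band.ah_mul, GerbLib.Band.ah_mul, Category.assoc, ha t' t m h, reassoc_of% hb t' t m h]
  inv_mem' {a} ha t' t m h := by
    show GerbLib.Band.ah (a t')⁻¹ ≫ x.map m = x.map m ≫ GerbLib.Band.ah (a t)⁻¹
    calc GerbLib.Band.ah (a t')⁻¹ ≫ x.map m
        = GerbLib.Band.ah (a t')⁻¹ ≫ x.map m ≫ GerbLib.Band.ah (a t) ≫ GerbLib.Band.ah (a t)⁻¹ := by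
          rw [GerbLib.Band.ah_comp_inv, Category.comp_id]
      _ = GerbLib.Band.ah (a t')⁻¹ ≫ (GerbLib.Band.ah (a t') ≫ x.map m) ≫ GerbLib.Band.ah (a t)⁻¹ := by
          rw [ha t' t m h, Category.assoc]
      _ = x.map m ≫ GerbLib.Band.ah (a t)⁻¹ := by
          rw [← Category.assoc, ← Category.assoc, GerbLib.Band.ah_inv_comp, Category.id_comp]

variable {T : Over S} {x : FibCat.overCat T ⥤ᵇ 𝒳}

/-- the natural value of a test object along a morphism -/
def Tst.map {Z' Z : Over S} {q' : Z' ⟶ T} {q : Z ⟶ T} {W' : Z'.left.Opens} {W : Z.left.Opens} (h : Z' ⟶ Z)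
    (hq : h ≫ q = q') (hW : W' ≤ h.left ⁻¹ᵁ W) (t : Tst q' W') : Tst q W where
  o := t.o
  w := t.w ≫ h
  hw := by rw [Category.assoc, hq, t.hw]
  hin := by
    rintro _ ⟨p, rfl⟩
    exact hW (t.hin ⟨p, rfl⟩)

/-- restriction of sections -/
def res {Z' Z : Over S} {q' : Z' ⟶ T} {q : Z ⟶ T} {W' : Z'.left.Opens} {W : Z.left.Opens} (h : Z' ⟶ Z)
    (hq : h ≫ q = q') (hW : W' ≤ h.left ⁻¹ᵁ W) : sec x q W →* sec x q' W' where
  toFun a := ⟨fun t => a.1 (t.map h hq hW), fun t' t m e => a.2 (t'.map h hq hW) (t.map h hq hW) m (by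
    show m.left ≫ t.w ≫ h = t'.w ≫ h
    rw [← Category.assoc, e])⟩
  map_one' := rfl
  map_mul' _ _ := rfl

theorem res_res {Z'' Z' Z : Over S} {q'' : Z'' ⟶ T} {q' : Z' ⟶ T} {q : Z ⟶ T} {W'' : Z''.left.Opens}
    {W' : Z'.left.Opens} {W : Z.left.Opens} (h' : Z'' ⟶ Z') (hq' : h' ≫ q' = q'') (hW' : W'' ≤ h'.left ⁻¹ᵁ W')
    (h : Z' ⟶ Z) (hq : h ≫ q = q') (hW : W' ≤ h.left ⁻¹ᵁ W) (k : Z'' ⟶ Z) (hk : h' ≫ h = k) (hkq : k ≫ q = q'')
    (hkW : W'' ≤ k.left ⁻¹ᵁ W) (a : sec x q W) : res h' hq' hW' (res h hq hW a) = res k hkq hkW a := by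
  subst hk
  refine Subtype.ext (funext fun t => ?_)
  show a.1 ((t.map h' hq' hW').map h hq hW) = a.1 (t.map (h' ≫ h) hkq hkW)
  congr 1

/-- sections agree when they agree on all test objects in a subopen and the subopen is everything that is tested -/
theorem sec_ext {Z : Over S} {q : Z ⟶ T} {W : Z.left.Opens} {a b : sec x q W}
    (h : ∀ t, GerbLib.Band.ah (a.1 t) = GerbLib.Band.ah (b.1 t)) : a = b :=
  Subtype.ext (funext fun t => GerbLib.Band.autO_ext (h t))

/-- the group of automorphisms of `x` in the fibre -/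
abbrev Tst.top (T : Over S) : Over T := Over.mk (𝟙 T)

/-- a section is constant when it is pulled back from the identity of `T` -/
def const (Z : Over S) (q : Z ⟶ T) (W : Z.left.Opens) : sec x (𝟙 T) ⊤ →* sec x q W :=
  res q (Category.comp_id q) (fun _ _ => trivial)

/-- a morphism to an identical test object -/
def castO {o o' : Over T} (e : o.left = o'.left) (h : eqToHom e ≫ o'.hom = o.hom) : o ⟶ o' :=
  Over.homMk (eqToHom e) h

section doubled

variable {U : Over S} (q : U ⟶ T) (V : U.left.Opens)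

/-- the doubling of `U` along `V` -/
def dbl : Over S := Over.mk (pushout.desc U.hom U.hom (rfl : V.ι ≫ U.hom = V.ι ≫ U.hom))

/-- the two copies -/
def dj : Bool → (U ⟶ dbl V)
  | true => Over.homMk (pushout.inl V.ι V.ι) (pushout.inl_desc _ _ _)
  | false => Over.homMk (pushout.inr V.ι V.ι) (pushout.inr_desc _ _ _)

/-- the fold map -/
def dp : dbl V ⟶ U :=
  Over.homMk (pushout.desc (𝟙 U.left) (𝟙 U.left) rfl) (pushout.hom_ext (by simp [dbl]) (by simp [dbl]))

lemma dj_dp (b : Bool) : dj V b ≫ dp V = 𝟙 U := by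
  cases b
  · ext1; exact pushout.inr_desc _ _ _
  · ext1; exact pushout.inl_desc _ _ _

lemma isOpenImmersion_dj : ∀ b, IsOpenImmersion (dj V b).left
  | true => inferInstanceAs (IsOpenImmersion (colimit.ι (span V.ι V.ι) WalkingSpan.left))
  | false => inferInstanceAs (IsOpenImmersion (colimit.ι (span V.ι V.ι) WalkingSpan.right))

lemma dj_cover (t : (dbl V).left) : ∃ b, t ∈ Set.range (dj V b).left := by
  obtain ⟨i, s, hs⟩ := Scheme.IsLocallyDirected.ι_jointly_surjective (span V.ι V.ι) t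
  match i, s, hs with
  | none, s, hs =>
    refine ⟨true, V.ι s, ?_⟩
    rw [← hs, ← colimit.w (span V.ι V.ι) WalkingSpan.Hom.fst]
    rfl
  | some WalkingPair.left, s, hs => exact ⟨true, s, hs⟩
  | some WalkingPair.right, s, hs => exact ⟨false, s, hs⟩

lemma dj_meet {s s' : U.left} (h : (dj V true).left s = (dj V false).left s') : s ∈ V := by
  obtain ⟨k, fi, fj, y, hy, hy'⟩ := (Scheme.IsLocallyDirected.ι_eq_ι_iff (span V.ι V.ι)
    (i := WalkingSpan.left) (j := WalkingSpan.right)).1 h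
  rcases k with _ | (_ | _)
  · obtain rfl : fi = WalkingSpan.Hom.fst := Subsingleton.elim _ _
    subst hy
    exact y.2
  · exact nomatch fj
  · exact nomatch fi

lemma dj_eq_of_mem {W : Over S} (w : W ⟶ U) (h : Set.range w.left ⊆ (V : Set U.left)) (b b' : Bool) :
    w ≫ dj V b = w ≫ dj V b' := by
  have hsub : Set.range w.left ⊆ Set.range V.ι := by rwa [Scheme.Opens.range_ι]
  have key : w ≫ dj V false = w ≫ dj V true := by
    ext1
    show w.left ≫ pushout.inr V.ι V.ι = w.left ≫ pushout.inl V.ι V.ι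
    rw [← IsOpenImmersion.lift_fac V.ι w.left hsub, Category.assoc, Category.assoc, pushout.condition]
  cases b <;> cases b'
  · rfl
  · exact key
  · exact key.symm
  · rfl

lemma mem_of_factor {W : Over S} (v : W ⟶ dbl V) (w w' : W ⟶ U) (h : w ≫ dj V true = v)
    (h' : w' ≫ dj V false = v) : Set.range w.left ⊆ (V : Set U.left) := by
  rintro _ ⟨p, rfl⟩
  refine dj_meet V (s' := w'.left p) ?_
  have := congrArg (fun k : W ⟶ dbl V => k.left p) (h.trans h'.symm)
  exact this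

/-- trivialisations of an object over the doubling on both copies -/
structure Triv (x : FibCat.overCat T ⥤ᵇ 𝒳) (c : FibCat.overCat (dbl V) ⥤ᵇ 𝒳) where
  θ : ∀ (b : Bool) (t : Tst q (⊤ : U.left.Opens)), x.obj t.o ≅ c.obj (Over.mk (t.w ≫ dj V b))
  vert : ∀ b t, 𝒳.p.map (θ b t).hom = eqToHom ((x.w_obj t.o).trans (c.w_obj (Over.mk (t.w ≫ dj V b))).symm)
  nat : ∀ b (t' t : Tst q (⊤ : U.left.Opens)) (m : t'.o ⟶ t.o) (e : m.left ≫ t.w = t'.w),
    x.map m ≫ (θ b t).hom = (θ b t').hom ≫ c.map (Over.homMk m.left (by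
      show m.left ≫ t.w ≫ dj V b = t'.w ≫ dj V b
      rw [← Category.assoc, e]) : Over.mk (t'.w ≫ dj V b) ⟶ Over.mk (t.w ≫ dj V b))

/-- the test object forgetting the open -/
abbrev Tst.toTop (t : Tst q V) : Tst q (⊤ : U.left.Opens) := ⟨t.o, t.w, t.hw, fun _ _ => trivial⟩

/-- the restriction from `U` to `V` -/
def toV : sec x q (⊤ : U.left.Opens) →* sec x q V :=
  res (𝟙 U) (Category.id_comp q) (fun _ _ => trivial)

lemma toV_apply (a : sec x q (⊤ : U.left.Opens)) (t : Tst q V) : (toV q V a).1 t = a.1 t.toTop := by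
  show a.1 _ = a.1 _
  congr 1

variable {q V} {c c' : FibCat.overCat (dbl V) ⥤ᵇ 𝒳}

/-- comparison of the two copies over a test object in `V` -/
def swap (c : FibCat.overCat (dbl V) ⥤ᵇ 𝒳) (t : Tst q V) (b b' : Bool) :
    c.obj (Over.mk (t.w ≫ dj V b)) ≅ c.obj (Over.mk (t.w ≫ dj V b')) :=
  c.toFunctor.mapIso (Over.isoMk (Iso.refl _) (by
    show 𝟙 _ ≫ t.w ≫ dj V b' = t.w ≫ dj V b
    rw [Category.id_comp, dj_eq_of_mem V t.w t.hin b b']))

lemma map_swap (c : FibCat.overCat (dbl V) ⥤ᵇ 𝒳) (t : Tst q V) (b b' : Bool) :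
    𝒳.p.map (swap c t b b').hom = eqToHom ((c.w_obj (Over.mk (t.w ≫ dj V b))).trans
      (c.w_obj (Over.mk (t.w ≫ dj V b'))).symm) := by
  show 𝒳.p.map (c.map _) = _
  rw [FibCatRep.map_map]
  show eqToHom _ ≫ 𝟙 _ ≫ eqToHom _ = _
  simp

lemma swap_nat (c : FibCat.overCat (dbl V) ⥤ᵇ 𝒳) (t' t : Tst q V) (m : t'.o ⟶ t.o) (e : m.left ≫ t.w = t'.w)
    (b b' : Bool) (h : m.left ≫ t.w ≫ dj V b = t'.w ≫ dj V b) (h' : m.left ≫ t.w ≫ dj V b' = t'.w ≫ dj V b') :
    c.map (Over.homMk m.left h : Over.mk (t'.w ≫ dj V b) ⟶ Over.mk (t.w ≫ dj V b)) ≫ (swap c t b b').hom =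
      (swap c t' b b').hom ≫ c.map (Over.homMk m.left h' : Over.mk (t'.w ≫ dj V b') ⟶ Over.mk (t.w ≫ dj V b')) := by
  show c.map _ ≫ c.map _ = c.map _ ≫ c.map _
  rw [← Functor.map_comp, ← Functor.map_comp]
  congr 1

lemma map_inv_of_eqToHom' {a b : 𝒳.obj} (i : a ≅ b) {h : 𝒳.p.obj a = 𝒳.p.obj b} (e : 𝒳.p.map i.hom = eqToHom h) :
    𝒳.p.map i.inv = eqToHom h.symm := by
  have e₂ : 𝒳.p.map i.hom ≫ 𝒳.p.map i.inv = 𝟙 _ := by
    rw [← Functor.map_comp, i.hom_inv_id, CategoryTheory.Functor.map_id]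
  rw [e] at e₂
  rw [← cancel_epi (eqToHom h), e₂]
  simp

lemma map_cocycle (τ : Triv q V x c) (t : Tst q V) :
    𝒳.p.map ((τ.θ false t.toTop).hom ≫ (swap c t false true).hom ≫ (τ.θ true t.toTop).inv) = 𝟙 _ := by
  rw [𝒳.p.map_comp, 𝒳.p.map_comp, τ.vert, map_swap, map_inv_of_eqToHom' (τ.θ true t.toTop) (τ.vert true t.toTop)]
  simp

/-- the cocycle of a trivialisation -/
def Triv.cocycle (hg : FibCat.IsFibGrpd 𝒳.p) (τ : Triv q V x c) : sec x q V :=
  ⟨fun t => Classical.choose (GerbLib.Band.exists_autO hg _ (map_cocycle τ t)),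
    fun t' t m e => by
      rw [Classical.choose_spec (GerbLib.Band.exists_autO hg _ (map_cocycle τ t')), Classical.choose_spec (GerbLib.Band.exists_autO hg _ (map_cocycle τ t))]
      have h₁ := τ.nat false t'.toTop t.toTop m e
      have h₂ := τ.nat true t'.toTop t.toTop m e
      rw [reassoc_of% h₁, reassoc_of% (swap_nat c t' t m e false true (by rw [← Category.assoc, e])
        (by rw [← Category.assoc, e])), Category.assoc, Category.assoc]
      congr 2
      rw [Iso.inv_comp_eq, ← Category.assoc, Iso.eq_comp_inv]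
      exact h₂⟩

theorem Triv.cocycle_spec (hg : FibCat.IsFibGrpd 𝒳.p) (τ : Triv q V x c) (t : Tst q V) :
    GerbLib.Band.ah ((τ.cocycle hg).1 t) ≫ (τ.θ true t.toTop).hom =
      (τ.θ false t.toTop).hom ≫ (swap c t false true).hom := by
  show GerbLib.Band.ah (Classical.choose _) ≫ _ = _
  rw [Classical.choose_spec (GerbLib.Band.exists_autO hg _ (map_cocycle τ t))]
  simp

/-- isomorphic objects have cohomologous cocycles -/
theorem exists_rel_of_iso (hg : FibCat.IsFibGrpd 𝒳.p) (τ : Triv q V x c) (τ' : Triv q V x c') (i : c ≅ c') :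
    ∃ a : Bool → sec x q (⊤ : U.left.Opens),
      τ'.cocycle hg * toV q V (a false) = toV q V (a true) * τ.cocycle hg := by
  let iapp : ∀ z, c.obj z ≅ c'.obj z := fun z => ((BasedNatTrans.forgetful _ _).mapIso i).app z
  have hex : ∀ (b : Bool) (t : Tst q (⊤ : U.left.Opens)), ∃ α : Gerb.AutO (x.obj t.o),
      GerbLib.Band.ah α ≫ (τ'.θ b t).hom = (τ.θ b t).hom ≫ (iapp _).hom := fun b t => by
    obtain ⟨χ, ⟨hχ, hc⟩, -⟩ := existsUnique_cart hg (τ'.θ b t).hom ((τ.θ b t).hom ≫ (iapp (Over.mk (t.w ≫ dj V b))).hom)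
      (𝟙 _) (by
        rw [Category.id_comp, τ'.vert, 𝒳.p.map_comp, τ.vert]
        erw [map_app i.hom (Over.mk (t.w ≫ dj V b))]
        simp)
    obtain ⟨α, rfl⟩ := GerbLib.Band.exists_autO hg χ hχ
    exact ⟨α, hc⟩
  choose α hα using hex
  have hαn : ∀ b, α b ∈ sec x q (⊤ : U.left.Opens) := fun b t' t m e => by
    refine (cancel_mono (τ'.θ b t).hom).1 ?_
    rw [Category.assoc, Category.assoc, τ'.nat b t' t m e, reassoc_of% hα b t', hα b t, reassoc_of% τ.nat b t' t m e]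
    congr 1
    exact (i.hom.toNatTrans.naturality _).symm
  refine ⟨fun b => ⟨α b, hαn b⟩, sec_ext fun t => ?_⟩
  refine (cancel_mono (τ'.θ true t.toTop).hom).1 ?_
  show GerbLib.Band.ah ((τ'.cocycle hg).1 t * (toV q V _).1 t) ≫ _ = GerbLib.Band.ah ((toV q V _).1 t * (τ.cocycle hg).1 t) ≫ _
  rw [toV_apply, toV_apply, GerbLib.Band.ah_mul, GerbLib.Band.ah_mul, Category.assoc, Category.assoc,
    τ'.cocycle_spec hg t, hα true t.toTop, reassoc_of% τ.cocycle_spec hg t, reassoc_of% hα false t.toTop]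
  congr 1
  exact (i.hom.toNatTrans.naturality _).symm

/-- the test object of a lift to a copy -/
abbrev tt (q : U ⟶ T) {v : Over (dbl V)} (w₀ : v.left ⟶ U) : Tst q (⊤ : U.left.Opens) :=
  ⟨Over.mk (w₀ ≫ q), w₀, rfl, fun _ _ => trivial⟩

/-- the lift as an isomorphism -/
abbrev liftIso {v : Over (dbl V)} (b : Bool) (w₀ : v.left ⟶ U) (h : w₀ ≫ dj V b = v.hom) :
    v ≅ Over.mk (w₀ ≫ dj V b) :=
  Over.isoMk (Iso.refl _) (by
    show 𝟙 _ ≫ w₀ ≫ dj V b = v.hom
    rw [Category.id_comp, h])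

/-- the morphism over one copy -/
def psi (τ : Triv q V x c) (τ' : Triv q V x c') (a : Bool → sec x q (⊤ : U.left.Opens)) (v : Over (dbl V))
    (b : Bool) (w₀ : v.left ⟶ U) (h : w₀ ≫ dj V b = v.hom) : c.obj v ⟶ c'.obj v :=
  c.map (liftIso b w₀ h).hom ≫ (τ.θ b (tt q w₀)).inv ≫ GerbLib.Band.ah ((a b).1 (tt q w₀)) ≫
    (τ'.θ b (tt q w₀)).hom ≫ c'.map (liftIso b w₀ h).inv

variable (τ : Triv q V x c) (τ' : Triv q V x c') (a : Bool → sec x q (⊤ : U.left.Opens))

lemma map_psi (v : Over (dbl V)) (b : Bool) (w₀ : v.left ⟶ U) (h : w₀ ≫ dj V b = v.hom) :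
    𝒳.p.map (psi τ τ' a v b w₀ h) = eqToHom ((c.w_obj v).trans (c'.w_obj v).symm) := by
  rw [psi, 𝒳.p.map_comp, 𝒳.p.map_comp, 𝒳.p.map_comp, 𝒳.p.map_comp, FibCatRep.map_map, FibCatRep.map_map,
    map_inv_of_eqToHom' (τ.θ b (tt q w₀)) (τ.vert b (tt q w₀)), τ'.vert, GerbLib.Band.map_ah]
  show (eqToHom _ ≫ 𝟙 _ ≫ eqToHom _) ≫ _ ≫ _ ≫ _ ≫ eqToHom _ ≫ 𝟙 _ ≫ eqToHom _ = _
  simp

lemma psi_natural {v' v : Over (dbl V)} (m : v' ⟶ v) (b : Bool) (w₀ : v.left ⟶ U) (h : w₀ ≫ dj V b = v.hom)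
    (w₀' : v'.left ⟶ U) (h' : w₀' ≫ dj V b = v'.hom) (hw : m.left ≫ w₀ = w₀') :
    c.map m ≫ psi τ τ' a v b w₀ h = psi τ τ' a v' b w₀' h' ≫ c'.map m := by
  subst hw
  let n : (tt q (m.left ≫ w₀) : Tst q (⊤ : U.left.Opens)).o ⟶ (tt q w₀).o :=
    Over.homMk m.left (Category.assoc _ _ _).symm
  let mb : Over.mk ((m.left ≫ w₀) ≫ dj V b) ⟶ Over.mk (w₀ ≫ dj V b) :=
    Over.homMk m.left (Category.assoc _ _ _).symm
  have n₁ := (a b).2 (tt q (m.left ≫ w₀)) (tt q w₀) n rfl
  have n₂ : x.map n ≫ (τ.θ b (tt q w₀)).hom = (τ.θ b (tt q (m.left ≫ w₀))).hom ≫ c.map mb :=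
    τ.nat b (tt q (m.left ≫ w₀)) (tt q w₀) n rfl
  have n₃ : x.map n ≫ (τ'.θ b (tt q w₀)).hom = (τ'.θ b (tt q (m.left ≫ w₀))).hom ≫ c'.map mb :=
    τ'.nat b (tt q (m.left ≫ w₀)) (tt q w₀) n rfl
  have n₂' : c.map mb ≫ (τ.θ b (tt q w₀)).inv = (τ.θ b (tt q (m.left ≫ w₀))).inv ≫ x.map n := by
    rw [Iso.eq_inv_comp, ← Category.assoc, Iso.comp_inv_eq]
    exact n₂.symm
  have e₁ : c.map m ≫ c.map (liftIso b w₀ h).hom = c.map (liftIso b (m.left ≫ w₀) h').hom ≫ c.map mb := by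
    rw [← Functor.map_comp, ← Functor.map_comp]
    congr 1
  have e₂ : c'.map mb ≫ c'.map (liftIso b w₀ h).inv = c'.map (liftIso b (m.left ≫ w₀) h').inv ≫ c'.map m := by
    rw [← Functor.map_comp, ← Functor.map_comp]
    congr 1
  simp only [psi, Category.assoc]
  rw [reassoc_of% e₁, reassoc_of% n₂', ← reassoc_of% n₁, reassoc_of% n₃, e₂]

lemma psi_change (hg : FibCat.IsFibGrpd 𝒳.p)
    (ha : τ'.cocycle hg * toV q V (a false) = toV q V (a true) * τ.cocycle hg) (v : Over (dbl V))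
    (w w' : v.left ⟶ U) (h : w ≫ dj V true = v.hom) (h' : w' ≫ dj V false = v.hom) :
    psi τ τ' a v true w h = psi τ τ' a v false w' h' := by
  have hV := mem_of_factor V _ w w' h h'
  haveI := isOpenImmersion_dj V false
  have e : w' = w := Over.OverMorphism.ext ((cancel_mono (dj V false).left).1
    (congrArg CommaMorphism.left (h'.trans (h.symm.trans (dj_eq_of_mem V w hV true false)))))
  subst e
  let t : Tst q V := ⟨Over.mk (w' ≫ q), w', rfl, hV⟩
  have hat := congrArg (fun k : sec x q V => GerbLib.Band.ah (k.1 t)) ha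
  change GerbLib.Band.ah ((τ'.cocycle hg).1 t * (toV q V _).1 t) =
    GerbLib.Band.ah ((toV q V _).1 t * (τ.cocycle hg).1 t) at hat
  rw [toV_apply, toV_apply, GerbLib.Band.ah_mul, GerbLib.Band.ah_mul] at hat
  have h₁ := τ.cocycle_spec hg t
  have h₂ := τ'.cocycle_spec hg t
  have e₁ : c.map (liftIso false w' h').hom ≫ (swap c t false true).hom = c.map (liftIso true w' h).hom := by
    rw [swap, Functor.mapIso_hom, ← Functor.map_comp]
    congr 1
  have e₂ : (swap c' t false true).hom ≫ c'.map (liftIso true w' h).inv = c'.map (liftIso false w' h').inv := by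
    rw [swap, Functor.mapIso_hom, ← Functor.map_comp]
    congr 1
  have h₃ : GerbLib.Band.ah ((a false).1 t.toTop) ≫ GerbLib.Band.ah ((τ'.cocycle hg).1 t) ≫ (τ'.θ true t.toTop).hom =
      GerbLib.Band.ah ((τ.cocycle hg).1 t) ≫ GerbLib.Band.ah ((a true).1 t.toTop) ≫ (τ'.θ true t.toTop).hom := by
    rw [← Category.assoc, hat, Category.assoc]
  have h₄ : (τ.θ true t.toTop).inv = (swap c t false true).inv ≫ (τ.θ false t.toTop).inv ≫
      GerbLib.Band.ah ((τ.cocycle hg).1 t) := by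
    rw [Iso.eq_inv_comp, Iso.eq_inv_comp, ← Category.assoc, ← h₁, Category.assoc, Iso.hom_inv_id, Category.comp_id]
  show c.map _ ≫ (τ.θ true t.toTop).inv ≫ GerbLib.Band.ah ((a true).1 t.toTop) ≫ (τ'.θ true t.toTop).hom ≫ c'.map _ =
    c.map _ ≫ (τ.θ false t.toTop).inv ≫ GerbLib.Band.ah ((a false).1 t.toTop) ≫ (τ'.θ false t.toTop).hom ≫ c'.map _
  rw [← e₁, ← e₂, h₄]
  simp only [Category.assoc, Iso.hom_inv_id_assoc]
  rw [← reassoc_of% h₃, reassoc_of% h₂]

/-- cohomologous cocycles give isomorphic objects -/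
theorem nonempty_iso_of_rel (hS : Stk.IsStack (Jf S) 𝒳) (τ : Triv q V x c) (τ' : Triv q V x c')
    (a : Bool → sec x q (⊤ : U.left.Opens))
    (ha : τ'.cocycle hS.1 * toV q V (a false) = toV q V (a true) * τ.cocycle hS.1) : Nonempty (c ≅ c') := by
  classical
  have hg := hS.1
  let R : Sieve (dbl V) := Sieve.generate (Presieve.ofArrows (fun _ : Bool => U) (dj V))
  have hR : R ∈ Jf S (dbl V) := mem_J_of_opens (dj V) (isOpenImmersion_dj V) (dj_cover V)
  have hchoice : ∀ w : (Stk.sieveCat R).obj, ∃ (b : Bool) (w₀ : w.obj.left ⟶ U), w₀ ≫ dj V b = w.obj.hom := by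
    intro w
    obtain ⟨Z, k, _, ⟨b⟩, e⟩ := w.property
    exact ⟨b, k, e⟩
  choose bb ww hbw using hchoice
  have hψ : ∀ {v' v : Over (dbl V)} (m : v' ⟶ v) (b' : Bool) (w₀' : v'.left ⟶ U) (h' : w₀' ≫ dj V b' = v'.hom)
      (b : Bool) (w₀ : v.left ⟶ U) (h : w₀ ≫ dj V b = v.hom),
      c.map m ≫ psi τ τ' a v b w₀ h = psi τ τ' a v' b' w₀' h' ≫ c'.map m := by
    intro v' v m b' w₀' h' b w₀ h
    have hm : (m.left ≫ w₀) ≫ dj V b = v'.hom := by rw [Category.assoc, h, Over.w m]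
    rw [psi_natural τ τ' a m b w₀ h _ hm rfl]
    congr 1
    cases b <;> cases b'
    · haveI := isOpenImmersion_dj V false
      congr 1
      exact Over.OverMorphism.ext ((cancel_mono (dj V false).left).1 (congrArg CommaMorphism.left (hm.trans h'.symm)))
    · exact (psi_change τ τ' a hg ha v' _ _ h' hm).symm
    · exact psi_change τ τ' a hg ha v' _ _ hm h'
    · haveI := isOpenImmersion_dj V true
      congr 1
      exact Over.OverMorphism.ext ((cancel_mono (dj V true).left).1 (congrArg CommaMorphism.left (hm.trans h'.symm)))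
  let η : (Stk.resSieve R 𝒳).obj c ⟶ (Stk.resSieve R 𝒳).obj c' :=
    { app := fun w => psi τ τ' a w.obj (bb w) (ww w) (hbw w)
      naturality := fun w' w m => hψ m.hom (bb w') (ww w') (hbw w') (bb w) (ww w) (hbw w)
      isHomLift' := fun w => IsHomLift.of_fac' 𝒳.p _ _ (c.w_obj w.obj) (c'.w_obj w.obj) (by
        rw [map_psi]
        simp) }
  haveI : (Stk.resSieve R 𝒳).IsEquivalence := hS.2 R hR
  obtain ⟨δ, -⟩ := (Stk.resSieve R 𝒳).map_surjective η
  exact (nonempty_iso_iff hg c c').2 (Quotient.sound (Quotient.exact (cls_eq_of_vertical hg _ _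
    (δ.toNatTrans.app (Over.mk (𝟙 (dbl V)))) (map_app δ (Over.mk (𝟙 (dbl V)))))))

/-- objects isomorphic to `x` on both copies are trivialised -/
theorem nonempty_triv (hlift : ∀ b, Nonempty (BasedFunctor.comp (AlgSt.overMap (dj V b)) c ≅
    BasedFunctor.comp (AlgSt.overMap q) x)) : Nonempty (Triv q V x c) := by
  choose i hi using fun b => (⟨(hlift b).some, trivial⟩ : ∃ _ : BasedFunctor.comp (AlgSt.overMap (dj V b)) c ≅
    BasedFunctor.comp (AlgSt.overMap q) x, True)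
  let e : ∀ t : Tst q (⊤ : U.left.Opens), t.o ≅ (AlgSt.overMap q).obj (Over.mk t.w) := fun t =>
    Over.isoMk (Iso.refl _) (by
      show 𝟙 _ ≫ t.w ≫ q = t.o.hom
      rw [Category.id_comp, t.hw])
  refine ⟨⟨fun b t => x.toFunctor.mapIso (e t) ≪≫
    (((BasedNatTrans.forgetful _ _).mapIso (i b)).app (Over.mk t.w)).symm, fun b t => ?_, fun b t' t m h => ?_⟩⟩
  · show 𝒳.p.map (x.map (e t).hom ≫ (i b).inv.toNatTrans.app (Over.mk t.w)) = _
    rw [𝒳.p.map_comp, map_app, FibCatRep.map_map]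
    show (eqToHom _ ≫ 𝟙 _ ≫ eqToHom _) ≫ eqToHom _ = _
    simp
  · show x.map m ≫ x.map (e t).hom ≫ (i b).inv.toNatTrans.app (Over.mk t.w) =
      (x.map (e t').hom ≫ (i b).inv.toNatTrans.app (Over.mk t'.w)) ≫ _
    let n : Over.mk t'.w ⟶ Over.mk t.w := Over.homMk m.left h
    have hn := (i b).inv.toNatTrans.naturality n
    rw [← Functor.map_comp_assoc, show m ≫ (e t).hom = (e t').hom ≫ (AlgSt.overMap q).map n from
      Over.OverMorphism.ext ((Category.comp_id _).trans (Category.id_comp _).symm), Functor.map_comp_assoc]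
    refine (congrArg (x.map (e t').hom ≫ ·) hn).trans ?_
    rw [Category.assoc]
    rfl

/-- trivialised objects are isomorphic to `x` on both copies -/
theorem Triv.nonempty_iso (hg : FibCat.IsFibGrpd 𝒳.p) (τ : Triv q V x c) (b : Bool) :
    Nonempty (BasedFunctor.comp (AlgSt.overMap (dj V b)) c ≅ BasedFunctor.comp (AlgSt.overMap q) x) := by
  let w : Tst q (⊤ : U.left.Opens) := ⟨(AlgSt.overMap q).obj (Over.mk (𝟙 U)), 𝟙 U, rfl, fun _ _ => trivial⟩
  rw [nonempty_iso_iff hg]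
  exact (cls_eq_of_vertical hg _ _ (τ.θ b w).hom (τ.vert b w)).symm

/-- every cocycle occurs -/
theorem exists_triv (hS : Stk.IsStack (Jf S) 𝒳) (γ : sec x q V) :
    ∃ (c : FibCat.overCat (dbl V) ⥤ᵇ 𝒳) (τ : Triv q V x c), τ.cocycle hS.1 = γ := by
  classical
  have hg := hS.1
  let G₀ := BasedFunctor.comp (AlgSt.overMap (dp V)) (BasedFunctor.comp (AlgSt.overMap q) x)
  let InV : Over (dbl V) → Prop := fun w => Set.range (w.hom ≫ dp V).left ⊆ (V : Set U.left)
  let tw : ∀ w, InV w → Tst q V := fun w h => ⟨Over.mk ((w.hom ≫ dp V) ≫ q), w.hom ≫ dp V, rfl, h⟩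
  let Γ : ∀ w : Over (dbl V), G₀.obj w ≅ G₀.obj w := fun w =>
    if h : InV w then
      { hom := GerbLib.Band.ah (γ.1 (tw w h)), inv := GerbLib.Band.ah (γ.1 (tw w h))⁻¹
        hom_inv_id := GerbLib.Band.ah_comp_inv _, inv_hom_id := GerbLib.Band.ah_inv_comp _ }
    else Iso.refl _
  have hΓ : ∀ w, 𝒳.p.map (Γ w).hom = 𝟙 _ := fun w => by
    by_cases h : InV w
    · simp only [Γ, dif_pos h]
      exact GerbLib.Band.map_ah _
    · simp only [Γ, dif_neg h, Iso.refl_hom]
      exact 𝒳.p.map_id _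
  have hin : ∀ w, InPiece (dj V) true w → InPiece (dj V) false w → InV w := by
    rintro w ht hf _ ⟨p, rfl⟩
    obtain ⟨s, hs⟩ := ht ⟨p, rfl⟩
    obtain ⟨s', hs'⟩ := hf ⟨p, rfl⟩
    have h := dj_meet V (hs.trans hs'.symm)
    show (dp V).left (w.hom.left p) ∈ V
    rw [← hs, show (dp V).left ((dj V true).left s) = s from congrArg (fun k : U ⟶ U => k.left s) (dj_dp V true)]
    exact h
  obtain ⟨G, θ, hθ, hθn, hθg⟩ := exists_twist hS (dj V) (isOpenImmersion_dj V) (dj_cover V) G₀ Γ hΓ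
    (fun {w' w} m ht hf => by
      have h := hin w ht hf
      have h' := hin w' (ht.of_hom m) (hf.of_hom m)
      simp only [Γ, dif_pos h, dif_pos h']
      exact (γ.2 (tw w' h') (tw w h) ((AlgSt.overMap q).map ((AlgSt.overMap (dp V)).map m)) (by
        show m.left ≫ w.hom ≫ dp V = w'.hom ≫ dp V
        rw [← Category.assoc, Over.w m])).symm)
  have hP : ∀ (b : Bool) (t : Tst q (⊤ : U.left.Opens)), InPiece (dj V) b (Over.mk (t.w ≫ dj V b)) := fun b t => by
    rintro _ ⟨p, rfl⟩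
    exact ⟨t.w.left p, rfl⟩
  let e : ∀ (b : Bool) (t : Tst q (⊤ : U.left.Opens)),
      t.o ≅ (AlgSt.overMap q).obj ((AlgSt.overMap (dp V)).obj (Over.mk (t.w ≫ dj V b))) := fun b t =>
    Over.isoMk (Iso.refl _) (by
      show 𝟙 _ ≫ ((t.w ≫ dj V b) ≫ dp V) ≫ q = t.o.hom
      rw [Category.id_comp, Category.assoc t.w, dj_dp, Category.comp_id, t.hw])
  have hiso : ∀ b t, IsIso (θ b _ (hP b t)) := fun b t => by
    haveI : IsIso (𝒳.p.map (θ b _ (hP b t))) := by rw [hθ]; infer_instance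
    exact isIso_of_map hg _
  let τ : Triv q V x G :=
    { θ := fun b t => x.toFunctor.mapIso (e b t) ≪≫ (@asIso _ _ _ _ (θ b _ (hP b t)) (hiso b t))
      vert := fun b t => by
        show 𝒳.p.map (x.map (e b t).hom ≫ θ b _ (hP b t)) = _
        rw [𝒳.p.map_comp, hθ, FibCatRep.map_map]
        show (eqToHom _ ≫ 𝟙 _ ≫ eqToHom _) ≫ eqToHom _ = _
        simp
      nat := fun b t' t m h => by
        show x.map m ≫ x.map (e b t).hom ≫ θ b _ (hP b t) = (x.map (e b t').hom ≫ θ b _ (hP b t')) ≫ _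
        let n : Over.mk (t'.w ≫ dj V b) ⟶ Over.mk (t.w ≫ dj V b) := Over.homMk m.left (by
          show m.left ≫ t.w ≫ dj V b = t'.w ≫ dj V b
          rw [← Category.assoc, h])
        rw [← Functor.map_comp_assoc, show m ≫ (e b t).hom = (e b t').hom ≫ (AlgSt.overMap q).map ((AlgSt.overMap (dp V)).map n)
          from Over.OverMorphism.ext ((Category.comp_id _).trans (Category.id_comp _).symm), Functor.map_comp_assoc,
          Category.assoc]
        exact congrArg (x.map (e b t').hom ≫ ·) (hθn b n (hP b t)) }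
  refine ⟨G, τ, sec_ext fun t => ?_⟩
  refine (cancel_mono (τ.θ true t.toTop).hom).1 ?_
  rw [τ.cocycle_spec hg t]
  let wf : Over (dbl V) := Over.mk (t.w ≫ dj V false)
  let wt : Over (dbl V) := Over.mk (t.w ≫ dj V true)
  have hft : InPiece (dj V) false wt := by
    rintro _ ⟨p, rfl⟩
    exact ⟨t.w.left p, congrArg (fun k : t.o.left ⟶ dbl V => k.left p) (dj_eq_of_mem V t.w t.hin false true)⟩
  let n : wf ⟶ wt := Over.homMk (𝟙 _) (by
    show 𝟙 _ ≫ t.w ≫ dj V true = t.w ≫ dj V false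
    rw [Category.id_comp, dj_eq_of_mem V t.w t.hin true false])
  show (x.map (e false t.toTop).hom ≫ θ false wf (hP false t.toTop)) ≫ G.map n =
    GerbLib.Band.ah (γ.1 t) ≫ x.map (e true t.toTop).hom ≫ θ true wt (hP true t.toTop)
  have h := hin wt (hP true t.toTop) hft
  have hγ := γ.2 t (tw wt h) (e true t.toTop).hom (by
    show 𝟙 _ ≫ (t.w ≫ dj V true) ≫ dp V = t.w
    rw [Category.id_comp, Category.assoc, dj_dp, Category.comp_id])
  rw [Category.assoc, show θ false wf (hP false t.toTop) ≫ G.map n = G₀.map n ≫ θ false wt hft from (hθn false n hft).symm,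
    reassoc_of% hγ, hθg wt (hP true t.toTop) hft]
  simp only [Γ, dif_pos h]
  rw [← Category.assoc]
  congr 1
  show x.map _ ≫ x.map _ = x.map _
  rw [← Functor.map_comp]
  congr 1

end doubled

end Groth.Agent.IsoNatLib

end
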