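import Groth.Agent.IsoNatLib.DiagCrit
import Groth.Agent.AlgStLib.Cancel
import Groth.Agent.AlgStLib.DiagProps
import Groth.Agent.AlgStLib.SmLocally
import Groth.Agent.AlgStLib.StacksEt

/-!
# Separatedness of morphisms is read from isomorphism classes
-/

set_option autoImplicit false
set_option backward.isDefEq.respectTransparency false
set_option backward.isDefEq.respectTransparency.types false
set_option linter.style.haveILetI false
set_option maxHeartbeats 1000000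
universe u

noncomputable section

namespace Groth.Agent.IsoNatLib.SepSq

open CategoryTheory CategoryTheory.Limits AlgebraicGeometry Opposite Groth.Agent.FibCatRep
  Groth.Agent.FibCat2Misc Groth.Agent.AlgSpLib Groth.Agent.AlgStLib
open Groth.Agent.IsoNatLib.DiagCrit Groth.Agent.IsoNatLib.LiftDVR
open _root_.AlgSp _root_.AlgSt

variable {S : Scheme.{u}}

/-- the generic point of a domain is schematically dense -/
theorem dense_gen (A : Type u) [CommRing A] (K : Type u) [Field K] [Algebra A K]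
    [IsFractionRing A K] (str : Spec (.of A) ⟶ S) {Z : Scheme.{u}} (ι : Z ⟶ (Over.mk str : Over S).left)
    (k : (Over.mk (Spec.map (CommRingCat.ofHom (algebraMap A K)) ≫ str) : Over S).left ⟶ Z)
    (hι : IsClosedImmersion ι) (hk : k ≫ ι = (gen A K str).left) : IsIso ι := by
  haveI : IsAffine (Over.mk str : Over S).left := inferInstanceAs (IsAffine (Spec (.of A)))
  refine isIso_of_factor (gen A K str).left ?_ ι k hι hk
  intro a b h
  have n := Scheme.ΓSpecIso_naturality (CommRingCat.ofHom (algebraMap A K))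
  have e : ∀ t, (Scheme.ΓSpecIso (CommRingCat.of K)).hom ((Spec.map (CommRingCat.ofHom (algebraMap A K))).appTop t) =
      algebraMap A K ((Scheme.ΓSpecIso (CommRingCat.of A)).hom t) := fun t => ConcreteCategory.congr_hom n t
  have h' := congrArg (Scheme.ΓSpecIso (CommRingCat.of K)).hom h
  exact (Scheme.ΓSpecIso (CommRingCat.of A)).commRingCatIsoToRingEquiv.injective
    (IsFractionRing.injective A K ((e a).symm.trans (h'.trans (e b))))

variable {𝒳 𝒴 𝒳' 𝒴' : AlgSt.Cat S} {f : 𝒳 ⥤ᵇ 𝒴} {f' : 𝒳' ⥤ᵇ 𝒴'}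

theorem liftDVR_diag_transport (h𝒳 : Stk.IsStack (Jf S) 𝒳) (h𝒴 : Stk.IsStack (Jf S) 𝒴)
    (h𝒳' : Stk.IsStack (Jf S) 𝒳') (h𝒴' : Stk.IsStack (Jf S) 𝒴')
    (hd : RepByAlgSpWith AlgSp.IsSeparatedMor (FibCat.diag (FibCat.toSelf 𝒴')))
    (φ : IsoNat.FIsoSq f f') (h : LiftDVR (FibCat.diag f)) : LiftDVR (FibCat.diag f') :=
  fun A _ _ _ K _ _ _ str x =>
    haveI : IsOpenImmersion (gen A K str).left := ExtDVR.isOpenImmersion_generic A K
    liftAt_of_crit (gen A K str) h𝒳' h𝒴' hd (fun ι k hι hk => dense_gen A K str ι k hι hk)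
      (Crit.transport (gen A K str) h𝒳.1 h𝒴.1 h𝒳'.1 h𝒴'.1 φ (crit_of_liftAt (gen A K str) h𝒳 (h A K str))) x

/-- separatedness is detected by isomorphism classes -/
theorem isSeparatedMor_of_fIsoSq (h𝒳 : IsAlgStack Scheme.fppfPrecoverage 𝒳)
    (h𝒴 : IsAlgStack Scheme.fppfPrecoverage 𝒴) (h𝒳' : IsAlgStack Scheme.fppfPrecoverage 𝒳')
    (h𝒳'd : RepByAlgSpWith (AlgSp.IsSeparatedMor ⊓ AlgSp.IsQuasiCompactMor) (FibCat.diag (FibCat.toSelf 𝒳')))
    (h𝒴' : IsAlgStack Scheme.fppfPrecoverage 𝒴')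
    (h𝒴'd : RepByAlgSpWith (AlgSp.IsSeparatedMor ⊓ AlgSp.IsQuasiCompactMor) (FibCat.diag (FibCat.toSelf 𝒴')))
    (φ : IsoNat.FIsoSq f f') (hft' : LocQ (LocP @LocallyOfFiniteType) f')
    (hN' : AlgSt.SmoothLocally (fun X => IsLocallyNoetherian X) 𝒴')
    (hf : AlgSt.IsSeparatedMor f) : AlgSt.IsSeparatedMor f' := by
  have hdY : RepByAlgSpWith AlgSp.IsSeparatedMor (FibCat.diag (FibCat.toSelf 𝒴')) :=
    AlgStLib.repWith_mono h𝒴'd fun _ _ _ _ ha => ha.1
  have hc : IsClosedImm (FibCat.diag (cmpSelf f' (FibCat.toSelf 𝒴'))) :=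
    isClosedImm_diag_of_separated (repWith_cmpSelf f' _ hdY)
  have hcp : RepByAlgSpWith AlgSp.IsProperMor (FibCat.diag (cmpSelf f' (FibCat.toSelf 𝒴'))) :=
    AlgStLib.repWith_mono hc fun _ U _ hX ha => isProperMor_of_closedImmersion hX (IsAlgSpace.yon_obj U) ha
  have hds : RepByAlgSpWith AlgSp.IsSeparatedMor (FibCat.diag f') :=
    repWith_diag_cancel h𝒳'.isStack.1 h𝒴'.isStack.1 isFibGrpd_selfOver cls_separated f' (FibCat.toSelf 𝒴')
      (by rw [comp_toSelf]; exact AlgStLib.repWith_mono h𝒳'd fun _ _ _ _ ha => ha.1)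
      (AlgStLib.repWith_mono hcp fun _ _ _ _ ha => ha.1)
  have hdq : RepByAlgSpWith AlgSp.IsQuasiCompactMor (FibCat.diag f') :=
    repWith_diag_cancel h𝒳'.isStack.1 h𝒴'.isStack.1 isFibGrpd_selfOver cls_qc f' (FibCat.toSelf 𝒴')
      (by rw [comp_toSelf]; exact AlgStLib.repWith_mono h𝒳'd fun _ _ _ _ ha => ha.2)
      (AlgStLib.repWith_mono hcp fun _ _ _ _ ha => ha.2.1.2)
  have hX'N := smoothLocally_noetherian_of_lft h𝒳' h𝒴' f' hft' hN'
  have h𝒫 := isAlgStack_fp_of Scheme.fppfPrecoverage h𝒳' h𝒳' h𝒴' f' f'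
  have hPN := smoothLocally_noetherian_of_lft h𝒫 h𝒳' (FibCat.fpFst f' f')
    (locQ_fpFst_of_bc (st_lft) cls_lft.bc h𝒳' h𝒴' h𝒳' hft') hX'N
  exact proper_of_liftDVR h𝒳' h𝒫 hds hdq (repWith_lft_diag h𝒳' h𝒴' f') hPN
    (liftDVR_diag_transport h𝒳.isStack h𝒴.isStack h𝒳'.isStack h𝒴'.isStack hdY φ
      (liftDVR_of_proper h𝒳.isStack.1 (isFibGrpd_fp h𝒳.isStack.1 h𝒳.isStack.1 h𝒴.isStack.1 f f) hf))

end Groth.Agent.IsoNatLib.SepSq

end
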