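import Groth.Agent.AlgSpLib.QCompact
import Groth.Agent.AlgSpLib.DiagCrit
import Groth.Agent.AlgSpLib.SheafLemmas
import Groth.Agent.AlgSpLib.LocP
import Groth.Agent.UnramPt.Basic
import Groth.Agent.LimDesc.FPCancel
import Groth.Agent.ConsSet.Basic
import Groth.Agent.S2777
import Groth.Prelude.Def_AlgSp4
import Mathlib.AlgebraicGeometry.Morphisms.FlatMono
import Mathlib.AlgebraicGeometry.Morphisms.FinitePresentation

/-!
# The locus over which an algebraic space with a section is trivial

For `π : G ⟶ h_T` with a section `e`, locally of finite presentation and closed on points, the points of `T` over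
which `G` is `e` form an open set; it is quasi-compact when `T` is affine and `π` is separated and quasi-compact.
-/

set_option autoImplicit false
set_option backward.isDefEq.respectTransparency false
set_option backward.isDefEq.respectTransparency.types false
set_option linter.style.haveILetI false
universe u

noncomputable section

namespace Groth.Agent.IsoNatLib.TrivLocus

open CategoryTheory CategoryTheory.Limits AlgebraicGeometry Opposite Groth.Agent.AlgSpLib
open _root_.AlgSp Topology

variable {S : Scheme.{u}} {G : Sp S} {T : Over S} (π : G ⟶ (yon S).obj T) (e : (yon S).obj T ⟶ G)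

/-- after base change along `g`, every point of `G` is the section -/
def Triv {T' : Over S} (g : T' ⟶ T) : Prop :=
  ∀ (W : Over S) (g' : W ⟶ T') (ξ : (yon S).obj W ⟶ G), ξ ≫ π = (yon S).map (g' ≫ g) →
    ξ = (yon S).map (g' ≫ g) ≫ e

/-- the data of a chart of `G` and of its restriction to the section -/
structure Chart where
  Y : Over S
  Z : Over S
  a : (yon S).obj Y ⟶ G
  c : Y ⟶ T
  z : Z ⟶ Y
  zT : Z ⟶ T
  ha : RepWith @Etale a
  hs : RepWith @Surjective a
  hc : a ≫ π = (yon S).map c
  sq : IsPullback ((yon S).map z) ((yon S).map zT) a e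

variable {π e}

theorem exists_chart (hG : IsAlgSpace G) (Y : Over S) (a : (yon S).obj Y ⟶ G) (ha : RepWith @Etale a)
    (hs : RepWith @Surjective a) : ∃ D : Chart π e, D.Y = Y := by
  obtain ⟨c, hc⟩ := exists_map_eq (a ≫ π)
  obtain ⟨Z, z, zT, sq⟩ := exists_pullback hG.diag a e
  exact ⟨⟨Y, Z, a, c, z, zT, ha, hs, hc.symm, sq⟩, rfl⟩

variable (D : Chart π e)

lemma etale_zT : Etale D.zT.left := (repWith_yon_iff D.zT).1 (repWith_baseChange D.sq D.ha)

/-- the union of the opens on which the chart is unramified over the base -/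
def unr : D.Y.left.Opens :=
  sSup {O : D.Y.left.Opens | FormallyUnramified (O.ι ≫ D.c.left)}

lemma mem_unr {y : D.Y.left} {O : D.Y.left.Opens} (hy : y ∈ O) (h : FormallyUnramified (O.ι ≫ D.c.left)) :
    y ∈ unr D :=
  TopologicalSpace.Opens.mem_sSup.2 ⟨O, h, hy⟩

lemma formallyUnramified_unr : FormallyUnramified ((unr D).ι ≫ D.c.left) := by
  have h : ∀ y : ↥(unr D), ∃ O : D.Y.left.Opens, O ≤ unr D ∧ y.1 ∈ O ∧ FormallyUnramified (O.ι ≫ D.c.left) := by
    rintro ⟨y, hy⟩
    obtain ⟨O, hO, hyO⟩ := TopologicalSpace.Opens.mem_sSup.1 hy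
    exact ⟨O, le_sSup hO, hyO, hO⟩
  choose O hle hy hO using h
  refine IsZariskiLocalAtSource.of_iSup_eq_top (P := @FormallyUnramified) (fun y => (unr D).ι ⁻¹ᵁ O y) ?_ ?_
  · refine top_le_iff.1 fun v _ => TopologicalSpace.Opens.mem_iSup.2 ⟨v, hy v⟩
  · intro y
    haveI := hO y
    rw [← morphismRestrict_ι_assoc]
    exact MorphismProperty.comp_mem _ _ _ inferInstance (hO y)

section mono

variable (he : e ≫ π = 𝟙 _)
include he

lemma zT_eq : D.z ≫ D.c = D.zT := by
  refine (yon S).map_injective ?_
  rw [Functor.map_comp, ← D.hc, ← Category.assoc, D.sq.w, Category.assoc, he, Category.comp_id]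

lemma mono_z : Mono D.z.left := by
  haveI : IsSplitMono e := ⟨⟨⟨π, he⟩⟩⟩
  haveI : Mono e := inferInstance
  haveI : Mono ((yon S).map D.z) := MorphismProperty.of_isPullback (P := MorphismProperty.monomorphisms _) D.sq.flip ‹Mono e›
  haveI : Mono D.z := (yon S).mono_of_mono_map ‹_›
  exact mono_left D.z

lemma isOpenImmersion_restrict (hl : LocallyOfFiniteType D.c.left) :
    IsOpenImmersion (D.z.left ∣_ unr D) := by
  haveI := mono_z D he
  haveI := formallyUnramified_unr D
  haveI := hl
  haveI : Etale ((D.z.left ∣_ unr D) ≫ (unr D).ι ≫ D.c.left) := by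
    rw [morphismRestrict_ι_assoc, ← Over.comp_left, zT_eq D he]
    haveI := etale_zT D
    exact MorphismProperty.comp_mem _ _ _ inferInstance this
  haveI : Etale (D.z.left ∣_ unr D) := Etale.of_comp _ ((unr D).ι ≫ D.c.left)
  haveI : Mono (D.z.left ∣_ unr D) :=
    MorphismProperty.of_isPullback (P := MorphismProperty.monomorphisms _)
      (isPullback_morphismRestrict D.z.left (unr D)).flip ‹Mono D.z.left›
  exact IsOpenImmersion.of_flat_of_mono _

/-- the part of the chart lying in the section -/
def secOpen (hl : LocallyOfFiniteType D.c.left) : D.Y.left.Opens :=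
  haveI := isOpenImmersion_restrict D he hl
  ((D.z.left ∣_ unr D) ≫ (unr D).ι).opensRange

lemma mem_secOpen (hl : LocallyOfFiniteType D.c.left) {y : D.Y.left} :
    y ∈ secOpen D he hl ↔ y ∈ unr D ∧ y ∈ Set.range D.z.left := by
  haveI := isOpenImmersion_restrict D he hl
  constructor
  · rintro ⟨v, rfl⟩
    refine ⟨((D.z.left ∣_ unr D) v).2, ?_⟩
    rw [morphismRestrict_ι]
    exact ⟨_, rfl⟩
  · rintro ⟨hy, v, rfl⟩
    obtain ⟨w, hw⟩ : v ∈ Set.range (D.z.left ⁻¹ᵁ unr D).ι := by rw [Scheme.Opens.range_ι]; exact hy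
    exact ⟨w, by rw [morphismRestrict_ι, Scheme.Hom.comp_apply, hw]⟩

/-- the points of the base above which all points lie in the section -/
def locus (hl : LocallyOfFiniteType D.c.left) : Set T.left :=
  {t | ∀ x : Points G, Points.map π x = Points.schemeHomeo T t → x ∈ Points.ofPt D.a '' (secOpen D he hl)}

theorem isOpen_locus (hl : LocallyOfFiniteType D.c.left) (hcl : IsClosedMor π) : IsOpen (locus D he hl) := by
  have hC : IsClosed (Points.ofPt D.a '' (secOpen D he hl))ᶜ :=
    ((isOpenMap_ofPt (repWith_universallyOpen_of_etale D.ha)) _ (secOpen D he hl).isOpen).isClosed_compl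
  have hT := (hcl _ hC).preimage (Points.schemeHomeo T).continuous
  convert hT.isOpen_compl using 1
  ext t
  constructor
  · rintro ht ⟨x, hx, hxt⟩
    exact hx (ht x hxt)
  · intro ht x hxt
    by_contra hx
    exact ht ⟨x, hx, hxt⟩

theorem triv_of_range_subset (hl : LocallyOfFiniteType D.c.left) {T' : Over S} (g : T' ⟶ T)
    (hg : Set.range g.left ⊆ locus D he hl) : Triv π e g := by
  intro W g' ξ hξ
  obtain ⟨Q, fst, q, sqQ, hq⟩ := exists_repWith D.ha ξ
  obtain ⟨qY, rfl⟩ := exists_map_eq fst
  haveI := isOpenImmersion_restrict D he hl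
  let j := (D.z.left ∣_ unr D) ≫ (unr D).ι
  let Q₀ : Q.left.Opens := qY.left ⁻¹ᵁ secOpen D he hl
  let ι : Over.mk (Q₀.ι ≫ Q.hom) ⟶ Q := Over.homMk Q₀.ι rfl
  have hr : Set.range (Q₀.ι ≫ qY.left) ⊆ Set.range j := by
    rintro _ ⟨v, rfl⟩
    exact v.2
  let k₀ := IsOpenImmersion.lift j _ hr
  have hk₀ : k₀ ≫ j = Q₀.ι ≫ qY.left := IsOpenImmersion.lift_fac _ _ _
  let k : Over.mk (Q₀.ι ≫ Q.hom) ⟶ D.Z := Over.homMk (k₀ ≫ (D.z.left ⁻¹ᵁ unr D).ι) (by
    show (k₀ ≫ (D.z.left ⁻¹ᵁ unr D).ι) ≫ D.Z.hom = Q₀.ι ≫ Q.hom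
    rw [← Over.w D.z, Category.assoc, ← morphismRestrict_ι_assoc, ← Category.assoc, ← Category.assoc]
    erw [Category.assoc k₀, hk₀]
    rw [Category.assoc, Over.w qY])
  have hk : k ≫ D.z = ι ≫ qY := Over.OverMorphism.ext (by
    show (k₀ ≫ (D.z.left ⁻¹ᵁ unr D).ι) ≫ D.z.left = Q₀.ι ≫ qY.left
    rw [Category.assoc, ← morphismRestrict_ι]
    exact hk₀)
  let h := ι ≫ q
  have hfl : Flat h.left ∧ LocallyOfFinitePresentation h.left := by
    haveI : Etale q.left := hq
    haveI : Etale h.left := MorphismProperty.comp_mem _ _ _ (inferInstanceAs (Etale Q₀.ι)) ‹Etale q.left›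
    exact ⟨inferInstance, inferInstance⟩
  haveI := hfl.1
  haveI := hfl.2
  haveI : Surjective h.left := ⟨fun w => by
    have hx : Points.ofPt ξ w ∈ Points.ofPt D.a '' (secOpen D he hl) := by
      refine hg ⟨g'.left w, rfl⟩ _ ?_
      rw [Points.map_ofPt, hξ, ofScheme_map]
      rfl
    obtain ⟨y, hy, hyw⟩ := hx
    obtain ⟨v, hv, hv'⟩ := (ofPt_eq_iff sqQ y w).1 hyw
    exact ⟨⟨v, show qY.left v ∈ secOpen D he hl by rwa [hv]⟩, hv'⟩⟩
  haveI := epi_yon_map h
  have key : (yon S).map k ≫ (yon S).map D.zT = (yon S).map (h ≫ g' ≫ g) := by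
    rw [← zT_eq D he, ← Functor.map_comp, ← Category.assoc, hk, Category.assoc, Functor.map_comp, Functor.map_comp,
      ← D.hc, reassoc_of% sqQ.w, hξ, ← Functor.map_comp, ← Functor.map_comp]
    rfl
  refine (cancel_epi ((yon S).map h)).1 ?_
  calc (yon S).map h ≫ ξ = ((yon S).map ι ≫ (yon S).map q) ≫ ξ := by rw [← Functor.map_comp]
    _ = (yon S).map ι ≫ (yon S).map qY ≫ D.a := by rw [Category.assoc, ← sqQ.w]
    _ = (yon S).map k ≫ (yon S).map D.z ≫ D.a := by
      rw [← Category.assoc, ← Functor.map_comp, ← hk, Functor.map_comp, Category.assoc]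
    _ = (yon S).map k ≫ (yon S).map D.zT ≫ e := by rw [D.sq.w]
    _ = (yon S).map h ≫ (yon S).map (g' ≫ g) ≫ e := by rw [← Category.assoc, key, Functor.map_comp, Category.assoc]

theorem pullback_in_secOpen (hl : LocallyOfFiniteType D.c.left) {T' : Over S} (g : T' ⟶ T) (ht : Triv π e g) :
    Etale (pullback.snd D.c.left g.left) ∧
      ∀ p : ↑(pullback D.c.left g.left), pullback.fst D.c.left g.left p ∈ secOpen D he hl := by
  let P : Over S := Over.mk (pullback.fst D.c.left g.left ≫ D.Y.hom)
  let p₁ : P ⟶ D.Y := Over.homMk (pullback.fst D.c.left g.left) rfl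
  let p₂ : P ⟶ T' := Over.homMk (pullback.snd D.c.left g.left) (by
    show pullback.snd D.c.left g.left ≫ T'.hom = pullback.fst D.c.left g.left ≫ D.Y.hom
    rw [← Over.w g, ← Over.w D.c, pullback.condition_assoc])
  have hw : p₁ ≫ D.c = p₂ ≫ g := Over.OverMorphism.ext pullback.condition
  have hξ : (yon S).map p₁ ≫ D.a = (yon S).map (p₂ ≫ g) ≫ e :=
    ht P p₂ _ (by rw [Category.assoc, D.hc, ← Functor.map_comp, hw])
  obtain ⟨s, hs⟩ := exists_map_eq (D.sq.lift _ _ hξ)
  have hs₁ : s ≫ D.z = p₁ := (yon S).map_injective (by rw [Functor.map_comp, hs, D.sq.lift_fst])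
  have hs₂ : s ≫ D.zT = p₂ ≫ g := by rw [← zT_eq D he, reassoc_of% hs₁, hw]
  haveI := mono_z D he
  have hz : D.z.left ≫ D.c.left = D.zT.left := congrArg (fun m => m.left) (zT_eq D he)
  have hsz : s.left ≫ D.z.left = pullback.fst D.c.left g.left := congrArg (fun m => m.left) hs₁
  have hsT : s.left ≫ D.zT.left = pullback.snd D.c.left g.left ≫ g.left := congrArg (fun m => m.left) hs₂
  have sqP : IsPullback s.left (pullback.snd D.c.left g.left) D.zT.left g.left := by
    refine IsPullback.of_isLimit' ⟨hsT⟩ (PullbackCone.IsLimit.mk _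
      (fun c => pullback.lift (c.fst ≫ D.z.left) c.snd (by rw [Category.assoc, hz, c.condition])) ?_ ?_ ?_)
    · intro c
      rw [← cancel_mono D.z.left, Category.assoc, hsz, pullback.lift_fst]
    · intro c
      exact pullback.lift_snd _ _ _
    · intro c m h₁ h₂
      apply pullback.hom_ext
      · rw [pullback.lift_fst, ← hsz, ← Category.assoc, h₁]
      · rw [pullback.lift_snd, h₂]
  haveI := etale_zT D
  haveI hsnd : Etale (pullback.snd D.c.left g.left) := MorphismProperty.of_isPullback sqP (etale_zT D)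
  refine ⟨hsnd, fun p => (mem_secOpen D he hl).2 ⟨?_, s.left p, ?_⟩⟩
  · haveI := hl
    obtain ⟨O, hO, hOu⟩ := UnramPt.exists_nhd_of_baseChange D.c.left g.left p ⊤ trivial inferInstance
    exact mem_unr D hO hOu
  · rw [← Scheme.Hom.comp_apply, hsz]
    rfl

theorem mem_locus_of_fibre (hl : LocallyOfFiniteType D.c.left) {t : T.left}
    (h : ∀ y : D.Y.left, D.c.left y = t → y ∈ secOpen D he hl) : t ∈ locus D he hl := by
  intro x hx
  obtain ⟨y, rfl⟩ := ofPt_surjective D.hs x
  refine ⟨y, h y ((Points.schemeHomeo T).injective ?_), rfl⟩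
  rw [← hx, Points.map_ofPt, D.hc, ofScheme_map]
  rfl

theorem range_subset_of_triv (hl : LocallyOfFiniteType D.c.left) {T' : Over S} (g : T' ⟶ T) (ht : Triv π e g) :
    Set.range g.left ⊆ locus D he hl := by
  rintro _ ⟨t', rfl⟩
  refine mem_locus_of_fibre D he hl fun y hy => ?_
  obtain ⟨p, hp, -⟩ := Scheme.Pullback.exists_preimage_pullback y t' hy
  exact hp ▸ (pullback_in_secOpen D he hl g ht).2 p

theorem triv_iff (hl : LocallyOfFiniteType D.c.left) {T' : Over S} (g : T' ⟶ T) :
    Triv π e g ↔ Set.range g.left ⊆ locus D he hl :=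
  ⟨range_subset_of_triv D he hl g, triv_of_range_subset D he hl g⟩

/-- the section is cut out by a closed immersion when the space is separated -/
theorem isClosedImmersion_z (hsep : IsSeparatedMor π) : IsClosedImmersion D.z.left := by
  have hw : D.a ≫ π = ((yon S).map D.c ≫ e) ≫ π := by rw [Category.assoc, he, Category.comp_id, D.hc]
  refine hsep.2 (pullback.lift D.a ((yon S).map D.c ≫ e) hw) ((yon S).map D.z ≫ D.a) D.z ?_
  have hzc : (yon S).map D.z ≫ (yon S).map D.c = (yon S).map D.zT := by rw [← Functor.map_comp, zT_eq D he]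
  haveI : Mono D.z := by
    haveI := mono_z D he
    exact (Over.forget S).mono_of_mono_map ‹_›
  haveI : Mono ((yon S).map D.z) := (yon S).map_mono D.z
  refine IsPullback.of_isLimit' ⟨?_⟩ (PullbackCone.IsLimit.mk _
    (fun c => D.sq.lift c.snd (c.snd ≫ (yon S).map D.c) ?_) ?_ ?_ ?_)
  · apply pullback.hom_ext
    · simp only [Category.assoc, pullback.diagonal_fst, pullback.lift_fst, Category.comp_id]
    · simp only [Category.assoc, pullback.diagonal_snd, pullback.lift_snd, Category.comp_id, reassoc_of% hzc, D.sq.w]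
  · have h₁ := congrArg (fun m => m ≫ pullback.fst _ _) c.condition
    have h₂ := congrArg (fun m => m ≫ pullback.snd _ _) c.condition
    simp only [Category.assoc, pullback.diagonal_fst, pullback.diagonal_snd, pullback.lift_fst, pullback.lift_snd,
      Category.comp_id] at h₁ h₂
    rw [Category.assoc, ← h₁, h₂]
  · intro c
    have h₁ := congrArg (fun m => m ≫ pullback.fst _ _) c.condition
    simp only [Category.assoc, pullback.diagonal_fst, pullback.lift_fst, Category.comp_id] at h₁
    rw [← Category.assoc, D.sq.lift_fst, ← h₁]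
  · intro c
    exact D.sq.lift_fst _ _ _
  · intro c m _ h₂
    rw [← cancel_mono ((yon S).map D.z), D.sq.lift_fst, h₂]

theorem isCompact_locus (hl : LocallyOfFinitePresentation D.c.left) (hsep : IsSeparatedMor π) (hcl : IsClosedMor π)
    [IsAffine T.left] [IsAffine D.Y.left] :
    IsCompact (locus D he inferInstance) := by
  haveI := hl
  haveI := isClosedImmersion_z D he hsep
  haveI := etale_zT D
  have hz : D.z.left ≫ D.c.left = D.zT.left := congrArg (fun m => m.left) (zT_eq D he)
  haveI : LocallyOfFinitePresentation (D.z.left ≫ D.c.left) := by rw [hz]; infer_instance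
  haveI : LocallyOfFinitePresentation D.z.left := LimDesc.lfp_of_comp D.z.left D.c.left
  let A : Set T.left := {t | FormallyUnramified (pullback.snd D.c.left ((𝟙 T.left : T.left ⟶ T.left).fiberι t))}
  have hA : IsLocallyConstructible A :=
    (Groth.Agent.S2777.result (𝟙 T.left) D.c.left D.c.left (Category.comp_id _)).2
  have hzr : IsConstructible (Set.range D.z.left)ᶜ := by
    rw [isConstructible_compl, ← Set.image_univ]
    exact D.z.left.isConstructible_image IsConstructible.univ
  have hB : IsConstructible (D.c.left '' (Set.range D.z.left)ᶜ)ᶜ :=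
    (D.c.left.isConstructible_image hzr).compl
  have key : locus D he inferInstance = A ∩ (D.c.left '' (Set.range D.z.left)ᶜ)ᶜ := by
    ext t
    let F := (𝟙 T.left : T.left ⟶ T.left).fiber t
    let ι := (𝟙 T.left : T.left ⟶ T.left).fiberι t
    have hr : Set.range ι = {t} := by rw [Scheme.Hom.range_fiberι]; simp
    let g : Over.mk (ι ≫ T.hom) ⟶ T := Over.homMk ι rfl
    constructor
    · intro ht
      obtain ⟨he', hp⟩ := pullback_in_secOpen D he inferInstance g
        (triv_of_range_subset D he inferInstance g (by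
          show Set.range ι ⊆ _
          rw [hr]; exact Set.singleton_subset_iff.2 ht))
      refine ⟨(inferInstance : FormallyUnramified (pullback.snd D.c.left g.left)), ?_⟩
      rintro ⟨y, hy, rfl⟩
      obtain ⟨t', ht'⟩ : D.c.left y ∈ Set.range ι := by rw [hr]; rfl
      obtain ⟨p, hp', -⟩ := Scheme.Pullback.exists_preimage_pullback (f := D.c.left) (g := g.left) y t' ht'.symm
      exact hy ((mem_secOpen D he inferInstance).1 (hp' ▸ hp p)).2
    · rintro ⟨hu, hb⟩
      refine mem_locus_of_fibre D he inferInstance fun y hy => ?_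
      obtain ⟨t', ht'⟩ : t ∈ Set.range ι := by rw [hr]; rfl
      obtain ⟨p, hp', -⟩ := Scheme.Pullback.exists_preimage_pullback (f := D.c.left) (g := ι) y t'
        (hy.trans ht'.symm)
      refine (mem_secOpen D he inferInstance).2 ⟨?_, ?_⟩
      · haveI : FormallyUnramified (pullback.snd D.c.left ι) := hu
        obtain ⟨O, hO, hOu⟩ := UnramPt.exists_nhd_of_baseChange D.c.left ι p ⊤ trivial
          (MorphismProperty.comp_mem _ _ _ inferInstance hu)
        exact mem_unr D (hp' ▸ hO) hOu
      · by_contra h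
        exact hb ⟨y, h, hy⟩
  have hc : IsConstructible (locus D he inferInstance) := by
    rw [key]
    exact hA.isConstructible.inter hB
  exact (ConsSet.isRetrocompact hc).isCompact

end mono

/-- the trivial locus exists -/
theorem exists_locus (hG : IsAlgSpace G) (he : e ≫ π = 𝟙 _) (hl : LocP @LocallyOfFinitePresentation π)
    (hsep : IsSeparatedMor π) (hcl : IsClosedMor π) (hqc : IsQuasiCompactMor π) :
    ∃ U : T.left.Opens, (∀ {T' : Over S} (g : T' ⟶ T), Triv π e g ↔ Set.range g.left ⊆ U) ∧
      (IsAffine T.left → IsCompact (U : Set T.left)) := by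
  have lfp : ∀ D : Chart π e, LocallyOfFinitePresentation D.c.left := fun D =>
    hl D.a (𝟙 _) D.c D.ha repWith_id' (by rw [Category.comp_id, D.hc])
  obtain ⟨Y, a, ha, hs⟩ := hG.atlas
  obtain ⟨D, -⟩ := exists_chart (π := π) (e := e) hG Y a ha hs
  haveI := lfp D
  refine ⟨⟨locus D he inferInstance, isOpen_locus D he inferInstance hcl⟩, fun g => triv_iff D he inferInstance g,
    fun hT => ?_⟩
  haveI := hT
  haveI : CompactSpace (Points G) := by
    refine compactSpace_of_isQuasiCompactSp (hqc (IsAlgSpace.yon_obj T) ?_ (𝟙 _) (𝟙 G) π (IsPullback.id_horiz π))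
    haveI : CompactSpace (Points ((yon S).obj T)) := (Points.schemeHomeo T).compactSpace
    exact isQuasiCompactSp_of_compactSpace (IsAlgSpace.yon_obj T)
  obtain ⟨Y', a', hY', ha', hs'⟩ := exists_affine_chart_of_compact hG
  obtain ⟨D', hD'⟩ := exists_chart (π := π) (e := e) hG Y' a' ha' hs'
  haveI := lfp D'
  haveI : IsAffine D'.Y.left := by rw [hD']; exact hY'
  have e' : locus D he inferInstance = locus D' he inferInstance := by
    ext t
    let g : Over.mk (T.left.fromSpecResidueField t ≫ T.hom) ⟶ T := Over.homMk (T.left.fromSpecResidueField t) rfl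
    have h := (triv_iff D he inferInstance g).symm.trans (triv_iff D' he inferInstance g)
    simpa [g, Scheme.range_fromSpecResidueField] using h
  show IsCompact (locus D he inferInstance)
  rw [e']
  exact isCompact_locus D' he (lfp D') hsep hcl

end Groth.Agent.IsoNatLib.TrivLocus

end
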