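import Groth.Agent.IsoNatLib.Glue
import Groth.Agent.IsoNatLib.Transport
import Mathlib.AlgebraicGeometry.Morphisms.Flat

/-!
# Twisted objects and separatedness of isomorphism classes

An automorphism over the intersection of two open pieces of `X` twists an object over `X`; when isomorphism
classes are separated for fppf coverings the twist is trivial.
-/

set_option autoImplicit false
set_option backward.isDefEq.respectTransparency false
set_option backward.isDefEq.respectTransparency.types false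
set_option linter.style.haveILetI false
universe u

noncomputable section

namespace Groth.Agent.IsoNatLib

open CategoryTheory CategoryTheory.Limits AlgebraicGeometry Groth.Agent.FibCatRep

variable {S : Scheme.{u}} {𝒳 : AlgSt.Cat S}

/-- isomorphism classes are separated for fppf coverings by a single morphism -/
def SepIsoCl (𝒳 : AlgSt.Cat S) : Prop :=
  ∀ (T T' : Over S) (π : T' ⟶ T) [Flat π.left] [Surjective π.left] [LocallyOfFinitePresentation π.left]
    (x₁ x₂ : 𝒳.p.Fiber T) (x₁' x₂' : 𝒳.p.Fiber T') (a₁ : x₁'.1 ⟶ x₁.1) (a₂ : x₂'.1 ⟶ x₂.1),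
    𝒳.p.IsHomLift π a₁ → 𝒳.p.IsHomLift π a₂ → Nonempty (x₁' ≅ x₂') → Nonempty (x₁ ≅ x₂)

section twist

variable (hS : Stk.IsStack (Jf S) 𝒳) {X : Over S} {Y : Bool → Over S} (j : ∀ b, Y b ⟶ X)
  (hj : ∀ b, IsOpenImmersion (j b).left) (hcov : ∀ t : X.left, ∃ b, t ∈ Set.range (j b).left)
  (G₀ : FibCat.overCat X ⥤ᵇ 𝒳)

/-- the test scheme maps into the piece -/
abbrev InPiece (b : Bool) (w : Over X) : Prop := InOpen w (Set.range (j b).left)

variable (Γ : ∀ w : Over X, G₀.obj w ≅ G₀.obj w)

/-- the change of piece -/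
def chg : Bool → Bool → ∀ w : Over X, G₀.obj w ⟶ G₀.obj w
  | false, true => fun w => (Γ w).hom
  | true, false => fun w => (Γ w).inv
  | true, true => fun _ => 𝟙 _
  | false, false => fun _ => 𝟙 _

lemma chg_comp (a b c : Bool) (w : Over X) : chg G₀ Γ a b w ≫ chg G₀ Γ b c w = chg G₀ Γ a c w := by
  cases a <;> cases b <;> cases c <;> simp [chg]

lemma chg_self (a : Bool) (w : Over X) : chg G₀ Γ a a w = 𝟙 _ := by cases a <;> rfl

variable (hΓ : ∀ w, 𝒳.p.map (Γ w).hom = 𝟙 _)

include hΓ in
lemma map_chg (a b : Bool) (w : Over X) : 𝒳.p.map (chg G₀ Γ a b w) = 𝟙 _ := by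
  have h : 𝒳.p.map (Γ w).inv = 𝟙 _ := by
    have e : 𝒳.p.map (Γ w).hom ≫ 𝒳.p.map (Γ w).inv = 𝟙 _ := by
      rw [← Functor.map_comp, Iso.hom_inv_id, CategoryTheory.Functor.map_id]
    rwa [hΓ, Category.id_comp] at e
  cases a <;> cases b <;> simp [chg, hΓ, h]

variable (hnat : ∀ {w' w : Over X} (m : w' ⟶ w), InPiece j true w → InPiece j false w →
  G₀.map m ≫ (Γ w).hom = (Γ w').hom ≫ G₀.map m)

include hnat in
lemma chg_natural (a b : Bool) {w' w : Over X} (m : w' ⟶ w) (ha : InPiece j a w) (hb : InPiece j b w) :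
    G₀.map m ≫ chg G₀ Γ a b w = chg G₀ Γ a b w' ≫ G₀.map m := by
  cases a <;> cases b
  · simp [chg]
  · exact hnat m hb ha
  · show G₀.map m ≫ (Γ w).inv = (Γ w').inv ≫ G₀.map m
    rw [Iso.comp_inv_eq, Category.assoc, hnat m ha hb, Iso.inv_hom_id_assoc]
  · simp [chg]

include hS hj hcov hΓ hnat in
/-- the twisted object -/
theorem exists_twist : ∃ (G : FibCat.overCat X ⥤ᵇ 𝒳) (θ : ∀ (b : Bool) (w : Over X), InPiece j b w → (G₀.obj w ⟶ G.obj w)),
    (∀ b w h, 𝒳.p.map (θ b w h) = eqToHom ((G₀.w_obj w).trans (G.w_obj w).symm)) ∧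
    (∀ (b : Bool) {w' w : Over X} (m : w' ⟶ w) (h : InPiece j b w),
      G₀.map m ≫ θ b w h = θ b w' (h.of_hom m) ≫ G.map m) ∧
    ∀ w (ht : InPiece j true w) (hf : InPiece j false w), θ false w hf = (Γ w).hom ≫ θ true w ht := by
  classical
  let R : Sieve X := Sieve.generate (Presieve.ofArrows Y j)
  have hR : R ∈ Jf S X := mem_J_of_opens j hj hcov
  let idx : Over X → Bool := fun w => if InPiece j true w then true else false
  have hmemR : ∀ b w, InPiece j b w → R w.hom := fun b w h => by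
    haveI := hj b
    refine ⟨Y b, Over.homMk (IsOpenImmersion.lift (j b).left w.hom.left h) ?_, j b, ⟨b⟩, ?_⟩
    · show _ ≫ (Y b).hom = w.left.hom
      rw [← Over.w (j b), ← Category.assoc, IsOpenImmersion.lift_fac, Over.w w.hom]
    · ext1
      exact IsOpenImmersion.lift_fac _ _ _
  have hidx : ∀ w : (Stk.sieveCat R).obj, InPiece j (idx w.obj) w.obj := fun w => by
    obtain ⟨Z, a, _, ⟨b⟩, e⟩ := w.property
    have hb : InPiece j b w.obj := by
      rintro _ ⟨t, rfl⟩
      exact ⟨a.left t, by rw [← e]; rfl⟩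
    by_cases h : InPiece j true w.obj
    · simpa [idx, h] using h
    · cases b
      · simpa [idx, h] using hb
      · exact absurd hb h
  let H : Stk.sieveCat R ⥤ᵇ 𝒳 :=
    { toFunctor :=
        { obj := fun w => G₀.obj w.obj
          map := fun {w' w} m => chg G₀ Γ (idx w'.obj) (idx w.obj) w'.obj ≫ G₀.map m.hom
          map_id := fun w => by
            rw [chg_self, Category.id_comp]
            exact G₀.toFunctor.map_id w.obj
          map_comp := fun {w₂ w₁ w} m n => by
            have h₁ : InPiece j (idx w.obj) w₁.obj := (hidx w).of_hom n.hom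
            rw [Category.assoc, reassoc_of% chg_natural j G₀ Γ hnat _ _ m.hom (hidx w₁) h₁,
              reassoc_of% chg_comp G₀ Γ (idx w₂.obj) (idx w₁.obj) (idx w.obj) w₂.obj]
            exact congrArg (_ ≫ ·) (G₀.toFunctor.map_comp m.hom n.hom) }
      w := CategoryTheory.Functor.ext (fun w => G₀.w_obj w.obj) fun w' w m => by
        show 𝒳.p.map (chg G₀ Γ _ _ _ ≫ G₀.map m.hom) = _
        rw [Functor.map_comp, map_chg G₀ Γ hΓ, Category.id_comp, map_map]
        rfl }
  haveI : (Stk.resSieve R 𝒳).IsEquivalence := hS.2 R hR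
  let G := (Stk.resSieve R 𝒳).objPreimage H
  let α : H ⟶ (Stk.resSieve R 𝒳).obj G := ((Stk.resSieve R 𝒳).objObjPreimageIso H).inv
  have hα : ∀ {w' w : (Stk.sieveCat R).obj} (m : w' ⟶ w),
      (chg G₀ Γ (idx w'.obj) (idx w.obj) w'.obj ≫ G₀.map m.hom) ≫ α.toNatTrans.app w =
        α.toNatTrans.app w' ≫ G.map m.hom := fun m => α.toNatTrans.naturality m
  let θ : ∀ (b : Bool) (w : Over X), InPiece j b w → (G₀.obj w ⟶ G.obj w) := fun b w h =>
    chg G₀ Γ b (idx w) w ≫ α.toNatTrans.app ⟨w, hmemR b w h⟩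
  refine ⟨G, θ, fun b w h => ?_, fun b {w' w} m h => ?_, fun w ht hf => ?_⟩
  · show 𝒳.p.map (_ ≫ _) = _
    rw [Functor.map_comp, map_chg G₀ Γ hΓ, Category.id_comp]
    exact map_app α ⟨w, hmemR b w h⟩
  · let wR : (Stk.sieveCat R).obj := ⟨w, hmemR b w h⟩
    let wR' : (Stk.sieveCat R).obj := ⟨w', hmemR b w' (h.of_hom m)⟩
    show G₀.map m ≫ chg G₀ Γ b (idx w) w ≫ α.toNatTrans.app wR =
      (chg G₀ Γ b (idx w') w' ≫ α.toNatTrans.app wR') ≫ G.map m
    rw [reassoc_of% chg_natural j G₀ Γ hnat b (idx w) m h (hidx wR)]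
    have e : (chg G₀ Γ (idx w') (idx w) w' ≫ G₀.map m) ≫ α.toNatTrans.app wR = α.toNatTrans.app wR' ≫ G.map m :=
      hα (w' := wR') (w := wR) (ObjectProperty.homMk m)
    simp only [Category.assoc] at e ⊢
    rw [← e, reassoc_of% chg_comp G₀ Γ b (idx w') (idx w) w']
  · have e : idx w = true := if_pos ht
    show chg G₀ Γ false (idx w) w ≫ _ = _ ≫ chg G₀ Γ true (idx w) w ≫ _
    rw [e]
    show (Γ w).hom ≫ _ = (Γ w).hom ≫ 𝟙 _ ≫ _
    rw [Category.id_comp]

include hS hj hcov hΓ hnat in
/-- when isomorphism classes are separated the twist is a coboundary -/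
theorem exists_coboundary (hsep : SepIsoCl 𝒳) :
    ∃ a : ∀ (b : Bool) (w : Over X), InPiece j b w → (G₀.obj w ⟶ G₀.obj w),
      (∀ b w h, 𝒳.p.map (a b w h) = 𝟙 _) ∧
      (∀ (b : Bool) {w' w : Over X} (m : w' ⟶ w) (h : InPiece j b w),
        G₀.map m ≫ a b w h = a b w' (h.of_hom m) ≫ G₀.map m) ∧
      ∀ w (ht : InPiece j true w) (hf : InPiece j false w), a false w hf = (Γ w).hom ≫ a true w ht := by
  classical
  obtain ⟨G, θ, hθ, hθn, hθg⟩ := exists_twist hS j hj hcov G₀ Γ hΓ hnat
  have hg := hS.1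
  let T' : Over S := Over.mk (coprod.desc (Y true).hom (Y false).hom)
  let π : T' ⟶ X := Over.homMk (coprod.desc (j true).left (j false).left)
    (coprod.hom_ext (by simp [T', Over.w]) (by simp [T', Over.w]))
  let inc : ∀ b, Y b ⟶ T' := fun b => match b with
    | true => Over.homMk coprod.inl (coprod.inl_desc _ _)
    | false => Over.homMk coprod.inr (coprod.inr_desc _ _)
  have hinc : ∀ b, IsOpenImmersion (inc b).left := fun b => match b with
    | true => (inferInstance : IsOpenImmersion (coprod.inl : (Y true).left ⟶ (Y true).left ⨿ (Y false).left))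
    | false => (inferInstance : IsOpenImmersion (coprod.inr : (Y false).left ⟶ (Y true).left ⨿ (Y false).left))
  have hincπ : ∀ b, inc b ≫ π = j b := fun b => by
    cases b
    · ext1; exact coprod.inr_desc _ _
    · ext1; exact coprod.inl_desc _ _
  have hcovT : ∀ t : T'.left, ∃ b, t ∈ Set.range (inc b).left := fun t => by
    obtain ⟨(s | s), rfl⟩ := (coprodMk (Y true).left (Y false).left).surjective t
    · exact ⟨true, s, (coprodMk_inl _ _ s).symm⟩
    · exact ⟨false, s, (coprodMk_inr _ _ s).symm⟩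
  have hdisj : ∀ b b', b ≠ b' → Disjoint (Set.range (inc b).left) (Set.range (inc b').left) := by
    intro b b' h
    cases b <;> cases b'
    · exact absurd rfl h
    · exact (isCompl_range_inl_inr _ _).disjoint.symm
    · exact (isCompl_range_inl_inr _ _).disjoint
    · exact absurd rfl h
  haveI : Surjective π.left := ⟨fun t => by
    obtain ⟨b, s, hs⟩ := hcov t
    exact ⟨(inc b).left s, by rw [← hincπ b] at hs; exact hs⟩⟩
  haveI := hj true
  haveI := hj false
  haveI : Flat π.left := IsZariskiLocalAtSource.of_openCover (P := @Flat)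
    (coprodOpenCover.{u, 0} (Y true).left (Y false).left) fun i => by
      rcases i with i | i
      · show Flat (coprod.inl ≫ coprod.desc (j true).left (j false).left)
        rw [coprod.inl_desc]; infer_instance
      · show Flat (coprod.inr ≫ coprod.desc (j true).left (j false).left)
        rw [coprod.inr_desc]; infer_instance
  haveI : LocallyOfFinitePresentation π.left := IsZariskiLocalAtSource.of_openCover
    (P := @LocallyOfFinitePresentation) (coprodOpenCover.{u, 0} (Y true).left (Y false).left) fun i => by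
      rcases i with i | i
      · show LocallyOfFinitePresentation (coprod.inl ≫ coprod.desc (j true).left (j false).left)
        rw [coprod.inl_desc]; infer_instance
      · show LocallyOfFinitePresentation (coprod.inr ≫ coprod.desc (j true).left (j false).left)
        rw [coprod.inr_desc]; infer_instance
  -- the trivialisation over the disjoint union of the pieces
  let R₁ : Sieve T' := Sieve.generate (Presieve.ofArrows Y inc)
  have hR₁ : R₁ ∈ Jf S T' := mem_J_of_opens inc hinc hcovT
  have hchoice : ∀ w : (Stk.sieveCat R₁).obj, ∃ b, InOpen w.obj (Set.range (inc b).left) := fun w => by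
    obtain ⟨Z, c, _, ⟨b⟩, e⟩ := w.property
    refine ⟨b, ?_⟩
    rintro _ ⟨t, rfl⟩
    exact ⟨c.left t, by rw [← e]; rfl⟩
  choose β hβ using hchoice
  have hβP : ∀ (b : Bool) (w : Over T'), InOpen w (Set.range (inc b).left) →
      InPiece j b ((AlgSt.overMap π).obj w) := fun b w h => by
    rintro _ ⟨t, rfl⟩
    obtain ⟨s, hs⟩ := h ⟨t, rfl⟩
    refine ⟨s, ?_⟩
    show (j b).left s = π.left (w.hom.left t)
    rw [← hs, ← hincπ b]
    rfl
  let F₀ := BasedFunctor.comp (AlgSt.overMap π) G₀
  let F := BasedFunctor.comp (AlgSt.overMap π) G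
  let η : (Stk.resSieve R₁ 𝒳).obj F₀ ⟶ (Stk.resSieve R₁ 𝒳).obj F :=
    { app := fun w => θ (β w) _ (hβP _ w.obj (hβ w))
      naturality := fun w' w m => by
        show G₀.map ((AlgSt.overMap π).map m.hom) ≫ θ (β w) _ _ = θ (β w') _ _ ≫ G.map ((AlgSt.overMap π).map m.hom)
        rw [hθn (β w) _ (hβP _ w.obj (hβ w))]
        by_cases h : β w = β w'
        · congr 2
        · have hE : IsEmpty w'.obj.left.left :=
            isEmpty_of_inOpen (hdisj _ _ h) ((hβ w).of_hom m.hom) (hβ w')
          haveI : IsEmpty (𝒳.p.obj (G₀.obj ((AlgSt.overMap π).obj w'.obj))).left := by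
            rw [G₀.w_obj]
            exact hE
          exact eq_of_isEmpty hS _ _ (by simp [hθ])
      isHomLift' := fun w => IsHomLift.of_fac' 𝒳.p _ _ (F₀.w_obj w.obj) (F.w_obj w.obj) (by
        rw [hθ]
        simp) }
  haveI : (Stk.resSieve R₁ 𝒳).IsEquivalence := hS.2 R₁ hR₁
  obtain ⟨η', -⟩ := (Stk.resSieve R₁ 𝒳).map_surjective η
  -- separatedness
  let top : ∀ (Z : Over S), (FibCat.overCat Z).obj := fun Z => Over.mk (𝟙 Z)
  let m : (AlgSt.overMap π).obj (top T') ⟶ top X :=
    Over.homMk π (show π ≫ 𝟙 X = 𝟙 T' ≫ π by rw [Category.comp_id, Category.id_comp])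
  haveI : (FibCat.overCat X).p.IsHomLift π m := IsHomLift.of_fac' _ _ _ rfl rfl (by simp [m]; rfl)
  have hiso := hsep X T' π ⟨G₀.obj (top X), G₀.w_obj _⟩ ⟨G.obj (top X), G.w_obj _⟩
    ⟨F₀.obj (top T'), F₀.w_obj _⟩ ⟨F.obj (top T'), F.w_obj _⟩ (G₀.map m) (G.map m)
    (BasedFunctor.preserves_isHomLift G₀ π m) (BasedFunctor.preserves_isHomLift G π m)
    (Quotient.exact (cls_eq_of_vertical hg _ _ (η'.toNatTrans.app (top T')) (map_app η' (top T'))))
  obtain ⟨i⟩ := (nonempty_iso_iff hg G₀ G).2 (Quotient.sound hiso)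
  refine ⟨fun b w h => θ b w h ≫ i.inv.toNatTrans.app w, fun b w h => ?_, fun b {w' w} n h => ?_,
    fun w ht hf => ?_⟩
  · rw [Functor.map_comp, hθ, map_app]
    simp
  · rw [reassoc_of% hθn b n h, Category.assoc, ← i.inv.toNatTrans.naturality n]
  · show θ false w hf ≫ _ = _ ≫ θ true w ht ≫ _
    rw [hθg w ht hf, Category.assoc]

end twist

end Groth.Agent.IsoNatLib

end
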